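import Groth.Agent.H11SetBC.GeomRed
import Groth.Agent.S1461
import Groth.Agent.H7Lim.DescendFlat
import Groth.Agent.H26Sym.BC

/-!
# Geometrically connected fibres of strict localizations of flat maps with geometrically reduced fibres
-/

set_option autoImplicit false
set_option linter.style.haveILetI false
set_option linter.unusedSectionVars false
set_option backward.isDefEq.respectTransparency false

universe u

open CategoryTheory CategoryTheory.Limits AlgebraicGeometry IsLocalRing
open scoped TensorProduct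

namespace Groth.Agent.H11SetBC

section Algebra

variable {A0 C0 R C : Type u} [CommRing A0] [CommRing C0] [Algebra A0 C0] [CommRing R] [CommRing C]
  {LR LC RS RX : Type u} [CommRing LR] [IsLocalRing LR] [CommRing LC] [IsLocalRing LC]
  [CommRing RS] [IsLocalRing RS] [Algebra LR RS] [IsLocalHom (algebraMap LR RS)]
  [Hensel.IsStrictHenselization LR RS]
  [CommRing RX] [IsLocalRing RX] [Algebra LC RX] [IsLocalHom (algebraMap LC RX)]
  [Hensel.IsStrictHenselization LC RX]

/-- The algebraic form: maps of strict henselizations of localizations of base changes. -/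
theorem connectedSpace_tensor_of_pushout [IsNoetherianRing A0] [Module.Flat A0 C0]
    (hred : ∀ (L : Type u) [Field L] [Algebra A0 L], _root_.IsReduced (C0 ⊗[A0] L))
    (f : R →+* C) (i0 : A0 →+* R) (i1 : C0 →+* C)
    (sq : IsPushout (CommRingCat.ofHom (algebraMap A0 C0)) (CommRingCat.ofHom i0)
      (CommRingCat.ofHom i1) (CommRingCat.ofHom f))
    (pC : Ideal C) [pC.IsPrime] [Algebra C LC] [IsLocalization.AtPrime LC pC]
    (rR : R →+* LR) (pR : Ideal R) [pR.IsPrime]
    (hR : letI := rR.toAlgebra; IsLocalization.AtPrime LR pR)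
    (m : LR →+* LC) [IsLocalHom m] (hm : m.comp rR = (algebraMap C LC).comp f)
    [Algebra RS RX] [Module.Flat RS RX] [IsLocalHom (algebraMap RS RX)]
    (hψ : (algebraMap RS RX).comp (algebraMap LR RS) = (algebraMap LC RX).comp m)
    (K : Type u) [Field K] [Algebra RS K] : ConnectedSpace (PrimeSpectrum (K ⊗[RS] RX)) := by
  haveI : HenselianLocalRing RS := Hensel.IsStrictHenselization.henselian (R := LR)
  haveI : HenselianLocalRing RX := Hensel.IsStrictHenselization.henselian (R := LC)
  haveI : IsSepClosed (ResidueField RS) :=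
    (Hensel.IsStrictHenselization.isSepClosure (R := LR) (S := RS)).sep_closed
  haveI : IsSepClosed (ResidueField RX) :=
    (Hensel.IsStrictHenselization.isSepClosure (R := LC) (S := RX)).sep_closed
  let aS : A0 →+* RS := ((algebraMap LR RS).comp rR).comp i0
  letI : Algebra A0 RS := aS.toAlgebra
  letI : Algebra A0 RX := ((algebraMap RS RX).comp aS).toAlgebra
  let ψ : RS →ₐ[A0] RX := { algebraMap RS RX with commutes' := fun _ => rfl }
  haveI : IsLocalHom ψ.toRingHom := ‹IsLocalHom (algebraMap RS RX)›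
  have hw : i1.comp (algebraMap A0 C0) = f.comp i0 := congrArg CommRingCat.Hom.hom sq.w
  let j : C0 →ₐ[A0] RX :=
    { ((algebraMap LC RX).comp (algebraMap C LC)).comp i1 with
      commutes' := fun a => by
        show algebraMap LC RX (algebraMap C LC (i1 (algebraMap A0 C0 a))) =
          algebraMap RS RX (algebraMap LR RS (rR (i0 a)))
        rw [← RingHom.comp_apply (algebraMap RS RX), hψ, RingHom.comp_apply, ← RingHom.comp_apply m, hm,
          ← RingHom.comp_apply i1, hw]
        rfl }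
  refine connectedSpace_tensor_of_lift A0 C0 ψ j rfl hred (fun T _ _ _ π _ jC ι _ hAC hπj hπι => ?_) K
  let h : C →+* T := (sq.desc (CommRingCat.ofHom jC) (CommRingCat.ofHom ((ι.comp (algebraMap LR RS)).comp rR))
    (CommRingCat.hom_ext hAC)).hom
  have h1 : h.comp i1 = jC := congrArg CommRingCat.Hom.hom (sq.inl_desc _ _ _)
  have h2 : h.comp f = (ι.comp (algebraMap LR RS)).comp rR := congrArg CommRingCat.Hom.hom (sq.inr_desc _ _ _)
  have hπh : π.comp h = (algebraMap LC RX).comp (algebraMap C LC) := by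
    suffices hh : CommRingCat.ofHom (π.comp h) = CommRingCat.ofHom ((algebraMap LC RX).comp (algebraMap C LC)) from
      congrArg CommRingCat.Hom.hom hh
    refine sq.hom_ext (CommRingCat.hom_ext ?_) (CommRingCat.hom_ext ?_)
    · show (π.comp h).comp i1 = _
      rw [RingHom.comp_assoc, h1, hπj]
      rfl
    · show (π.comp h).comp f = ((algebraMap LC RX).comp (algebraMap C LC)).comp f
      rw [RingHom.comp_assoc, h2, ← RingHom.comp_assoc, ← RingHom.comp_assoc, hπι]
      show ((algebraMap RS RX).comp (algebraMap LR RS)).comp rR = _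
      rw [hψ, RingHom.comp_assoc, hm, ← RingHom.comp_assoc]
  have hu : ∀ y : pC.primeCompl, IsUnit (h y) := fun y => by
    refine IsUnit.of_map π _ ?_
    rw [← RingHom.comp_apply, hπh]
    exact (IsLocalization.map_units LC y).map (algebraMap LC RX)
  let h' : LC →+* T := IsLocalization.lift (M := pC.primeCompl) (g := h) hu
  have hh' : π.comp h' = (RingHom.id RX).comp (algebraMap LC RX) := by
    refine IsLocalization.ringHom_ext pC.primeCompl ?_
    rw [RingHom.comp_assoc, IsLocalization.lift_comp, hπh, RingHom.id_comp]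
  haveI : IsLocalHom h' := by
    haveI : IsLocalHom (π.comp h') := by rw [hh', RingHom.id_comp]; infer_instance
    exact isLocalHom_of_comp h' π
  haveI : IsLocalHom (RingHom.id RX) := ⟨fun _ hx => hx⟩
  obtain ⟨ρ, ⟨hρl, hρ, hπρ⟩, -⟩ := existsUnique_lift π h' (RingHom.id RX) hh'
  refine ⟨ρ, hπρ, ?_⟩
  haveI := hρl
  haveI : IsLocalHom (ι.comp (algebraMap LR RS)) := RingHom.isLocalHom_comp _ _
  haveI : IsLocalHom (ρ.comp ψ.toRingHom) := RingHom.isLocalHom_comp _ _
  refine (existsUnique_lift π (ι.comp (algebraMap LR RS)) ψ.toRingHom (by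
    rw [← RingHom.comp_assoc, hπι])).unique ⟨inferInstance, ?_, ?_⟩ ⟨inferInstance, rfl, hπι⟩
  · letI := rR.toAlgebra
    haveI := hR
    refine IsLocalization.ringHom_ext pR.primeCompl ?_
    show (ρ.comp ((algebraMap RS RX).comp (algebraMap LR RS))).comp rR = (ι.comp (algebraMap LR RS)).comp rR
    rw [hψ, ← RingHom.comp_assoc, hρ, RingHom.comp_assoc, hm, ← RingHom.comp_assoc,
      IsLocalization.lift_comp, h2]
  · rw [← RingHom.comp_assoc, hπρ, RingHom.id_comp]

theorem exists_flat_reduced_model {R C : Type u} [CommRing R] [CommRing C] (f : R →+* C) (hflat : f.Flat)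
    (hfp : f.FinitePresentation) [GeometricallyReduced (Spec.map (CommRingCat.ofHom f))] :
    ∃ (A0 C0 : Type u) (_ : CommRing A0) (_ : CommRing C0) (_ : Algebra A0 C0) (i0 : A0 →+* R) (i1 : C0 →+* C),
      IsNoetherianRing A0 ∧ IsNoetherianRing C0 ∧ Module.Flat A0 C0 ∧
      (∀ (L : Type u) [Field L] [Algebra A0 L], _root_.IsReduced (C0 ⊗[A0] L)) ∧
      IsPushout (CommRingCat.ofHom (algebraMap A0 C0)) (CommRingCat.ofHom i0)
        (CommRingCat.ofHom i1) (CommRingCat.ofHom f) := by
  haveI : LocallyOfFinitePresentation (Spec.map (CommRingCat.ofHom f)) :=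
    (HasRingHomProperty.Spec_iff (P := @LocallyOfFinitePresentation)).mpr hfp
  obtain ⟨X₀, S₀, f₀, g, g', _, _, hpb, hft, hf₀, hgr⟩ := Groth.Agent.S1461.result (Spec.map (CommRingCat.ofHom f))
  let A1 : Type u := Γ(S₀, ⊤)
  let B1 : Type u := Γ(X₀, ⊤)
  letI : Algebra A1 B1 := f₀.appTop.hom.toAlgebra
  haveI : IsNoetherianRing A1 := Algebra.FiniteType.isNoetherianRing ℤ A1
  haveI : Algebra.FiniteType A1 B1 := HasRingHomProperty.appTop (P := @LocallyOfFiniteType) f₀ hf₀
  haveI : Algebra.FinitePresentation A1 B1 := Algebra.FinitePresentation.of_finiteType.1 inferInstance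
  let uR : A1 →+* R := (Scheme.ΓSpecIso (CommRingCat.of R)).hom.hom.comp g.appTop.hom
  let uC : B1 →+* C := (Scheme.ΓSpecIso (CommRingCat.of C)).hom.hom.comp g'.appTop.hom
  have sq1 : IsPushout (CommRingCat.ofHom (algebraMap A1 B1)) (CommRingCat.ofHom uR)
      (CommRingCat.ofHom uC) (CommRingCat.ofHom f) := by
    refine (isPushout_appTop_of_isPullback hpb).of_iso (Iso.refl _) (Iso.refl _) (Scheme.ΓSpecIso _)
      (Scheme.ΓSpecIso _) ?_ ?_ ?_ ?_
    · exact (Category.comp_id _).trans (Category.id_comp _).symm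
    · exact (Category.id_comp _).symm
    · exact (Category.id_comp _).symm
    · exact Scheme.ΓSpecIso_naturality (CommRingCat.ofHom f)
  letI : Algebra A1 R := uR.toAlgebra
  letI : Algebra R C := f.toAlgebra
  letI : Algebra B1 C := uC.toAlgebra
  letI : Algebra A1 C := (f.comp uR).toAlgebra
  have hw1 : uC.comp (algebraMap A1 B1) = f.comp uR := congrArg CommRingCat.Hom.hom sq1.w
  haveI : IsScalarTower A1 R C := IsScalarTower.of_algebraMap_eq' rfl
  haveI : IsScalarTower A1 B1 C := IsScalarTower.of_algebraMap_eq' hw1.symm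
  haveI : Algebra.IsPushout A1 R B1 C :=
    CommRingCat.isPushout_iff_isPushout.1 sq1.flip
  haveI : Module.Flat R C := RingHom.flat_algebraMap_iff.1 hflat
  have hflat' : Module.Flat R (R ⊗[A1] B1) :=
    Module.Flat.of_linearEquiv (Algebra.IsPushout.equiv A1 R B1 C).toLinearEquiv
  let G : Finset R → Subalgebra A1 R := fun s => Algebra.adjoin A1 (s : Set R)
  have hG : H02CA.ColimTensor.Approx (fun s => (G s).val) (fun s => ↥(G s)) R (fun s => (G s).val)
      (fun φ => φ.1) := by
    refine H02CA.ColimTensor.approx_of_directed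
      (fun s t h => Subalgebra.inclusion (Algebra.adjoin_mono (Finset.coe_subset.2 h))) (fun _ _ _ => rfl)
      (fun a => ⟨{a}, ⟨a, Algebra.subset_adjoin (Finset.mem_coe.2 (Finset.mem_singleton_self a))⟩, rfl⟩)
      (fun s x hx => ⟨s, le_rfl, Subtype.ext hx⟩)
  obtain ⟨s, hs⟩ := H7Lim.exists_flat_stage hG B1 hflat'
  let A0 := ↥(G s)
  let C0 := A0 ⊗[A1] B1
  haveI : Algebra.FiniteType A1 A0 := (G s).fg_iff_finiteType.1 (Subalgebra.fg_adjoin_finset s)
  haveI : IsNoetherianRing A0 := Algebra.FiniteType.isNoetherianRing A1 A0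
  haveI : IsNoetherianRing C0 := Algebra.FiniteType.isNoetherianRing A0 C0
  let i1 : C0 →+* C := (Algebra.TensorProduct.lift ((IsScalarTower.toAlgHom A1 R C).comp (G s).val)
    (IsScalarTower.toAlgHom A1 B1 C) (fun _ _ => Commute.all _ _)).toRingHom
  refine ⟨A0, C0, inferInstance, inferInstance, inferInstance, (G s).val.toRingHom, i1, inferInstance,
    inferInstance, hs, fun L _ _ => ?_, ?_⟩
  · letI : Algebra A1 L := ((algebraMap A0 L).comp (algebraMap A1 A0)).toAlgebra
    haveI : IsScalarTower A1 A0 L := IsScalarTower.of_algebraMap_eq' rfl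
    haveI : GeometricallyReduced (Spec.map (CommRingCat.ofHom (algebraMap A1 B1))) :=
      ((MorphismProperty.arrow_mk_iso_iff @GeometricallyReduced (arrowIsoSpecΓOfIsAffine f₀)).1 hgr)
    haveI := H06GRConn.isReduced_tensor_of_geometricallyReduced (A := A1) (B := B1) L
    let e : C0 ⊗[A0] L ≃+* B1 ⊗[A1] L :=
      ((Algebra.TensorProduct.comm A0 C0 L).toRingEquiv.trans
        (Algebra.TensorProduct.cancelBaseChange A1 A0 L L B1).toRingEquiv).trans
        (Algebra.TensorProduct.comm A1 L B1).toRingEquiv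
    exact isReduced_of_injective e e.injective
  · have hi : i1.comp (algebraMap A0 C0) = f.comp (G s).val.toRingHom := RingHom.ext fun a => by
      refine (Algebra.TensorProduct.lift_tmul _ _ (fun _ _ => Commute.all _ _) a (1 : B1)).trans ?_
      simp only [map_one, mul_one]
      rfl
    refine IsPushout.of_top (h₁₁ := CommRingCat.ofHom (algebraMap A1 B1))
      (v₁₁ := CommRingCat.ofHom (algebraMap A1 A0))
      (v₁₂ := CommRingCat.ofHom (Algebra.TensorProduct.includeRight : B1 →ₐ[A1] C0).toRingHom) ?_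
      (CommRingCat.hom_ext hi) (CommRingCat.isPushout_tensorProduct A1 A0 B1).flip
    have h1 : CommRingCat.ofHom (algebraMap A1 A0) ≫ CommRingCat.ofHom (G s).val.toRingHom =
        CommRingCat.ofHom uR := rfl
    have h2 : CommRingCat.ofHom (Algebra.TensorProduct.includeRight : B1 →ₐ[A1] C0).toRingHom ≫
        CommRingCat.ofHom i1 = CommRingCat.ofHom uC := CommRingCat.hom_ext (RingHom.ext fun b => by
      refine (Algebra.TensorProduct.lift_tmul _ _ (fun _ _ => Commute.all _ _) (1 : A0) b).trans ?_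
      simp only [map_one, one_mul]
      rfl)
    rw [h1, h2]
    exact sq1

end Algebra

section Scheme

variable {X S : Scheme.{u}} (f : X ⟶ S)

theorem geometricallyReduced_openImmersion_comp {W : Scheme.{u}} (j : W ⟶ X) [IsOpenImmersion j]
    [GeometricallyReduced f] : GeometricallyReduced (j ≫ f) := by
  refine ⟨fun K _ y Z fst snd h => ?_⟩
  haveI : IsReduced (pullback f y) :=
    GeometricallyReduced.geometrically_isReduced _ _ _ (.of_hasPullback _ _)
  let m := pullback.map (j ≫ f) y f y j (𝟙 _) (𝟙 _) (Category.comp_id _) (by simp)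
  exact isReduced_of_isOpenImmersion (h.isoPullback.hom ≫ m)

theorem geometricallyReduced_appLE [GeometricallyReduced f] (U : S.Opens) (hU : IsAffineOpen U) (W : X.Opens)
    (hW : IsAffineOpen W) (e : W ≤ f ⁻¹ᵁ U) : GeometricallyReduced (Spec.map (f.appLE U W e)) := by
  haveI : IsAffine W := hW
  haveI : IsAffine U := hU
  have hres : GeometricallyReduced (f.resLE U W e) :=
    geometricallyReduced_openImmersion_comp (f ∣_ U) (X.homOfLE e)
  exact (MorphismProperty.arrow_mk_iso_iff @GeometricallyReduced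
    ((arrowIsoSpecΓOfIsAffine (f.resLE U W e)).trans
      (Scheme.Spec.mapArrow.mapIso (Arrow.isoMk (f := Arrow.mk (f.resLE U W e).appTop.op)
        (g := Arrow.mk (f.appLE U W e).op) W.topIso.symm.op U.topIso.symm.op (by
          have h := (arrowResLEAppIso f U W e).hom.w
          simp only [Arrow.mk_hom] at h ⊢
          apply Quiver.Hom.unop_inj
          simp [arrowResLEAppIso] at h ⊢))))).1 hres

/-- The geometric form on affine charts. -/
theorem shConn_chart (x : X) (U : S.Opens) (hU : IsAffineOpen U) (W : X.Opens) (hW : IsAffineOpen W)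
    (e : W ≤ f ⁻¹ᵁ U) (hx : x ∈ W) (A0 C0 : Type u) [CommRing A0] [CommRing C0] [Algebra A0 C0]
    [IsNoetherianRing A0] [Module.Flat A0 C0]
    (hred : ∀ (L : Type u) [Field L] [Algebra A0 L], _root_.IsReduced (C0 ⊗[A0] L))
    (i0 : A0 →+* Γ(S, U)) (i1 : C0 →+* Γ(X, W))
    (sq : IsPushout (CommRingCat.ofHom (algebraMap A0 C0)) (CommRingCat.ofHom i0)
      (CommRingCat.ofHom i1) (f.appLE U W e))
    (RS : Type u) [CommRing RS] [IsLocalRing RS] [Algebra (S.presheaf.stalk (f x)) RS]
    [IsLocalHom (algebraMap (S.presheaf.stalk (f x)) RS)]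
    [Hensel.IsStrictHenselization (S.presheaf.stalk (f x)) RS]
    (RX : Type u) [CommRing RX] [IsLocalRing RX] [Algebra (X.presheaf.stalk x) RX]
    [IsLocalHom (algebraMap (X.presheaf.stalk x) RX)] [Hensel.IsStrictHenselization (X.presheaf.stalk x) RX]
    (ψ : RS →+* RX) [IsLocalHom ψ] (hfl : ψ.Flat)
    (hψ : ψ.comp (algebraMap (S.presheaf.stalk (f x)) RS) =
      (algebraMap (X.presheaf.stalk x) RX).comp (f.stalkMap x).hom)
    (Ω : Type u) [Field Ω] (η : Spec (CommRingCat.of Ω) ⟶ Spec (CommRingCat.of RS)) :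
    ConnectedSpace ↥(pullback (Spec.map (CommRingCat.ofHom ψ)) η) := by
  letI : Algebra RS RX := ψ.toAlgebra
  haveI : Module.Flat RS RX := hfl
  haveI : IsLocalHom (algebraMap RS RX) := ‹IsLocalHom ψ›
  letI : Algebra RS Ω := (Spec.preimage η).hom.toAlgebra
  letI : Algebra Γ(X, W) (X.presheaf.stalk x) := TopCat.Presheaf.algebra_section_stalk X.presheaf ⟨x, hx⟩
  haveI : IsLocalization.AtPrime (X.presheaf.stalk x) (hW.primeIdealOf ⟨x, hx⟩).asIdeal :=
    hW.isLocalization_stalk ⟨x, hx⟩
  let rR : Γ(S, U) →+* S.presheaf.stalk (f x) := (S.presheaf.germ U (f x) (e hx)).hom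
  have hm : (f.stalkMap x).hom.comp rR =
      (algebraMap Γ(X, W) (X.presheaf.stalk x)).comp (f.appLE U W e).hom := by
    suffices hh : S.presheaf.germ U (f x) (e hx) ≫ f.stalkMap x = (f.appLE U W e) ≫ X.presheaf.germ W x hx from
      congrArg CommRingCat.Hom.hom hh
    rw [Scheme.Hom.germ_stalkMap]
    rw [Scheme.Hom.appLE, Category.assoc, TopCat.Presheaf.germ_res]
  haveI := connectedSpace_tensor_of_pushout (A0 := A0) (C0 := C0) (LR := S.presheaf.stalk (f x))
    (LC := X.presheaf.stalk x) (RS := RS) (RX := RX) hred (f.appLE U W e).hom i0 i1 sq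
    (hW.primeIdealOf ⟨x, hx⟩).asIdeal rR (hU.primeIdealOf ⟨f x, e hx⟩).asIdeal
    (hU.isLocalization_stalk ⟨f x, e hx⟩) (f.stalkMap x).hom hm hψ Ω
  have heη : Spec.map (CommRingCat.ofHom (algebraMap RS Ω)) = η := Spec.map_preimage η
  rw [← heη]
  haveI : ConnectedSpace ↥(Spec (CommRingCat.of (RX ⊗[RS] Ω))) :=
    H02CA.GeomIrred.connectedSpace_of_ringEquiv (Algebra.TensorProduct.comm RS RX Ω).toRingEquiv inferInstance
  exact (pullbackSpecIso RS RX Ω).inv.homeomorph.surjective.connectedSpace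
    (pullbackSpecIso RS RX Ω).inv.homeomorph.continuous

/-- The shape of hypothesis of the base change theorems for strict localizations. -/
def SHConnFibres : Prop :=
  ∀ (x : X) (RS : Type u) [CommRing RS] [IsLocalRing RS] [Algebra (S.presheaf.stalk (f.base x)) RS]
    [IsLocalHom (algebraMap (S.presheaf.stalk (f.base x)) RS)]
    [Hensel.IsStrictHenselization (S.presheaf.stalk (f.base x)) RS]
    (RX : Type u) [CommRing RX] [IsLocalRing RX] [Algebra (X.presheaf.stalk x) RX]
    [IsLocalHom (algebraMap (X.presheaf.stalk x) RX)] [Hensel.IsStrictHenselization (X.presheaf.stalk x) RX]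
    (ψ : RS →+* RX) [IsLocalHom ψ],
    ψ.comp (algebraMap (S.presheaf.stalk (f.base x)) RS) = (algebraMap (X.presheaf.stalk x) RX).comp (f.stalkMap x).hom →
    ψ.Flat ∧ ∀ (Ω : Type u) [Field Ω] [IsAlgClosed Ω] (η : Spec (CommRingCat.of Ω) ⟶ Spec (CommRingCat.of RS)),
      ConnectedSpace ↥(pullback (Spec.map (CommRingCat.ofHom ψ)) η)

/-- Flat maps locally of finite presentation with geometrically reduced fibres. -/
theorem shConnFibres_of_lfp [Flat f] [LocallyOfFinitePresentation f] [GeometricallyReduced f] :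
    SHConnFibres f := by
  intro x RS _ _ _ _ _ RX _ _ _ _ _ ψ _ hψ
  have hfl : ψ.Flat := H1DFun.flat_of_strictHenselization (f.stalkMap x).hom (Flat.stalkMap f x) ψ hψ
  refine ⟨hfl, fun Ω _ _ η => ?_⟩
  obtain ⟨_, ⟨U, hU, rfl⟩, hxU, -⟩ := S.isBasis_affineOpens.exists_subset_of_mem_open
    (Set.mem_univ (f x)) isOpen_univ
  obtain ⟨_, ⟨W, hW, rfl⟩, hxW, hWU⟩ := X.isBasis_affineOpens.exists_subset_of_mem_open
    (show x ∈ (f ⁻¹ᵁ U : Set X) from hxU) (f ⁻¹ᵁ U).isOpen
  haveI : GeometricallyReduced (Spec.map (CommRingCat.ofHom (f.appLE U W hWU).hom)) :=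
    geometricallyReduced_appLE f U hU W hW hWU
  obtain ⟨A0, C0, _, _, _, i0, i1, _, _, _, hred, sq⟩ := exists_flat_reduced_model (f.appLE U W hWU).hom
    (Flat.flat_appLE f hU hW hWU) (LocallyOfFinitePresentation.finitePresentation_appLE f hU hW hWU)
  exact shConn_chart f x U hU W hW hWU hxW A0 C0 hred i0 i1 sq RS RX ψ hfl hψ Ω η

/-- Base changes of flat maps to locally Noetherian schemes with geometrically reduced fibres. -/
theorem shConnFibres_of_noetherian {X₀ S₀ : Scheme.{u}} {g : X₀ ⟶ S₀} {b' : X ⟶ X₀} {b : S ⟶ S₀}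
    [IsLocallyNoetherian S₀] [Flat g] [GeometricallyReduced g]
    (sq : IsPullback b' f g b) : SHConnFibres f := by
  haveI : Flat f := MorphismProperty.of_isPullback (P := @Flat) sq inferInstance
  intro x RS _ _ _ _ _ RX _ _ _ _ _ ψ _ hψ
  have hfl : ψ.Flat := H1DFun.flat_of_strictHenselization (f.stalkMap x).hom (Flat.stalkMap f x) ψ hψ
  refine ⟨hfl, fun Ω _ _ η => ?_⟩
  obtain ⟨_, ⟨V, hV, rfl⟩, hxV, -⟩ := S₀.isBasis_affineOpens.exists_subset_of_mem_open
    (Set.mem_univ (b (f x))) isOpen_univ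
  obtain ⟨_, ⟨U, hU, rfl⟩, hxU, hUV⟩ := S.isBasis_affineOpens.exists_subset_of_mem_open
    (show f x ∈ (b ⁻¹ᵁ V : Set S) from hxV) (b ⁻¹ᵁ V).isOpen
  have hgx : g (b' x) = b (f x) := congrArg (fun q : X ⟶ S₀ => q x) sq.w
  obtain ⟨_, ⟨W₀, hW₀, rfl⟩, hxW₀, hW₀V⟩ := X₀.isBasis_affineOpens.exists_subset_of_mem_open
    (show b' x ∈ (g ⁻¹ᵁ V : Set X₀) from show g (b' x) ∈ (V : Set S₀) from hgx ▸ hxV) (g ⁻¹ᵁ V).isOpen
  let W : X.Opens := b' ⁻¹ᵁ W₀ ⊓ f ⁻¹ᵁ U
  have hW : IsAffineOpen W := H26Sym.isAffineOpen_inf_preimage sq hV hU hW₀ hUV hW₀V rfl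
  letI : Algebra Γ(S₀, V) Γ(X₀, W₀) := (g.appLE V W₀ hW₀V).hom.toAlgebra
  haveI : IsNoetherianRing Γ(S₀, V) := IsLocallyNoetherian.component_noetherian ⟨V, hV⟩
  haveI : Module.Flat Γ(S₀, V) Γ(X₀, W₀) := Flat.flat_appLE g hV hW₀ hW₀V
  haveI : GeometricallyReduced (Spec.map (CommRingCat.ofHom (algebraMap Γ(S₀, V) Γ(X₀, W₀)))) :=
    geometricallyReduced_appLE g V hV W₀ hW₀ hW₀V
  exact shConn_chart f x U hU W hW inf_le_right ⟨hxW₀, hxU⟩ Γ(S₀, V) Γ(X₀, W₀)
    (fun L _ _ => H06GRConn.isReduced_tensor_of_geometricallyReduced L) (b.appLE V U hUV).hom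
    (b'.appLE W₀ W inf_le_left).hom (H26Sym.isPushout_appLE sq hV hU hW₀ hUV hW₀V rfl) RS RX ψ hfl hψ Ω η

end Scheme

end Groth.Agent.H11SetBC
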