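import Mathlib.AlgebraicGeometry.AffineScheme

/-!
# Pairs of generalizations of a point in an affine scheme
-/

set_option autoImplicit false
set_option linter.style.haveILetI false

universe u

open CategoryTheory AlgebraicGeometry TopologicalSpace

namespace Groth.Agent.H11SetBC

theorem mem_basicOpen_iff_isoSpec {Q : Scheme.{u}} [IsAffine Q] (b : Γ(Q, ⊤)) (x : Q) :
    x ∈ Q.basicOpen b ↔ b ∉ (Q.isoSpec.hom x).asIdeal := by
  rw [← Scheme.toSpecΓ_preimage_basicOpen]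
  exact Iff.rfl

/-- If an open contains the pairs of generalizations of a point, it contains the pairs from a neighbourhood. -/
theorem exists_basicOpen_avoid {Q T : Scheme.{u}} [IsAffine Q] [IsAffine T] (q₁ q₂ : Q ⟶ T) (u : T) (L : Q.Opens)
    (h : ∀ x : Q, q₁ x ⤳ u → q₂ x ⤳ u → x ∈ L) :
    ∃ a : Γ(T, ⊤), u ∈ T.basicOpen a ∧ ∀ x : Q, q₁ x ∈ T.basicOpen a → q₂ x ∈ T.basicOpen a → x ∈ L := by
  have hC : IsClosed (Q.isoSpec.inv.base ⁻¹' (L : Set Q)ᶜ) := L.isOpen.isClosed_compl.preimage Q.isoSpec.inv.continuous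
  obtain ⟨I, hI⟩ := (PrimeSpectrum.isClosed_iff_zeroLocus_ideal _).1 hC
  have hIC : ∀ x : Q, I ≤ (Q.isoSpec.hom x).asIdeal ↔ x ∉ L := fun x => by
    refine Iff.trans (Iff.of_eq (congrArg (fun s => Q.isoSpec.hom x ∈ s) hI.symm)) ?_
    show Q.isoSpec.inv (Q.isoSpec.hom x) ∉ L ↔ _
    rw [← Scheme.Hom.comp_apply, Iso.hom_inv_id]
    rfl
  let p := (T.isoSpec.hom u).asIdeal
  haveI : p.IsPrime := (T.isoSpec.hom u).isPrime
  let μ : Γ(T, ⊤) →* Γ(Q, ⊤) :=
    { toFun := fun a => q₁.appTop a * q₂.appTop a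
      map_one' := by rw [map_one, map_one, one_mul]
      map_mul' := fun a b => by rw [map_mul, map_mul, mul_mul_mul_comm] }
  let M : Submonoid Γ(Q, ⊤) := p.primeCompl.map μ
  by_cases hdis : Disjoint (I : Set Γ(Q, ⊤)) (M : Set Γ(Q, ⊤))
  · exfalso
    obtain ⟨P, hP, hIP, hPM⟩ := Ideal.exists_le_prime_disjoint I M hdis
    let x : Q := Q.isoSpec.inv ⟨P, hP⟩
    have hx : Q.isoSpec.hom x = ⟨P, hP⟩ := by
      show Q.isoSpec.hom (Q.isoSpec.inv ⟨P, hP⟩) = _
      rw [← Scheme.Hom.comp_apply, Iso.inv_hom_id]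
      rfl
    have hxa : ∀ a, u ∈ T.basicOpen a → q₁ x ∈ T.basicOpen a ∧ q₂ x ∈ T.basicOpen a := fun a ha => by
      have hb : μ a ∉ P := Set.disjoint_right.1 hPM ⟨a, (mem_basicOpen_iff_isoSpec a u).1 ha, rfl⟩
      have hb' : x ∈ Q.basicOpen (q₁.appTop a * q₂.appTop a) :=
        (mem_basicOpen_iff_isoSpec _ x).2 (hx ▸ hb)
      rw [Scheme.basicOpen_mul] at hb'
      constructor
      · have := hb'.1; rwa [← Scheme.preimage_basicOpen_top] at this
      · have := hb'.2; rwa [← Scheme.preimage_basicOpen_top] at this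
    have hsp : ∀ i : Bool, (bif i then q₁ else q₂) x ⤳ u := fun i => by
      refine specializes_iff_forall_open.2 fun W hW huW => ?_
      obtain ⟨_, ⟨a, rfl⟩, ha, haW⟩ := Opens.isBasis_iff_nbhd.1 (isBasis_basicOpen T) (U := ⟨W, hW⟩) huW
      cases i
      · exact haW (hxa a ha).2
      · exact haW (hxa a ha).1
    exact (hIC x).1 (hx.symm ▸ hIP) (h x (hsp true) (hsp false))
  · obtain ⟨b, hbI, a, ha, rfl⟩ := Set.not_disjoint_iff.1 hdis
    refine ⟨a, (mem_basicOpen_iff_isoSpec a u).2 ha, fun x h1 h2 => ?_⟩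
    by_contra hx
    have h1' : x ∈ q₁ ⁻¹ᵁ T.basicOpen a := h1
    have h2' : x ∈ q₂ ⁻¹ᵁ T.basicOpen a := h2
    rw [Scheme.preimage_basicOpen_top] at h1' h2'
    exact (Q.isoSpec.hom x).isPrime.mem_or_mem ((hIC x).2 hx hbI) |>.elim
      ((mem_basicOpen_iff_isoSpec _ x).1 h1') ((mem_basicOpen_iff_isoSpec _ x).1 h2')

end Groth.Agent.H11SetBC
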