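import Groth.Agent.H18PBC.DegreeZero
import Groth.Agent.H18Et.BaseChangeSh
import Groth.Agent.H18Et.PushClosed
import Groth.Agent.H18PBC.GeomConn
import Groth.Agent.H9Et.GeomConnOfAlgClosed
import Groth.Agent.H1DFun.SHConn
import Groth.Agent.H1DFun.Datum
import Groth.Agent.H11PBCSet.DegreeZeroSh

/-!
# Base change of direct images of sheaves of sets along maps with connected strict localizations
-/

set_option autoImplicit false
set_option linter.style.haveILetI false
set_option linter.unusedSectionVars false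
set_option backward.isDefEq.respectTransparency false
set_option backward.isDefEq.respectTransparency.types false

universe u

open CategoryTheory CategoryTheory.Limits AlgebraicGeometry Opposite
open scoped Groth.Agent.H18Et

namespace Groth.Agent.H11SetBC

open H15Site.SetDescent H18Et H18PBC H18PBC.Fibre H18PBC.DegZero H18PBC.LimSec Groth.Agent.H12AlgSp.EtStrictHens

section Lim

variable {T S : Scheme.{u}} {Ω : Type u} [Field Ω] [IsSepClosed Ω] (g : T ⟶ S)
  (ξ : Spec (CommRingCat.of Ω) ⟶ S) (G : EtDesc.Sh T)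

/-- A section of a stage, on the scheme over the strictly henselian local scheme. -/
noncomputable abbrev phiT (i : Nbhd.NI ξ) (s : G.obj.obj (op ((TX g ξ).obj i))) :=
  phi (coneX g ξ) (pullback.snd (Nbhd.toBase ξ) g) (coneX_hom g ξ) G i s

theorem germ_map_index {i k : Nbhd.NI ξ} (a : k ⟶ i) (s : G.obj.obj (op ((TX g ξ).obj i))) :
    germ ξ ((EtDesc.pushSh g).obj G) ((Nbhd.nb ξ).obj k) (Nbhd.zb ξ k) (G.obj.map ((TX g ξ).map a).op s) =
      germ ξ ((EtDesc.pushSh g).obj G) ((Nbhd.nb ξ).obj i) (Nbhd.zb ξ i) s := by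
  refine ((Scheme.pointSmallEtale ξ).toPresheafFiber_w_apply ((Nbhd.nb ξ).map a) (Nbhd.zb ξ k)
    ((EtDesc.pushSh g).obj G).obj s).trans ?_
  exact congrArg (fun y => germ ξ ((EtDesc.pushSh g).obj G) ((Nbhd.nb ξ).obj i) y s) (Nbhd.zb_map ξ a)

theorem exists_index_germ (p : ((Scheme.pointSmallEtale ξ).sheafFiber (A := Type (u + 1))).obj
      ((EtDesc.pushSh g).obj G)) :
    ∃ (i : Nbhd.NI ξ) (s : G.obj.obj (op ((TX g ξ).obj i))),
      germ ξ ((EtDesc.pushSh g).obj G) ((Nbhd.nb ξ).obj i) (Nbhd.zb ξ i) s = p := by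
  obtain ⟨V, z, s, rfl⟩ := germ_surjective ξ ((EtDesc.pushSh g).obj G) p
  obtain ⟨i, ⟨a, ha⟩⟩ := Nbhd.exists_index ξ ⟨V, z⟩
  exact ⟨i, _, H11PBCSet.germ_index_eq g ξ G z i a ha s⟩

theorem instances_TX [QuasiCompact g] [QuasiSeparated g] :
    (∀ ⦃a b : Nbhd.NI ξ⦄ (m : a ⟶ b), IsAffineHom ((sch (TX g ξ)).map m)) ∧
    (∀ a, CompactSpace ((sch (TX g ξ)).obj a)) ∧ (∀ a, QuasiSeparatedSpace ((sch (TX g ξ)).obj a)) := by
  refine ⟨fun a b m => ?_, fun a => ?_, fun a => ?_⟩
  · haveI : IsAffineHom ((Nbhd.nb ξ).map m).left := isAffineHom_of_isAffine _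
    exact MorphismProperty.of_isPullback (P := @IsAffineHom) (EtCoh.isPullback_bc_map g ((Nbhd.nb ξ).map m)).flip
      inferInstance
  · haveI : CompactSpace ↥((𝟭 Scheme.{u}).obj ((Nbhd.nb ξ).obj a).left) :=
      inferInstanceAs (CompactSpace ((Nbhd.nb ξ).obj a).left)
    show CompactSpace (pullback ((Nbhd.nb ξ).obj a).hom g : Scheme.{u})
    exact QuasiCompact.compactSpace_of_compactSpace (pullback.fst ((Nbhd.nb ξ).obj a).hom g)
  · haveI : QuasiSeparatedSpace ↥((𝟭 Scheme.{u}).obj ((Nbhd.nb ξ).obj a).left) :=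
      inferInstanceAs (QuasiSeparatedSpace ((Nbhd.nb ξ).obj a).left)
    show QuasiSeparatedSpace (pullback ((Nbhd.nb ξ).obj a).hom g : Scheme.{u})
    exact quasiSeparatedSpace_of_quasiSeparated (pullback.fst ((Nbhd.nb ξ).obj a).hom g)

theorem phiT_eq_of_germ_eq {i j : Nbhd.NI ξ} (s : G.obj.obj (op ((TX g ξ).obj i)))
    (t : G.obj.obj (op ((TX g ξ).obj j)))
    (h : germ ξ ((EtDesc.pushSh g).obj G) ((Nbhd.nb ξ).obj i) (Nbhd.zb ξ i) s =
      germ ξ ((EtDesc.pushSh g).obj G) ((Nbhd.nb ξ).obj j) (Nbhd.zb ξ j) t) :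
    phiT g ξ G i s = phiT g ξ G j t := by
  obtain ⟨k, a, b, -⟩ := IsCofilteredOrEmpty.cone_objs i j
  have hk : germ ξ ((EtDesc.pushSh g).obj G) ((Nbhd.nb ξ).obj k) (Nbhd.zb ξ k) (G.obj.map ((TX g ξ).map a).op s) =
      germ ξ ((EtDesc.pushSh g).obj G) ((Nbhd.nb ξ).obj k) (Nbhd.zb ξ k) (G.obj.map ((TX g ξ).map b).op t) :=
    (germ_map_index g ξ G a s).trans (h.trans (germ_map_index g ξ G b t).symm)
  obtain ⟨C, c, z, hz, hc⟩ := (germ_eq_iff ξ ((EtDesc.pushSh g).obj G) ((Nbhd.nb ξ).obj k) (Nbhd.zb ξ k) _ _).1 hk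
  obtain ⟨l, ⟨w⟩⟩ := Nbhd.exists_index ξ ⟨C, z⟩
  let n : (Nbhd.toEl ξ).obj l ⟶ (Nbhd.toEl ξ).obj k :=
    w ≫ CategoryOfElements.homMk (Functor.elementsMk (Scheme.pointSmallEtale ξ).fiber C z) _ c hz
  let d := (Nbhd.toEl ξ).preimage n
  have hd : (Nbhd.nb ξ).map d = w.1 ≫ c := congrArg Subtype.val ((Nbhd.toEl ξ).map_preimage n)
  have e : G.obj.map ((TX g ξ).map d).op (G.obj.map ((TX g ξ).map a).op s) =
      G.obj.map ((TX g ξ).map d).op (G.obj.map ((TX g ξ).map b).op t) := by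
    have hh : ∀ x : G.obj.obj (op ((TX g ξ).obj k)), G.obj.map ((TX g ξ).map d).op x =
        ((EtDesc.pushSh g).obj G).obj.map w.1.op (((EtDesc.pushSh g).obj G).obj.map c.op x) := fun x => by
      refine Eq.trans ?_ (Functor.map_comp_apply ((EtDesc.pushSh g).obj G).obj c.op w.1.op x)
      exact congrArg (fun q : (Nbhd.nb ξ).obj l ⟶ (Nbhd.nb ξ).obj k =>
        ((EtDesc.pushSh g).obj G).obj.map q.op x) hd
    exact (hh _).trans ((congrArg _ hc).trans (hh _).symm)
  exact ((phi_map _ _ _ G a s).symm.trans (phi_map _ _ _ G d _).symm).trans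
    ((congrArg (phiT g ξ G l) e).trans ((phi_map _ _ _ G d _).trans (phi_map _ _ _ G b t)))

/-- The stalk of a direct image of sets is given by the sections over the strictly henselian local scheme. -/
theorem exists_stalkLim [QuasiCompact g] [QuasiSeparated g] :
    ∃ L : ((Scheme.pointSmallEtale ξ).sheafFiber (A := Type (u + 1))).obj ((EtDesc.pushSh g).obj G) →
      ((EtDesc.pullSh (pullback.snd (Nbhd.toBase ξ) g)).obj G).obj.obj
        (op ((EtCoh.bc (pullback.snd (Nbhd.toBase ξ) g)).obj (EtCoh.top T))),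
      Function.Bijective L ∧ ∀ (i : Nbhd.NI ξ) (s : G.obj.obj (op ((TX g ξ).obj i))),
        L (germ ξ ((EtDesc.pushSh g).obj G) ((Nbhd.nb ξ).obj i) (Nbhd.zb ξ i) s) = phiT g ξ G i s := by
  obtain ⟨h1, h2, h3⟩ := instances_TX g ξ
  haveI := h1; haveI := h2; haveI := h3
  choose ii ss hss using exists_index_germ g ξ G
  have hL : ∀ (i : Nbhd.NI ξ) (s : G.obj.obj (op ((TX g ξ).obj i))),
      phiT g ξ G (ii (germ ξ ((EtDesc.pushSh g).obj G) ((Nbhd.nb ξ).obj i) (Nbhd.zb ξ i) s)) (ss _) =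
        phiT g ξ G i s := fun i s => phiT_eq_of_germ_eq g ξ G _ _ (hss _)
  obtain ⟨hs, hi⟩ := phi_bijective (coneX g ξ) (pullback.snd (Nbhd.toBase ξ) g) (coneX_hom g ξ) G (isLimitConeX g ξ)
  refine ⟨fun p => phiT g ξ G (ii p) (ss p), ⟨fun p q hpq => ?_, fun σ => ?_⟩, hL⟩
  · obtain ⟨k, a, b, -⟩ := IsCofilteredOrEmpty.cone_objs (ii p) (ii q)
    obtain ⟨l, d, hd⟩ := hi k (G.obj.map ((TX g ξ).map a).op (ss p)) (G.obj.map ((TX g ξ).map b).op (ss q))
      ((phi_map _ _ _ G a _).trans (hpq.trans (phi_map _ _ _ G b _).symm))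
    rw [← hss p, ← hss q, ← germ_map_index g ξ G a (ss p), ← germ_map_index g ξ G b (ss q),
      ← germ_map_index g ξ G d, ← germ_map_index g ξ G d, hd]
  · obtain ⟨i, s, rfl⟩ := hs σ
    exact ⟨_, hL i s⟩

end Lim

section Datum

variable {S : Scheme.{u}} {Ω : Type u} [Field Ω] [IsSepClosed Ω] (ξ : Spec (CommRingCat.of Ω) ⟶ S)

theorem toBase_eq_specStalk :
    Spec.map (stalkHom ξ) ≫ S.fromSpecStalk (imagePt ξ) = Nbhd.toBase ξ := by
  obtain ⟨i⟩ := (IsCofiltered.nonempty : Nonempty (Nbhd.NI ξ))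
  rw [← Nbhd.toBase_eq ξ i, ← H1DFun.leg_hom ξ ((Nbhd.nb ξ).obj i) (Nbhd.zb ξ i)]
  congr 1
  rw [H1DFun.leg, IsAffineOpen.fromSpec_top]
  rfl

/-- The strictly henselian local scheme as a datum. -/
noncomputable def nbDatum : H1DFun.Datum ξ where
  P := Spec (EtBase.etaleLocalRing ξ)
  p := Nbhd.toBase ξ
  c := Spec.map (valueHom ξ)
  e := Iso.refl _
  he := (Category.id_comp _).trans (toBase_eq_specStalk ξ)
  hce := Category.comp_id _

end Datum

variable {X S Y T : Scheme.{u}} {Ω : Type u} [Field Ω] [IsSepClosed Ω] (f : X ⟶ S) (g : T ⟶ S)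
  (h : Y ⟶ X) (e : Y ⟶ T) (η : Spec (CommRingCat.of Ω) ⟶ X)

theorem leg_compat (φ : Spec (EtBase.etaleLocalRing η) ⟶ Spec (EtBase.etaleLocalRing (η ≫ f)))
    (hφp : φ ≫ Nbhd.toBase (η ≫ f) = Nbhd.toBase η ≫ f)
    (hφc : Spec.map (valueHom η) ≫ φ = Spec.map (valueHom (η ≫ f))) (i : Nbhd.NI (η ≫ f)) (j : Nbhd.NI η)
    (a : (Nbhd.nb η).obj j ⟶ (EtCoh.bc f).obj ((Nbhd.nb (η ≫ f)).obj i))
    (ha : (Scheme.pointSmallEtale η).fiber.map a (Nbhd.zb η j) =
      (fiberCompIso f η).inv.app ((Nbhd.nb (η ≫ f)).obj i) (Nbhd.zb (η ≫ f) i)) :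
    (Nbhd.cone η).π.app j ≫ a.left ≫ pullback.fst ((Nbhd.nb (η ≫ f)).obj i).hom f =
      φ ≫ (Nbhd.cone (η ≫ f)).π.app i := by
  haveI : Etale ((Nbhd.nb (η ≫ f)).obj i).hom := ((Nbhd.nb (η ≫ f)).obj i).prop
  refine (nbDatum η).hom_ext ((Nbhd.nb (η ≫ f)).obj i).hom _ _ ?_ ?_
  · refine Eq.trans ?_ ((Category.assoc _ _ _).trans ((congrArg (φ ≫ ·) (Nbhd.toBase_eq (η ≫ f) i)).trans hφp)).symm
    refine (Category.assoc _ _ _).trans ((congrArg (_ ≫ ·) ((Category.assoc _ _ _).trans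
      ((congrArg (a.left ≫ ·) pullback.condition).trans
        ((Category.assoc _ _ _).symm.trans (congrArg (· ≫ f) (Over.w a.hom)))))).trans ?_)
    exact (Category.assoc _ _ _).symm.trans (congrArg (· ≫ f) (Nbhd.toBase_eq η j))
  · refine Eq.trans ?_ ((Category.assoc _ _ _).symm.trans ((congrArg (· ≫ _) hφc).trans
      (Nbhd.valueHom_π (η ≫ f) i))).symm
    refine (Category.assoc _ _ _).symm.trans ((congrArg (· ≫ _) (Nbhd.valueHom_π η j)).trans ?_)
    refine (Category.assoc _ _ _).symm.trans ((congrArg (· ≫ _) (congrArg (fun z => z.left) ha)).trans ?_)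
    exact fiberCompIso_inv_left f η _ (Nbhd.zb (η ≫ f) i)

variable (φ : Spec (EtBase.etaleLocalRing η) ⟶ Spec (EtBase.etaleLocalRing (η ≫ f)))
  (hφp : φ ≫ Nbhd.toBase (η ≫ f) = Nbhd.toBase η ≫ f) (c : IsPullback e h g f)

include hφp c in
theorem mP_w : (pullback.fst (Nbhd.toBase η) h ≫ φ) ≫ Nbhd.toBase (η ≫ f) =
    (pullback.snd (Nbhd.toBase η) h ≫ e) ≫ g := by
  rw [Category.assoc, hφp, ← Category.assoc, pullback.condition, Category.assoc, Category.assoc, c.w]

/-- The map between the two schemes over the strictly henselian local schemes. -/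
noncomputable def mP : XA h η ⟶ XA g (η ≫ f) :=
  pullback.lift (pullback.fst (Nbhd.toBase η) h ≫ φ) (pullback.snd (Nbhd.toBase η) h ≫ e) (mP_w f g h e η φ hφp c)

theorem mP_snd : mP f g h e η φ hφp c ≫ pullback.snd (Nbhd.toBase (η ≫ f)) g =
    pullback.snd (Nbhd.toBase η) h ≫ e := pullback.lift_snd _ _ _

theorem isPullback_mP : IsPullback (mP f g h e η φ hφp c) (pullback.fst (Nbhd.toBase η) h)
    (pullback.fst (Nbhd.toBase (η ≫ f)) g) φ := by
  have h1 : IsPullback (pullback.snd (Nbhd.toBase η) h ≫ e) (pullback.fst (Nbhd.toBase η) h) g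
      (Nbhd.toBase η ≫ f) := (IsPullback.of_hasPullback _ _).flip.paste_horiz c
  refine IsPullback.of_right (h₁₂ := pullback.snd (Nbhd.toBase (η ≫ f)) g) (v₁₃ := g)
    (h₂₂ := Nbhd.toBase (η ≫ f)) ?_ (pullback.lift_fst _ _ _) (IsPullback.of_hasPullback _ _).flip
  rw [hφp]
  exact (congrArg (fun k => IsPullback k (pullback.fst (Nbhd.toBase η) h) g (Nbhd.toBase η ≫ f))
    (mP_snd f g h e η φ hφp c)).mpr h1

/-- The comparison of sections over the strictly henselian local schemes. -/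
noncomputable def cmpLim (F : EtDesc.Sh T)
    (σ : ((EtDesc.pullSh (pullback.snd (Nbhd.toBase (η ≫ f)) g)).obj F).obj.obj
      (op ((EtCoh.bc (pullback.snd (Nbhd.toBase (η ≫ f)) g)).obj (EtCoh.top T)))) :
    ((EtDesc.pullSh (pullback.snd (Nbhd.toBase η) h)).obj ((EtDesc.pullSh e).obj F)).obj.obj
      (op ((EtCoh.bc (pullback.snd (Nbhd.toBase η) h)).obj (EtCoh.top Y))) :=
  (EtDesc.pullVia _ _ _ rfl F).inv.hom.app _
    (((EtDesc.pullSh (pullback.snd (Nbhd.toBase η) h ≫ e)).obj F).obj.map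
      ((EtCore.bcTopIsTerminal (pullback.snd (Nbhd.toBase η) h ≫ e)).from
        ((EtCoh.bc (pullback.snd (Nbhd.toBase η) h)).obj (EtCoh.top Y))).op
      (transfer (mP f g h e η φ hφp c) (pullback.snd (Nbhd.toBase (η ≫ f)) g)
        (pullback.snd (Nbhd.toBase η) h ≫ e) (mP_snd f g h e η φ hφp c) F (EtCoh.top T) σ))

theorem cmpLim_bijective (F : EtDesc.Sh T)
    (hm : ∀ G : EtDesc.Sh (XA g (η ≫ f)),
      Function.Bijective (pullSect (mP f g h e η φ hφp c) G (U := EtCoh.top (XA g (η ≫ f))))) :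
    Function.Bijective (cmpLim f g h e η φ hφp c F) := by
  have h2 : Function.Bijective ((EtDesc.pullVia (pullback.snd (Nbhd.toBase η) h) e _ rfl F).inv.hom.app
      (op ((EtCoh.bc (pullback.snd (Nbhd.toBase η) h)).obj (EtCoh.top Y)))) :=
    (isIso_iff_bijective _).1 (inferInstance :
      IsIso (((sheafToPresheaf _ _).map (EtDesc.pullVia (pullback.snd (Nbhd.toBase η) h) e _ rfl F).inv).app
        (op ((EtCoh.bc (pullback.snd (Nbhd.toBase η) h)).obj (EtCoh.top Y)))))
  let θ : (EtCoh.bc (pullback.snd (Nbhd.toBase η) h)).obj (EtCoh.top Y) ≅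
      (EtCoh.bc (pullback.snd (Nbhd.toBase η) h ≫ e)).obj (EtCoh.top T) :=
    (EtCore.bcTopIsTerminal _).uniqueUpToIso (EtCore.bcTopIsTerminal _)
  have h3 := bijective_map_iso ((EtDesc.pullSh (pullback.snd (Nbhd.toBase η) h ≫ e)).obj F).obj θ
  have h4 := bijective_transfer (mP f g h e η φ hφp c) (pullback.snd (Nbhd.toBase (η ≫ f)) g)
    (pullback.snd (Nbhd.toBase η) h ≫ e) (mP_snd f g h e η φ hφp c) F (hm _)
  exact h2.comp (h3.comp h4)

variable (hφc : Spec.map (valueHom η) ≫ φ = Spec.map (valueHom (η ≫ f)))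

include hφc in
set_option maxHeartbeats 1000000 in
theorem stalkLim_baseChange0Sh (F : EtDesc.Sh T)
    (L : ((Scheme.pointSmallEtale η).sheafFiber (A := Type (u + 1))).obj
        ((EtDesc.pushSh h).obj ((EtDesc.pullSh e).obj F)) →
      ((EtDesc.pullSh (pullback.snd (Nbhd.toBase η) h)).obj ((EtDesc.pullSh e).obj F)).obj.obj
        (op ((EtCoh.bc (pullback.snd (Nbhd.toBase η) h)).obj (EtCoh.top Y))))
    (hL : ∀ (j : Nbhd.NI η) (s : ((EtDesc.pullSh e).obj F).obj.obj (op ((TX h η).obj j))),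
      L (germ η ((EtDesc.pushSh h).obj ((EtDesc.pullSh e).obj F)) ((Nbhd.nb η).obj j) (Nbhd.zb η j) s) =
        phiT h η ((EtDesc.pullSh e).obj F) j s)
    (i : Nbhd.NI (η ≫ f)) (s : F.obj.obj (op ((TX g (η ≫ f)).obj i))) :
    L (((Scheme.pointSmallEtale η).sheafFiber (A := Type (u + 1))).map (EtBC.baseChange0Sh g f h e c.w F)
        ((stalkPullShIso f η).inv.app ((EtDesc.pushSh g).obj F)
          (germ (η ≫ f) ((EtDesc.pushSh g).obj F) ((Nbhd.nb (η ≫ f)).obj i) (Nbhd.zb (η ≫ f) i) s))) =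
      cmpLim f g h e η φ hφp c F (phiT g (η ≫ f) F i s) := by
  let V := (Nbhd.nb (η ≫ f)).obj i
  let z := (fiberCompIso f η).inv.app V (Nbhd.zb (η ≫ f) i)
  refine (congrArg (fun x => L (((Scheme.pointSmallEtale η).sheafFiber (A := Type (u + 1))).map _ x))
    (stalkPullShIso_inv_germ f η ((EtDesc.pushSh g).obj F) V (Nbhd.zb (η ≫ f) i) s)).trans ?_
  refine (congrArg L (germ_naturality η (EtBC.baseChange0Sh g f h e c.w F)
    ((EtCoh.bc f).obj V) z _)).trans ?_
  refine (congrArg (fun x => L (germ η ((EtDesc.pushSh h).obj ((EtDesc.pullSh e).obj F)) ((EtCoh.bc f).obj V) z x))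
    (H11PBCSet.baseChange0Sh_unit g f h e c.w F V s)).trans ?_
  obtain ⟨j, ⟨a, ha⟩⟩ := Nbhd.exists_index η ⟨(EtCoh.bc f).obj V, z⟩
  refine (congrArg L (H11PBCSet.germ_index_eq h η ((EtDesc.pullSh e).obj F) z j a ha _).symm).trans ?_
  refine (hL j _).trans ?_
  unfold phiT cmpLim phi
  show ((EtDesc.pullSh (pullback.snd (Nbhd.toBase η) h)).obj ((EtDesc.pullSh e).obj F)).obj.map _
    (pullSect (pullback.snd (Nbhd.toBase η) h) _ (((EtDesc.pullSh e).obj F).obj.map ((EtCoh.bc h).map a).op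
      (((EtDesc.pullSh e).obj F).obj.map (cMap g f h e c.w V).op (pullSect e F s)))) = _
  rw [pullSect_map, pullSect_map, ← Functor.map_comp_apply, ← Functor.map_comp_apply, ← op_comp, ← op_comp]
  let b := pullback.snd (Nbhd.toBase η) h ≫ e
  let ib : (EtCoh.bc b).obj (EtCoh.top T) ⟶ (EtCoh.bc b).obj ((EtCoh.bc g).obj V) :=
    MorphismProperty.Over.homMk (pullback.lift
      (((EtCoh.bc b).obj (EtCoh.top T)).hom ≫ mP f g h e η φ hφp c ≫ prj (coneX g (η ≫ f)) i)
      ((EtCoh.bc b).obj (EtCoh.top T)).hom ((Category.assoc _ _ _).trans (congrArg (_ ≫ ·)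
        ((Category.assoc _ _ _).trans ((congrArg (_ ≫ ·) (coneX_hom g (η ≫ f) i)).trans
          (mP_snd f g h e η φ hφp c))))))
      (pullback.lift_snd _ _ _) trivial
  let θ := (EtCore.bcTopIsTerminal b).from ((EtCoh.bc (pullback.snd (Nbhd.toBase η) h)).obj (EtCoh.top Y))
  have hT : transfer (mP f g h e η φ hφp c) (pullback.snd (Nbhd.toBase (η ≫ f)) g) b
      (mP_snd f g h e η φ hφp c) F (EtCoh.top T)
      (((EtDesc.pullSh (pullback.snd (Nbhd.toBase (η ≫ f)) g)).obj F).obj.map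
        (iT (coneX g (η ≫ f)) (pullback.snd (Nbhd.toBase (η ≫ f)) g) (coneX_hom g (η ≫ f)) i).op
        (pullSect (pullback.snd (Nbhd.toBase (η ≫ f)) g) F s)) =
      ((EtDesc.pullSh b).obj F).obj.map ib.op (pullSect b F s) := by
    refine (transfer_map_compat (mP f g h e η φ hφp c) _ b (mP_snd f g h e η φ hφp c) F _ ib ?_ _).trans
      (congrArg _ (transfer_pullSect (mP f g h e η φ hφp c) _ b (mP_snd f g h e η φ hφp c) F s))
    exact compat_of_graph (mP f g h e η φ hφp c) _ b (mP_snd f g h e η φ hφp c) _ _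
      (prj (coneX g (η ≫ f)) i) _ (pullback.lift_fst _ _ _) (pullback.lift_fst _ _ _) rfl
  refine Eq.trans ?_ (congrArg (fun x => (EtDesc.pullVia _ _ _ rfl F).inv.hom.app _
      (((EtDesc.pullSh b).obj F).obj.map θ.op x)) hT.symm)
  refine Eq.trans ?_ (congrArg (fun x => (EtDesc.pullVia _ _ _ rfl F).inv.hom.app _ x)
    (Functor.map_comp_apply ((EtDesc.pullSh b).obj F).obj ib.op θ.op (pullSect b F s)))
  rw [← op_comp]
  refine map_pullSect_pullSect (pullback.snd (Nbhd.toBase η) h) e b rfl F _ (θ ≫ ib) ?_ s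
  refine bc_bc_hom_ext ?_
  refine Eq.trans (b := ((EtCoh.bc (pullback.snd (Nbhd.toBase η) h)).obj (EtCoh.top Y)).hom ≫
      mP f g h e η φ hφp c ≫ prj (coneX g (η ≫ f)) i) ?_ ?_
  · show (((θ.left ≫ ib.left) ≫ (tm _ e b rfl _).left) ≫ pullback.fst _ _) ≫ pullback.fst _ _ = _
    refine (Category.assoc _ _ _).trans ((Category.assoc _ _ _).trans ((congrArg (_ ≫ ·)
      ((Category.assoc _ _ _).symm.trans (tm_fst_fst _ _ _ _ _))).trans ((Category.assoc _ _ _).trans
      ((congrArg (θ.left ≫ ·) (pullback.lift_fst _ _ _)).trans ((Category.assoc _ _ _).symm.trans ?_)))))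
    exact congrArg (· ≫ mP f g h e η φ hφp c ≫ prj (coneX g (η ≫ f)) i) (Over.w θ.hom)
  · refine Eq.trans ?_ (Eq.symm (b := ((EtCoh.bc (pullback.snd (Nbhd.toBase η) h)).obj (EtCoh.top Y)).hom ≫
      prj (coneX h η) j ≫ ((EtCoh.bc h).map a).left ≫ (cMap g f h e c.w V).left ≫
        pullback.fst ((EtCoh.bc g).obj V).hom e) ?_)
    · refine congrArg (_ ≫ ·) (pullback.hom_ext ?_ ?_)
      · refine Eq.trans ?_ (Eq.symm (b := pullback.fst (Nbhd.toBase η) h ≫ (Nbhd.cone η).π.app j ≫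
          a.left ≫ pullback.fst V.hom f) ?_)
        · refine (Category.assoc _ _ _).trans ((congrArg (mP f g h e η φ hφp c ≫ ·) (pullback.lift_fst _ _ _)).trans ?_)
          refine (Category.assoc _ _ _).symm.trans ((congrArg (· ≫ _) (pullback.lift_fst _ _ _)).trans ?_)
          exact (Category.assoc _ _ _).trans (congrArg (_ ≫ ·) (leg_compat f η φ hφp hφc i j a ha).symm)
        · simp only [Category.assoc]
          rw [cMap_fst_fst g f h e c.w V, ← Category.assoc ((EtCoh.bc h).map a).left, bc_map_fst h a,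
            Category.assoc, ← Category.assoc (prj (coneX h η) j)]
          refine (congrArg (· ≫ _) (pullback.lift_fst _ _ _)).trans (Category.assoc _ _ _)
      · refine Eq.trans ?_ (Eq.symm (b := pullback.snd (Nbhd.toBase η) h ≫ e) ?_)
        · refine (Category.assoc _ _ _).trans ((congrArg (mP f g h e η φ hφp c ≫ ·) (coneX_hom g (η ≫ f) i)).trans ?_)
          exact mP_snd f g h e η φ hφp c
        · simp only [Category.assoc]
          refine (congrArg (fun k => prj (coneX h η) j ≫ ((EtCoh.bc h).map a).left ≫ (cMap g f h e c.w V).left ≫ k)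
            (pullback.condition (f := ((EtCoh.bc g).obj V).hom) (g := e))).trans ?_
          refine (congrArg (fun k => prj (coneX h η) j ≫ ((EtCoh.bc h).map a).left ≫ k)
            ((Category.assoc _ _ _).symm.trans (congrArg (· ≫ e) (Over.w (cMap g f h e c.w V).hom)))).trans ?_
          refine (congrArg (fun k => prj (coneX h η) j ≫ k)
            ((Category.assoc _ _ _).symm.trans (congrArg (· ≫ e) (Over.w ((EtCoh.bc h).map a).hom)))).trans ?_
          exact (Category.assoc _ _ _).symm.trans (congrArg (· ≫ e) (coneX_hom h η j))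
    · show ((((iT (coneX h η) (pullback.snd (Nbhd.toBase η) h) (coneX_hom h η) j).left ≫
          ((EtCoh.bc (pullback.snd (Nbhd.toBase η) h)).map ((EtCoh.bc h).map a)).left) ≫
          ((EtCoh.bc (pullback.snd (Nbhd.toBase η) h)).map (cMap g f h e c.w V)).left) ≫
          pullback.fst _ _) ≫ pullback.fst _ _ = _
      refine (congrArg (· ≫ pullback.fst ((EtCoh.bc g).obj V).hom e) ((Category.assoc _ _ _).trans
        ((congrArg (_ ≫ ·) (bc_map_fst _ (cMap g f h e c.w V))).trans ((Category.assoc _ _ _).symm.trans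
          (congrArg (· ≫ _) ((Category.assoc _ _ _).trans ((congrArg (_ ≫ ·) (bc_map_fst _ ((EtCoh.bc h).map a))).trans
            ((Category.assoc _ _ _).symm.trans (congrArg (· ≫ _) (pullback.lift_fst _ _ _)))))))))).trans ?_
      simp only [Category.assoc]

omit [IsSepClosed Ω] in
/-- A base change of a universally submersive map with connected geometric fibres induces a bijection on sections. -/
theorem bijective_pullSect_of_conn' {P Q A B : Scheme.{u}} (m : P ⟶ Q) (p : P ⟶ A) (q : Q ⟶ B) (φ : A ⟶ B)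
    (sq : IsPullback m p q φ) (hus : EtDesc.IsUnivSubmersive φ)
    (hc : ∀ (Ω : Type u) [Field Ω] [IsAlgClosed Ω] (s : Spec (CommRingCat.of Ω) ⟶ B),
      ConnectedSpace ↥(pullback φ s)) (G : EtDesc.Sh Q) :
    Function.Bijective (pullSect m G (U := EtCoh.top Q)) := by
  haveI := H9Et.geometricallyConnected_of_algClosed φ hc
  haveI : GeometricallyConnected m := MorphismProperty.of_isPullback (P := @GeometricallyConnected) sq.flip inferInstance
  refine bijective_pullSect_geomConn m G fun Y j => ?_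
  let hpb := (IsPullback.of_hasPullback m j).paste_horiz sq.flip
  have key : ∀ (W : Scheme.{u}) (k : W ⟶ Y), (∃ e : W ≅ pullback φ (j ≫ q), e.hom ≫ pullback.snd φ (j ≫ q) = k) →
      Function.Surjective k.base ∧ Topology.IsQuotientMap k.base := by
    rintro W k ⟨e, rfl⟩
    obtain ⟨h1, h2⟩ := hus Y (j ≫ q)
    have he : Topology.IsQuotientMap e.hom.base := e.hom.homeomorph.isQuotientMap
    rw [Scheme.Hom.comp_base, TopCat.coe_comp]
    exact ⟨h1.comp he.surjective, h2.comp he⟩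
  exact key _ _ ⟨hpb.isoPullback, hpb.isoPullback_hom_snd⟩

omit [IsSepClosed Ω] in
/-- A base change of a flat local map with connected geometric fibres induces a bijection on sections. -/
theorem bijective_pullSect_of_conn {P Q A B : Scheme.{u}} (m : P ⟶ Q) (p : P ⟶ A) (q : Q ⟶ B) (φ : A ⟶ B)
    (sq : IsPullback m p q φ) [Flat φ] [QuasiCompact φ]
    (hc : ∀ (Ω : Type u) [Field Ω] [IsAlgClosed Ω] (s : Spec (CommRingCat.of Ω) ⟶ B),
      ConnectedSpace ↥(pullback φ s)) (G : EtDesc.Sh Q) :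
    Function.Bijective (pullSect m G (U := EtCoh.top Q)) := by
  haveI : Flat m := MorphismProperty.of_isPullback (P := @Flat) sq.flip inferInstance
  haveI : QuasiCompact m := MorphismProperty.of_isPullback (P := @QuasiCompact) sq.flip inferInstance
  haveI := H9Et.geometricallyConnected_of_algClosed φ hc
  haveI : GeometricallyConnected m := MorphismProperty.of_isPullback (P := @GeometricallyConnected) sq.flip inferInstance
  exact bijective_pullSect_geomConn m G (isUnivSubmersive_of_flat m)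

/-- Base change of sheaves of sets along maps whose maps of strict henselizations are flat with connected fibres. -/
theorem isIso_baseChange0Sh_of_submersive {X S : Scheme.{u}} (f : X ⟶ S)
    (H : ∀ (x : X) (RS : Type u) [CommRing RS] [IsLocalRing RS] [Algebra (S.presheaf.stalk (f.base x)) RS]
      [IsLocalHom (algebraMap (S.presheaf.stalk (f.base x)) RS)]
      [Hensel.IsStrictHenselization (S.presheaf.stalk (f.base x)) RS]
      (RX : Type u) [CommRing RX] [IsLocalRing RX] [Algebra (X.presheaf.stalk x) RX]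
      [IsLocalHom (algebraMap (X.presheaf.stalk x) RX)] [Hensel.IsStrictHenselization (X.presheaf.stalk x) RX]
      (ψ : RS →+* RX) [IsLocalHom ψ],
      ψ.comp (algebraMap (S.presheaf.stalk (f.base x)) RS) = (algebraMap (X.presheaf.stalk x) RX).comp (f.stalkMap x).hom →
      EtDesc.IsUnivSubmersive (Spec.map (CommRingCat.ofHom ψ)) ∧
        ∀ (Ω : Type u) [Field Ω] [IsAlgClosed Ω] (η : Spec (CommRingCat.of Ω) ⟶ Spec (CommRingCat.of RS)),
        ConnectedSpace ↥(pullback (Spec.map (CommRingCat.ofHom ψ)) η))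
    {Y T : Scheme.{u}} (g : T ⟶ S) [QuasiCompact g] [QuasiSeparated g] (h : Y ⟶ X) (e : Y ⟶ T)
    (c : IsPullback e h g f) (F : EtDesc.Sh T) :
    IsIso (EtBC.baseChange0Sh g f h e c.w F) := by
  haveI : QuasiCompact h := MorphismProperty.of_isPullback (P := @QuasiCompact) c inferInstance
  haveI : QuasiSeparated h := MorphismProperty.of_isPullback (P := @QuasiSeparated) c inferInstance
  refine isIso_of_stalkSh _ fun x => ?_
  let η : Spec (CommRingCat.of (AlgebraicClosure (X.residueField x))) ⟶ X :=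
    (Scheme.SpecToEquivOfField (AlgebraicClosure (X.residueField x)) X).symm
      ⟨x, CommRingCat.ofHom (algebraMap (X.residueField x) _)⟩
  refine ⟨_, _, inferInstance, η, by simp [η], ?_⟩
  obtain ⟨φ, hφp, hφc⟩ := H1DFun.Datum.exists_map f (nbDatum η) (nbDatum (η ≫ f))
  let φ' : Spec (EtBase.etaleLocalRing η) ⟶ Spec (EtBase.etaleLocalRing (η ≫ f)) := φ
  let RS := ↥(EtBase.etaleLocalRing (η ≫ f))
  let RX := ↥(EtBase.etaleLocalRing η)
  let ψ : RS →+* RX := (Spec.preimage φ').hom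
  have hψ : Spec.map (CommRingCat.ofHom ψ) = φ' := Spec.map_preimage φ'
  let : Algebra ↥(S.presheaf.stalk (f.base (imagePt η))) RS := (stalkHom (η ≫ f)).hom.toAlgebra
  let : Algebra ↥(X.presheaf.stalk (imagePt η)) RX := (stalkHom η).hom.toAlgebra
  haveI : IsLocalHom (algebraMap ↥(S.presheaf.stalk (f.base (imagePt η))) RS) := isLocalHom_stalkHom (η ≫ f)
  haveI : IsLocalHom (algebraMap ↥(X.presheaf.stalk (imagePt η)) RX) := isLocalHom_stalkHom η
  haveI : Hensel.IsStrictHenselization ↥(S.presheaf.stalk (f.base (imagePt η))) RS := isStrictHenselization (η ≫ f)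
  haveI : Hensel.IsStrictHenselization ↥(X.presheaf.stalk (imagePt η)) RX := isStrictHenselization η
  have hv : (valueHom η).hom.comp ψ = (valueHom (η ≫ f)).hom := by
    have e2 : Spec.map (CommRingCat.ofHom ((valueHom η).hom.comp ψ)) = Spec.map (valueHom (η ≫ f)) := by
      rw [CommRingCat.ofHom_comp, Spec.map_comp, hψ]
      exact hφc
    exact congrArg CommRingCat.Hom.hom (Spec.map_injective e2)
  haveI : IsLocalHom ψ := ⟨fun r hr => by
    have := hr.map (valueHom η).hom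
    rw [← RingHom.comp_apply, hv] at this
    exact IsLocalHom.map_nonunit (f := (valueHom (η ≫ f)).hom) r this⟩
  have hcomp : ψ.comp (algebraMap ↥(S.presheaf.stalk (f.base (imagePt η))) RS) =
      (algebraMap ↥(X.presheaf.stalk (imagePt η)) RX).comp (f.stalkMap (imagePt η)).hom := by
    have e2 : Spec.map (CommRingCat.ofHom (ψ.comp (stalkHom (η ≫ f)).hom)) ≫ S.fromSpecStalk (f.base (imagePt η)) =
        Spec.map (f.stalkMap (imagePt η) ≫ stalkHom η) ≫ S.fromSpecStalk (f.base (imagePt η)) := by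
      rw [CommRingCat.ofHom_comp, Spec.map_comp, hψ, Spec.map_comp, Category.assoc, Category.assoc]
      refine Eq.trans ?_ (congrArg (Spec.map (stalkHom η) ≫ ·)
        (Scheme.SpecMap_stalkMap_fromSpecStalk f).symm)
      refine Eq.trans ?_ (Category.assoc _ _ _)
      rw [toBase_eq_specStalk η]
      exact (congrArg (φ' ≫ ·) (toBase_eq_specStalk (η ≫ f))).trans hφp
    exact congrArg CommRingCat.Hom.hom (Spec.map_injective ((cancel_mono _).1 e2))
  obtain ⟨hus, hconn⟩ := H (imagePt η) RS RX ψ hcomp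
  have hm := bijective_pullSect_of_conn' _ _ _ φ' (isPullback_mP f g h e η φ' hφp c) (hψ ▸ hus) (hψ ▸ hconn)
  obtain ⟨L, hLb, hL⟩ := exists_stalkLim h η ((EtDesc.pullSh e).obj F)
  obtain ⟨L₀, hL₀b, hL₀⟩ := exists_stalkLim g (η ≫ f) F
  have hI : Function.Bijective ((stalkPullShIso f η).inv.app ((EtDesc.pushSh g).obj F)) :=
    (isIso_iff_bijective _).1 inferInstance
  refine (Function.Bijective.of_comp_iff _ hI).1 ?_
  refine (Function.Bijective.of_comp_iff' hLb _).1 ?_
  convert (cmpLim_bijective f g h e η φ' hφp c F hm).comp hL₀b using 1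
  funext p
  obtain ⟨i, s, rfl⟩ := exists_index_germ g (η ≫ f) F p
  exact (stalkLim_baseChange0Sh f g h e η φ' hφp c hφc F L hL i s).trans (congrArg _ (hL₀ i s).symm)


/-- Base change of sheaves of sets along maps whose maps of strict henselizations are flat with connected fibres. -/
theorem isIso_baseChange0Sh_of_shConn {X S : Scheme.{u}} (f : X ⟶ S)
    (H : ∀ (x : X) (RS : Type u) [CommRing RS] [IsLocalRing RS] [Algebra (S.presheaf.stalk (f.base x)) RS]
      [IsLocalHom (algebraMap (S.presheaf.stalk (f.base x)) RS)]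
      [Hensel.IsStrictHenselization (S.presheaf.stalk (f.base x)) RS]
      (RX : Type u) [CommRing RX] [IsLocalRing RX] [Algebra (X.presheaf.stalk x) RX]
      [IsLocalHom (algebraMap (X.presheaf.stalk x) RX)] [Hensel.IsStrictHenselization (X.presheaf.stalk x) RX]
      (ψ : RS →+* RX) [IsLocalHom ψ],
      ψ.comp (algebraMap (S.presheaf.stalk (f.base x)) RS) = (algebraMap (X.presheaf.stalk x) RX).comp (f.stalkMap x).hom →
      ψ.Flat ∧ ∀ (Ω : Type u) [Field Ω] [IsAlgClosed Ω] (η : Spec (CommRingCat.of Ω) ⟶ Spec (CommRingCat.of RS)),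
        ConnectedSpace ↥(pullback (Spec.map (CommRingCat.ofHom ψ)) η))
    {Y T : Scheme.{u}} (g : T ⟶ S) [QuasiCompact g] [QuasiSeparated g] (h : Y ⟶ X) (e : Y ⟶ T)
    (c : IsPullback e h g f) (F : EtDesc.Sh T) :
    IsIso (EtBC.baseChange0Sh g f h e c.w F) := by
  refine isIso_baseChange0Sh_of_submersive f (fun x RS _ _ _ _ _ RX _ _ _ _ _ ψ _ hψ => ?_) g h e c F
  obtain ⟨hfl, hc⟩ := H x RS RX ψ hψ
  letI := ψ.toAlgebra
  haveI : Module.Flat RS RX := hfl
  haveI : IsLocalHom (algebraMap RS RX) := ‹IsLocalHom ψ›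
  haveI : Module.FaithfullyFlat RS RX := Module.FaithfullyFlat.of_flat_of_isLocalHom
  haveI : Flat (Spec.map (CommRingCat.ofHom ψ)) := Flat.SpecMap_iff.2 hfl
  haveI : Surjective (Spec.map (CommRingCat.ofHom ψ)) :=
    ⟨PrimeSpectrum.comap_surjective_of_faithfullyFlat (A := RS) (B := RX)⟩
  exact ⟨isUnivSubmersive_of_flat _, hc⟩

end Groth.Agent.H11SetBC
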