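import Groth.Agent.H11SetBC.SubConn
import Groth.Agent.H11SetBC.Main
import Groth.Agent.H15Site.EffDesc.Discrete

/-!
# Descent data along morphisms whose strict localizations have connected geometric fibres
-/

set_option autoImplicit false
set_option linter.style.haveILetI false
set_option linter.unusedSectionVars false
set_option backward.isDefEq.respectTransparency false
set_option backward.isDefEq.respectTransparency.types false

universe u

open CategoryTheory CategoryTheory.Limits AlgebraicGeometry Opposite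
open scoped Groth.Agent.H18Et

namespace Groth.Agent.H11SetBC.SubDesc

open H15Site.SetDescent H18Et H15Site.EffDesc H18PBC H18PBC.Fibre Groth.Agent.H12AlgSp.EtStrictHens

/-- The map of strictly local schemes at a geometric point is submersive with connected geometric fibres. -/
theorem exists_strictMap {A S : Scheme.{u}} (f : A ⟶ S) (H : SubConnFibres f) {Ω : Type u} [Field Ω]
    [IsSepClosed Ω] (η : Spec (CommRingCat.of Ω) ⟶ A) :
    ∃ φ : Spec (EtBase.etaleLocalRing η) ⟶ Spec (EtBase.etaleLocalRing (η ≫ f)),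
      φ ≫ Nbhd.toBase (η ≫ f) = Nbhd.toBase η ≫ f ∧
      Spec.map (valueHom η) ≫ φ = Spec.map (valueHom (η ≫ f)) ∧ EtDesc.IsUnivSubmersive φ ∧
      ∀ (L : Type u) [Field L] [IsAlgClosed L] (τ : Spec (CommRingCat.of L) ⟶ Spec (EtBase.etaleLocalRing (η ≫ f))),
        ConnectedSpace ↥(pullback φ τ) := by
  obtain ⟨φ, hφp, hφc⟩ := H1DFun.Datum.exists_map f (nbDatum η) (nbDatum (η ≫ f))
  let φ' : Spec (EtBase.etaleLocalRing η) ⟶ Spec (EtBase.etaleLocalRing (η ≫ f)) := φ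
  let RS := ↥(EtBase.etaleLocalRing (η ≫ f))
  let RX := ↥(EtBase.etaleLocalRing η)
  let ψ : RS →+* RX := (Spec.preimage φ').hom
  have hψ : Spec.map (CommRingCat.ofHom ψ) = φ' := Spec.map_preimage φ'
  let : Algebra ↥(S.presheaf.stalk (f.base (imagePt η))) RS := (stalkHom (η ≫ f)).hom.toAlgebra
  let : Algebra ↥(A.presheaf.stalk (imagePt η)) RX := (stalkHom η).hom.toAlgebra
  haveI : IsLocalHom (algebraMap ↥(S.presheaf.stalk (f.base (imagePt η))) RS) := isLocalHom_stalkHom (η ≫ f)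
  haveI : IsLocalHom (algebraMap ↥(A.presheaf.stalk (imagePt η)) RX) := isLocalHom_stalkHom η
  haveI : Hensel.IsStrictHenselization ↥(S.presheaf.stalk (f.base (imagePt η))) RS := isStrictHenselization (η ≫ f)
  haveI : Hensel.IsStrictHenselization ↥(A.presheaf.stalk (imagePt η)) RX := isStrictHenselization η
  have hv : (valueHom η).hom.comp ψ = (valueHom (η ≫ f)).hom := by
    have e2 : Spec.map (CommRingCat.ofHom ((valueHom η).hom.comp ψ)) = Spec.map (valueHom (η ≫ f)) := by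
      rw [CommRingCat.ofHom_comp, Spec.map_comp, hψ]
      exact hφc
    exact congrArg CommRingCat.Hom.hom (Spec.map_injective e2)
  haveI : IsLocalHom ψ := ⟨fun r hr => by
    have := hr.map (valueHom η).hom
    rw [← RingHom.comp_apply, hv] at this
    exact IsLocalHom.map_nonunit (f := (valueHom (η ≫ f)).hom) r this⟩
  have hcomp : ψ.comp (algebraMap ↥(S.presheaf.stalk (f.base (imagePt η))) RS) =
      (algebraMap ↥(A.presheaf.stalk (imagePt η)) RX).comp (f.stalkMap (imagePt η)).hom := by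
    have e2 : Spec.map (CommRingCat.ofHom (ψ.comp (stalkHom (η ≫ f)).hom)) ≫ S.fromSpecStalk (f.base (imagePt η)) =
        Spec.map (f.stalkMap (imagePt η) ≫ stalkHom η) ≫ S.fromSpecStalk (f.base (imagePt η)) := by
      rw [CommRingCat.ofHom_comp, Spec.map_comp, hψ, Spec.map_comp, Category.assoc, Category.assoc]
      refine Eq.trans ?_ (congrArg (Spec.map (stalkHom η) ≫ ·)
        (Scheme.SpecMap_stalkMap_fromSpecStalk f).symm)
      refine Eq.trans ?_ (Category.assoc _ _ _)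
      rw [toBase_eq_specStalk η]
      exact (congrArg (φ' ≫ ·) (toBase_eq_specStalk (η ≫ f))).trans hφp
    exact congrArg CommRingCat.Hom.hom (Spec.map_injective ((cancel_mono _).1 e2))
  obtain ⟨hus, hconn⟩ := H (imagePt η) RS RX ψ hcomp
  exact ⟨φ', hφp, hφc, hψ ▸ hus, hψ ▸ hconn⟩

theorem pull_eq {C : Type*} [Category C] {P₂ P₁ P A M T U : C} (ι₂ : P₂ ⟶ P₁) (ι₁ : P₁ ⟶ P) (s : P₁ ⟶ A)
    (c : A ⟶ M) (q : M ⟶ T) (m : A ⟶ T) (e : T ⟶ U) (t : P ⟶ M) (hc : c ≫ q = m) (hs : s ≫ c = ι₁ ≫ t) :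
    (ι₂ ≫ s) ≫ m ≫ e = (ι₂ ≫ ι₁) ≫ (t ≫ q) ≫ e := by
  subst hc; simp [reassoc_of% hs]

theorem pull_eq' {C : Type*} [Category C] {P₂ P₁ P A M T U : C} (ι₂ : P₂ ⟶ P₁) (ι₁ : P₁ ⟶ P) (s : P₂ ⟶ A)
    (c : A ⟶ M) (q : M ⟶ T) (m : A ⟶ T) (e : T ⟶ U) (t : P ⟶ M) (hc : c ≫ q = m)
    (hs : s ≫ c = ι₂ ≫ ι₁ ≫ t) : s ≫ m ≫ e = (ι₂ ≫ ι₁) ≫ (t ≫ q) ≫ e := by
  subst hc; simp [reassoc_of% hs]

/-- The strictly local scheme is weakly etale over the scheme. -/
theorem weaklyEtale_toBase {S : Scheme.{u}} {Ω : Type u} [Field Ω] [IsSepClosed Ω]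
    (η : Spec (CommRingCat.of Ω) ⟶ S) : WeaklyEtale (Nbhd.toBase η) := by
  letI : Algebra ↥(S.presheaf.stalk (imagePt η)) ↥(EtBase.etaleLocalRing η) := (stalkHom η).hom.toAlgebra
  haveI : IsLocalHom (algebraMap ↥(S.presheaf.stalk (imagePt η)) ↥(EtBase.etaleLocalRing η)) := isLocalHom_stalkHom η
  haveI : Hensel.IsStrictHenselization ↥(S.presheaf.stalk (imagePt η)) ↥(EtBase.etaleLocalRing η) :=
    isStrictHenselization η
  rw [← toBase_eq_specStalk η]
  exact weaklyEtale_specOf S (imagePt η) ↥(EtBase.etaleLocalRing η)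

variable {X' X : Scheme.{u}} {f : X' ⟶ X} {F' : EtDesc.Sh X'}
  {φ : (EtDesc.pullSh (pullback.fst f f)).obj F' ≅ (EtDesc.pullSh (pullback.snd f f)).obj F'}
  (hφ : EtDesc.IsCocycle F' φ)

include hφ in
/-- The values at two points of a scheme with connected geometric fibres are related. -/
theorem rel_of_connFibres {B S₀ : Scheme.{u}} (s : B ⟶ S₀)
    (hconn : ∀ (Ω : Type u) [Field Ω] [IsAlgClosed Ω] (η : Spec (CommRingCat.of Ω) ⟶ S₀),
      ConnectedSpace ↥(pullback s η))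
    {U : X'.Etale} (σ : F'.obj.obj (op U)) (l : B ⟶ U.left) (β : S₀ ⟶ X) (hβ : (l ≫ U.hom) ≫ f = s ≫ β)
    {Ω' : Type u} [Field Ω'] [IsAlgClosed Ω'] (z z' : Spec (CommRingCat.of Ω') ⟶ B) (h : z ≫ s = z' ≫ s) :
    Rel φ (⟨U, z ≫ l, σ⟩ : PS F' Ω') ⟨U, z' ≫ l, σ⟩ := by
  let P := pullback (z ≫ s) s
  haveI : UniversallyOpen (pullback.fst (z ≫ s) s) := universallyOpen_spec_field _
  haveI := hconn Ω' (z ≫ s)
  haveI : ConnectedSpace P :=
    (pullbackSymmetry s (z ≫ s)).hom.homeomorph.surjective.connectedSpace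
      (pullbackSymmetry s (z ≫ s)).hom.homeomorph.continuous
  have hov : ∀ {Ω₁ : Type u} [Field Ω₁] (a b : Spec (CommRingCat.of Ω₁) ⟶ B), a ≫ s = b ≫ s →
      ((a ≫ l) ≫ U.hom) ≫ f = ((b ≫ l) ≫ U.hom) ≫ f := fun a b e => by
    simp only [Category.assoc] at hβ ⊢
    rw [hβ, ← Category.assoc, ← Category.assoc b]
    exact congrArg (· ≫ β) e
  obtain ⟨R, hR⟩ := exists_relLocus φ σ σ ((pullback.fst (z ≫ s) s ≫ z) ≫ l) (pullback.snd (z ≫ s) s ≫ l) (by
    simp only [Category.assoc] at hβ ⊢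
    rw [hβ]
    simp only [← Category.assoc]
    exact congrArg (· ≫ β) ((Category.assoc _ _ _).trans pullback.condition))
  have hRc : IsOpen ((R : Set P)ᶜ) := by
    refine isOpen_iff_forall_mem_open.2 fun u hu => ?_
    let Ω₂ := AlgebraicClosure (P.residueField u)
    let e : Spec (CommRingCat.of Ω₂) ⟶ P :=
      Spec.map (CommRingCat.ofHom (algebraMap (P.residueField u) _)) ≫ P.fromSpecResidueField u
    have he : e.base default = u :=
      (Scheme.Hom.comp_apply _ _ _).trans (P.fromSpecResidueField_apply u _)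
    let ι := e ≫ pullback.fst (z ≫ s) s
    let w := e ≫ pullback.snd (z ≫ s) s
    have hw : ι ≫ z ≫ s = w ≫ s := by
      show (e ≫ _) ≫ z ≫ s = (e ≫ _) ≫ s
      exact (Category.assoc _ _ _).trans ((congrArg (e ≫ ·) pullback.condition).trans (Category.assoc _ _ _).symm)
    let P₂ := pullback (w ≫ s) s
    let μ : P₂ ⟶ P := pullback.lift (pullback.fst (w ≫ s) s ≫ ι) (pullback.snd (w ≫ s) s)
      ((Category.assoc _ _ _).trans ((congrArg (_ ≫ ·) hw).trans pullback.condition))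
    obtain ⟨O, hO⟩ := exists_relLocus φ σ σ ((pullback.fst (w ≫ s) s ≫ w) ≫ l) (pullback.snd (w ≫ s) s ≫ l) (by
      simp only [Category.assoc] at hβ ⊢
      rw [hβ]
      simp only [← Category.assoc]
      exact congrArg (· ≫ β) ((Category.assoc _ _ _).trans pullback.condition))
    haveI : UniversallyOpen μ := by
      have hsq : IsPullback μ (pullback.fst (w ≫ s) s) (pullback.fst (z ≫ s) s) ι := by
        refine IsPullback.of_right (h₁₂ := pullback.snd (z ≫ s) s) ?_ (pullback.lift_fst _ _ _)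
          (IsPullback.of_hasPullback (z ≫ s) s).flip
        rw [show μ ≫ pullback.snd (z ≫ s) s = pullback.snd (w ≫ s) s from pullback.lift_snd _ _ _, hw]
        exact (IsPullback.of_hasPullback (w ≫ s) s).flip
      exact MorphismProperty.of_isPullback (P := @UniversallyOpen) hsq.flip (universallyOpen_spec_field ι)
    refine ⟨μ.base '' (O : Set P₂), ?_, μ.isOpenMap _ O.2, ?_⟩
    · rintro c ⟨o, ho, rfl⟩ hc
      obtain ⟨Ω₃, _, _, ζ₀, t₀, ht₀⟩ := exists_fiber_geomPt (U := EtCoh.top P₂) o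
      obtain ⟨Ω₄, _, _, j, t, -, ht⟩ := exists_geom_lift (𝟙 P₂)
        (show Spec (CommRingCat.of Ω₃) ⟶ P₂ from t₀.left) o ht₀.symm
      have r1 := (hO Ω₄ t).2 (ht.symm ▸ ho)
      have r2 := (hR Ω₄ (t ≫ μ)).2 (by rw [Scheme.Hom.comp_apply, ht]; exact hc)
      have ea : (t ≫ μ) ≫ (pullback.fst (z ≫ s) s ≫ z) ≫ l = (t ≫ pullback.fst (w ≫ s) s) ≫ (ι ≫ z) ≫ l := by
        simp only [μ, Category.assoc, pullback.lift_fst_assoc]
      have eb : (t ≫ μ) ≫ pullback.snd (z ≫ s) s ≫ l = t ≫ pullback.snd (w ≫ s) s ≫ l := by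
        simp only [μ, Category.assoc, pullback.lift_snd_assoc]
      rw [ea, eb] at r2
      simp only [Category.assoc] at r1 r2
      have r3 := Rel.trans hφ r2 (Rel.symm hφ r1)
      apply hu
      refine he ▸ (hR Ω₂ e).1 ?_
      rw [show e ≫ (pullback.fst (z ≫ s) s ≫ z) ≫ l = (ι ≫ z) ≫ l by simp only [ι, Category.assoc],
        show e ≫ pullback.snd (z ≫ s) s ≫ l = w ≫ l from (Category.assoc _ _ _).symm]
      refine (rel_pull_iff (φ := φ) (t ≫ pullback.fst (w ≫ s) s)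
        (p := (⟨U, (ι ≫ z) ≫ l, σ⟩ : PS F' Ω₂)) (q := ⟨U, w ≫ l, σ⟩)
        (hov (ι ≫ z) w ((Category.assoc _ _ _).trans hw))).1 ?_
      simp only [PS.pull, Category.assoc]
      exact r3
    · let d : Spec (CommRingCat.of Ω₂) ⟶ P₂ := pullback.lift (𝟙 _) w (Category.id_comp _)
      refine ⟨d.base default, (hO Ω₂ d).1 ?_, ?_⟩
      · rw [show d ≫ (pullback.fst (w ≫ s) s ≫ w) ≫ l = w ≫ l by
            simp only [d, Category.assoc, pullback.lift_fst_assoc, Category.id_comp],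
          show d ≫ pullback.snd (w ≫ s) s ≫ l = w ≫ l from pullback.lift_snd_assoc _ _ _ _]
        exact rel_refl hφ _
      · refine ((Scheme.Hom.comp_apply _ _ _).symm.trans ?_).trans he
        refine congrArg (fun k : Spec (CommRingCat.of Ω₂) ⟶ P => k.base default) (pullback.hom_ext ?_ ?_)
        · simp only [μ, d, ι, Category.assoc, pullback.lift_fst, pullback.lift_fst_assoc, Category.id_comp]
        · simp only [μ, d, w, Category.assoc, pullback.lift_snd]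
  have huniv : (R : Set P) = Set.univ := by
    refine IsClopen.eq_univ ⟨⟨hRc⟩, R.2⟩ ?_
    let d : Spec (CommRingCat.of Ω') ⟶ P := pullback.lift (𝟙 _) z (Category.id_comp _)
    refine ⟨d.base default, (hR Ω' d).1 ?_⟩
    rw [show d ≫ (pullback.fst (z ≫ s) s ≫ z) ≫ l = z ≫ l by
        simp only [d, Category.assoc, pullback.lift_fst_assoc, Category.id_comp],
      show d ≫ pullback.snd (z ≫ s) s ≫ l = z ≫ l from pullback.lift_snd_assoc _ _ _ _]
    exact rel_refl hφ _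
  let d : Spec (CommRingCat.of Ω') ⟶ P := pullback.lift (𝟙 _) z' ((Category.id_comp _).trans h)
  have hd : d.base default ∈ (R : Set P) := by rw [huniv]; exact Set.mem_univ _
  have := (hR Ω' d).2 hd
  rw [show d ≫ (pullback.fst (z ≫ s) s ≫ z) ≫ l = z ≫ l by
      simp only [d, Category.assoc, pullback.lift_fst_assoc, Category.id_comp],
    show d ≫ pullback.snd (z ≫ s) s ≫ l = z' ≫ l from pullback.lift_snd_assoc _ _ _ _] at this
  exact this


include hφ in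
/-- Over the strictly local scheme of the base, generalizations of the marked point are related. -/
theorem rel_of_generalization {T0 S0 A0 : Scheme.{u}} [IsAffine T0] (k0 : T0 ⟶ A0) [Etale k0] (f0 : A0 ⟶ S0)
    (H : SubConnFibres f0) (j : S0 ⟶ X) {U : X'.Etale} (σ : F'.obj.obj (op U)) (e : T0 ⟶ U.left)
    (w : (e ≫ U.hom) ≫ f = (k0 ≫ f0) ≫ j) {Ω : Type u} [Field Ω] [IsSepClosed Ω]
    (l0 : Spec (CommRingCat.of Ω) ⟶ T0)
    (u : Spec (CommRingCat.of Ω) ⟶ XA (k0 ≫ f0) ((l0 ≫ k0) ≫ f0))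
    (hu₁ : u ≫ pullback.fst _ _ = Spec.map (valueHom ((l0 ≫ k0) ≫ f0)))
    (hu₂ : u ≫ pullback.snd _ _ = l0)
    {Ω' : Type u} [Field Ω'] [IsAlgClosed Ω'] (t t' : Spec (CommRingCat.of Ω') ⟶ XA (k0 ≫ f0) ((l0 ≫ k0) ≫ f0))
    (h : t ≫ pullback.fst _ _ = t' ≫ pullback.fst _ _)
    (ht : t.base default ⤳ u.base default) (ht' : t'.base default ⤳ u.base default) :
    Rel φ (⟨U, (t ≫ pullback.snd _ _) ≫ e, σ⟩ : PS F' Ω') ⟨U, (t' ≫ pullback.snd _ _) ≫ e, σ⟩ := by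
  let ξ0 := l0 ≫ k0
  let η0 := ξ0 ≫ f0
  obtain ⟨ψ, hψp, hψc, -, hconn⟩ := exists_strictMap f0 H ξ0
  let d := nbDatum ξ0
  let U0 : A0.Etale := Scheme.Etale.mk k0
  let z : (Scheme.pointSmallEtale ξ0).fiber.obj U0 := ptMk l0 rfl
  haveI : IsAffine U0.left := ‹IsAffine T0›
  let m : Spec (EtBase.etaleLocalRing ξ0) ⟶ T0 := d.sec U0 z
  have hm : m ≫ k0 = Nbhd.toBase ξ0 := d.sec_hom U0 z
  have hmc : Spec.map (valueHom ξ0) ≫ m = l0 := d.c_sec U0 z
  let c : Spec (EtBase.etaleLocalRing ξ0) ⟶ XA (k0 ≫ f0) η0 :=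
    pullback.lift ψ m (hψp.trans ((congrArg (· ≫ f0) hm.symm).trans (Category.assoc _ _ _)))
  have hc₁ : c ≫ pullback.fst _ _ = ψ := pullback.lift_fst _ _ _
  have hc₂ : c ≫ pullback.snd _ _ = m := pullback.lift_snd _ _ _
  have hcu : Spec.map (valueHom ξ0) ≫ c = u := pullback.hom_ext
    (by rw [Category.assoc, hc₁, hψc, hu₁]) (by rw [Category.assoc, hc₂, hmc, hu₂])
  haveI := weaklyEtale_toBase η0
  haveI := weaklyEtale_toBase ξ0
  haveI : WeaklyEtale (pullback.snd (Nbhd.toBase η0) (k0 ≫ f0)) := inferInstance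
  haveI : WeaklyEtale (m ≫ k0) := hm ▸ inferInstance
  haveI : WeaklyEtale k0 := inferInstance
  haveI : WeaklyEtale m := WeaklyEtale.of_comp m k0
  haveI : WeaklyEtale (c ≫ pullback.snd (Nbhd.toBase η0) (k0 ≫ f0)) := hc₂ ▸ inferInstance
  haveI : WeaklyEtale c := WeaklyEtale.of_comp c (pullback.snd (Nbhd.toBase η0) (k0 ≫ f0))
  have hgen : GeneralizingMap c.base := Flat.generalizingMap c
  have hlift : ∀ {L : Type u} [Field L] (r : Spec (CommRingCat.of L) ⟶ XA (k0 ≫ f0) η0),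
      r.base default ⤳ u.base default → ∃ o, c.base o = r.base default := fun r hr => by
    rw [← hcu, Scheme.Hom.comp_apply] at hr
    obtain ⟨o, -, ho⟩ := hgen hr
    exact ⟨o, ho⟩
  obtain ⟨o, ho⟩ := hlift t ht
  obtain ⟨Ω₁, _, _, ι₁, s₁, hs₁, -⟩ := exists_geom_lift c t o ho
  obtain ⟨o', ho'⟩ := hlift (ι₁ ≫ t') ((base_default_comp ι₁ t').symm ▸ ht')
  obtain ⟨Ω₂, _, _, ι₂, s₂, hs₂, -⟩ := exists_geom_lift c (ι₁ ≫ t') o' ho'
  have hs : (ι₂ ≫ s₁) ≫ ψ = s₂ ≫ ψ := by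
    have e₁ : s₁ ≫ ψ = ι₁ ≫ t ≫ pullback.fst _ _ :=
      (congrArg (s₁ ≫ ·) hc₁.symm).trans ((Category.assoc _ _ _).symm.trans
        ((congrArg (· ≫ _) hs₁).trans (Category.assoc _ _ _)))
    have e₂ : s₂ ≫ ψ = ι₂ ≫ ι₁ ≫ t' ≫ pullback.fst _ _ :=
      (congrArg (s₂ ≫ ·) hc₁.symm).trans ((Category.assoc _ _ _).symm.trans
        ((congrArg (· ≫ _) hs₂).trans ((Category.assoc _ _ _).trans (congrArg (ι₂ ≫ ·) (Category.assoc _ _ _)))))
    exact (Category.assoc ι₂ s₁ ψ).trans ((congrArg (ι₂ ≫ ·) e₁).trans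
      ((congrArg (fun q => ι₂ ≫ ι₁ ≫ q) h).trans e₂.symm))
  have hβ : ((m ≫ e) ≫ U.hom) ≫ f = ψ ≫ Nbhd.toBase η0 ≫ j := by
    refine ((congrArg (· ≫ f) (Category.assoc m e U.hom)).trans (Category.assoc m (e ≫ U.hom) f)).trans ?_
    refine (congrArg (m ≫ ·) (w.trans (Category.assoc k0 f0 j))).trans ?_
    refine (Category.assoc m k0 (f0 ≫ j)).symm.trans ((congrArg (· ≫ f0 ≫ j) hm).trans ?_)
    exact (Category.assoc _ f0 j).symm.trans ((congrArg (· ≫ j) hψp.symm).trans (Category.assoc _ _ _))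
  have hr := rel_of_connFibres hφ ψ hconn σ (m ≫ e) (Nbhd.toBase η0 ≫ j) hβ (ι₂ ≫ s₁) s₂ hs
  have hov0 : ∀ {L : Type u} [Field L] (r : Spec (CommRingCat.of L) ⟶ XA (k0 ≫ f0) η0),
      (((r ≫ pullback.snd _ _) ≫ e) ≫ U.hom) ≫ f = (r ≫ pullback.fst _ _) ≫ Nbhd.toBase η0 ≫ j := fun r =>
    ((congrArg (· ≫ f) (Category.assoc _ e U.hom)).trans (Category.assoc _ (e ≫ U.hom) f)).trans
      ((congrArg (_ ≫ ·) w).trans ((Category.assoc _ _ _).symm.trans
        ((congrArg (· ≫ j) ((Category.assoc r _ _).trans ((congrArg (r ≫ ·) pullback.condition.symm).trans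
          (Category.assoc r _ _).symm))).trans (Category.assoc _ _ _))))
  have hov : (((t ≫ pullback.snd (Nbhd.toBase η0) (k0 ≫ f0)) ≫ e) ≫ U.hom) ≫ f =
      (((t' ≫ pullback.snd (Nbhd.toBase η0) (k0 ≫ f0)) ≫ e) ≫ U.hom) ≫ f :=
    (hov0 t).trans ((congrArg (· ≫ Nbhd.toBase η0 ≫ j) h).trans (hov0 t').symm)
  refine (rel_pull_iff (φ := φ) (ι₂ ≫ ι₁) (p := (⟨U, (t ≫ pullback.snd _ _) ≫ e, σ⟩ : PS F' Ω'))
    (q := ⟨U, (t' ≫ pullback.snd _ _) ≫ e, σ⟩) hov).1 ?_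
  have k₁ : (ι₂ ≫ s₁) ≫ m ≫ e = (ι₂ ≫ ι₁) ≫ (t ≫ pullback.snd _ _) ≫ e :=
    pull_eq ι₂ ι₁ s₁ c (pullback.snd _ _) m e t hc₂ hs₁
  have k₂ : s₂ ≫ m ≫ e = (ι₂ ≫ ι₁) ≫ (t' ≫ pullback.snd _ _) ≫ e :=
    pull_eq' ι₂ ι₁ s₂ c (pullback.snd _ _) m e t' hc₂ hs₂
  rw [k₁, k₂] at hr
  exact hr

end Groth.Agent.H11SetBC.SubDesc
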