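import Groth.Agent.H11SetBC.SubConn
import Groth.Agent.H06Red.Scheme
import Groth.Agent.H7Lim.GeomConnFinite
import Groth.Agent.H17.Reduced
import Mathlib.FieldTheory.PurelyInseparable.PerfectClosure

/-!
# Morphisms to discrete schemes are universally locally 0-acyclic
-/

set_option autoImplicit false
set_option linter.style.haveILetI false
set_option linter.unusedSectionVars false
set_option backward.isDefEq.respectTransparency false
set_option backward.isDefEq.respectTransparency.types false

universe u

open CategoryTheory CategoryTheory.Limits AlgebraicGeometry Opposite IsLocalRing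

namespace Groth.Agent.H11SetBC

theorem uHomeoNear_comp_global {A B C : Scheme.{u}} (r : A ⟶ B) [IsIntegralHom r] [UniversallyInjective r]
    [Surjective r] (f : B ⟶ C) (z : C) (hf : UHomeoNear f z) : UHomeoNear (r ≫ f) z := by
  intro R _ _ q hq
  obtain ⟨h1, h2, h3⟩ := hf R q hq
  let hpb := (IsPullback.of_hasPullback r (pullback.fst f q)).paste_vert (IsPullback.of_hasPullback f q)
  rw [show pullback.snd (r ≫ f) q = hpb.isoPullback.inv ≫ (pullback.snd r (pullback.fst f q) ≫ pullback.snd f q) from
    hpb.isoPullback_inv_snd.symm]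
  haveI : UniversallyInjective (pullback.snd r (pullback.fst f q)) := MorphismProperty.pullback_snd _ _ inferInstance
  haveI : IsIntegralHom (pullback.snd r (pullback.fst f q)) := MorphismProperty.pullback_snd _ _ inferInstance
  exact ⟨inferInstance, (MorphismProperty.cancel_left_of_respectsIso @UniversallyInjective _ _).2
    (MorphismProperty.comp_mem @UniversallyInjective _ _ inferInstance h2), inferInstance⟩

/-- Base changes of maps to discrete schemes have submersive strict localizations with connected fibres. -/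
theorem subConn_of_discrete {X Y X₁ Y₁ : Scheme.{u}} {g : X ⟶ Y} [DiscreteTopology Y] {g₁ : X₁ ⟶ Y₁}
    {b' : X₁ ⟶ X} {b : Y₁ ⟶ Y} (sq : IsPullback b' g₁ g b) : SubConnFibres g₁ := by
  intro x RS _ _ _ _ _ RX _ _ _ _ _ ψ _ hψ
  let y : Y := b (g₁ x)
  have hgx : g (b' x) = y := congrArg (fun k : X₁ ⟶ Y => k x) sq.w
  let U : Y.Opens := ⟨{y}, isOpen_discrete _⟩
  let κ : Type u := Y.residueField y
  let K : Type u := perfectClosure κ (AlgebraicClosure κ)
  let i0 := Y.fromSpecResidueField y
  have hr : Set.range i0 ⊆ Set.range U.ι := by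
    rw [Scheme.range_fromSpecResidueField, Scheme.Opens.range_ι]; rfl
  let u0 := IsOpenImmersion.lift U.ι i0 hr
  have hu0 : u0 ≫ U.ι = i0 := IsOpenImmersion.lift_fac _ _ _
  haveI : IsPreimmersion (u0 ≫ U.ι) := hu0 ▸ (inferInstance : IsPreimmersion i0)
  haveI : IsPreimmersion u0 := IsPreimmersion.of_comp u0 U.ι
  haveI : Subsingleton U := ⟨fun a c => Subtype.ext ((Set.mem_singleton_iff.1 a.2).trans (Set.mem_singleton_iff.1 c.2).symm)⟩
  haveI : IsClosedImmersion u0 := IsClosedImmersion.of_isPreimmersion _ (isClosed_discrete _)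
  haveI : Surjective u0 := ⟨fun z => ⟨default, Subsingleton.elim _ _⟩⟩
  let w : Spec (CommRingCat.of K) ⟶ Spec (CommRingCat.of κ) := Spec.map (CommRingCat.ofHom (algebraMap κ K))
  haveI : UniversallyInjective w := H7Lim.GeomConnFinite.universallyInjective_SpecMap κ K
  haveI : IsIntegralHom w :=
    IsIntegralHom.SpecMap_iff.2 (algebraMap_isIntegral_iff.2 (inferInstance : Algebra.IsIntegral κ K))
  haveI : Surjective w := ⟨fun z => ⟨default, Subsingleton.elim _ _⟩⟩
  haveI : IsIntegralHom u0 := inferInstance
  haveI : UniversallyInjective u0 := inferInstance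
  let v0 : Spec (CommRingCat.of K) ⟶ Y := (w ≫ u0) ≫ U.ι
  haveI : UniversallyInjective (w ≫ u0) := MorphismProperty.comp_mem @UniversallyInjective _ _ inferInstance inferInstance
  have hv0 : UHomeoNear v0 y := uHomeoNear_comp_open (w ≫ u0) U.ι y ⟨⟨y, rfl⟩, rfl⟩
  let XK := pullback g v0
  let r := XK.nilradical.subschemeι
  haveI : IsReduced XK.nilradical.subscheme :=
    (H17.eq_nilradical_iff _ (Scheme.support_nilradical XK)).2 rfl
  haveI : Surjective r := ⟨Set.range_eq_univ.1 (by
    rw [Scheme.IdealSheafData.range_subschemeι, Scheme.support_nilradical]; rfl)⟩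
  haveI : UniversallyInjective r := inferInstance
  let h : XK.nilradical.subscheme ⟶ Spec (CommRingCat.of K) := r ≫ pullback.snd g v0
  let u : XK.nilradical.subscheme ⟶ X := r ≫ pullback.fst g v0
  haveI : GeometricallyReduced h := H06Red.geometricallyReduced_of_perfectField h
  haveI : Flat h := inferInstance
  have hu : UHomeoNear u (b' x) := by
    refine uHomeoNear_comp_global r _ _ (UHomeoNear.baseChange (IsPullback.of_hasPullback g v0).flip (b' x) ?_)
    rw [hgx]; exact hv0
  let v₁ : pullback v0 b ⟶ Y₁ := pullback.snd v0 b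
  have hv₁ : UHomeoNear v₁ (g₁ x) := UHomeoNear.baseChange (IsPullback.of_hasPullback v0 b) (g₁ x) hv0
  let k := pullback.fst v0 b
  let a' := pullback.snd h k
  have hug : u ≫ g = h ≫ v0 := by simp only [u, h, Category.assoc, pullback.condition]
  let u₁ : pullback h k ⟶ X₁ := sq.lift (pullback.fst h k ≫ u) (a' ≫ v₁) (by
    rw [Category.assoc, hug, ← Category.assoc, pullback.condition, Category.assoc, Category.assoc, pullback.condition])
  have hw : u₁ ≫ g₁ = a' ≫ v₁ := sq.lift_snd _ _ _
  have hbig : IsPullback (pullback.fst h k) (u₁ ≫ g₁) (u ≫ g) b := by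
    rw [hw, hug]
    exact (IsPullback.of_hasPullback h k).paste_vert (IsPullback.of_hasPullback v0 b)
  have hu₁ : UHomeoNear u₁ x :=
    UHomeoNear.baseChange (IsPullback.of_bot hbig (sq.lift_fst _ _ _).symm sq) x hu
  exact subConn_of_square hw (subConn_of_shConn (shConnFibres_of_noetherian a' (IsPullback.of_hasPullback h k)))
    x hu₁ hv₁ RS RX ψ hψ

end Groth.Agent.H11SetBC
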