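import Groth.Agent.H11SetBC.FlatBC
import Groth.Agent.H18PBC.DegreeZero
import Groth.Agent.H9Et.GeomConnOfAlgClosed

/-!
# Base change of sheaves of sets and étale localization
-/

set_option autoImplicit false
set_option linter.style.haveILetI false
set_option linter.unusedSectionVars false
set_option backward.isDefEq.respectTransparency false
set_option backward.isDefEq.respectTransparency.types false

universe u

open CategoryTheory CategoryTheory.Limits AlgebraicGeometry Opposite TopologicalSpace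
open scoped Groth.Agent.H18Et

namespace Groth.Agent.H11SetBC

open H15Site.SetDescent H18Et H18PBC H18PBC.Fibre H18PBC.DegZero

section Stalk

variable {X S Y T : Scheme.{u}} (f : X ⟶ S) (g : T ⟶ S) (h : Y ⟶ X) (e : Y ⟶ T) (w : e ≫ g = h ≫ f)
  (F : EtDesc.Sh T) {Ω : Type u} [Field Ω] [IsSepClosed Ω] (η : Spec (CommRingCat.of Ω) ⟶ X)
  (ξ : Spec (CommRingCat.of Ω) ⟶ S) (hξ : η ≫ f = ξ)

/-- The base change map on the stalk at a geometric point. -/
noncomputable def stalkBC :
    ((Scheme.pointSmallEtale ξ).sheafFiber (A := Type (u + 1))).obj ((EtDesc.pushSh g).obj F) →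
      ((Scheme.pointSmallEtale η).sheafFiber (A := Type (u + 1))).obj
        ((EtDesc.pushSh h).obj ((EtDesc.pullSh e).obj F)) :=
  hξ ▸ fun p => ((Scheme.pointSmallEtale η).sheafFiber (A := Type (u + 1))).map (EtBC.baseChange0Sh g f h e w F)
    ((stalkPullShIso f η).inv.app ((EtDesc.pushSh g).obj F) p)

theorem stalkBC_germ {W : S.Etale} (z : (Scheme.pointSmallEtale ξ).fiber.obj W)
    (y : (Scheme.pointSmallEtale η).fiber.obj ((EtCoh.bc f).obj W))
    (hy : (show Spec (CommRingCat.of Ω) ⟶ pullback W.hom f from y.left) ≫ pullback.fst W.hom f = z.left)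
    (s : F.obj.obj (op ((EtCoh.bc g).obj W))) :
    stalkBC f g h e w F η ξ hξ (germ ξ ((EtDesc.pushSh g).obj F) W z s) =
      germ η ((EtDesc.pushSh h).obj ((EtDesc.pullSh e).obj F)) ((EtCoh.bc f).obj W) y
        (((EtDesc.pullSh e).obj F).obj.map (cMap g f h e w W).op (pullSect e F (U := (EtCoh.bc g).obj W) s)) := by
  subst hξ
  have hyz : y = (fiberCompIso f η).inv.app W z := by
    refine Over.OverMorphism.ext (pullback.hom_ext ?_ ?_)
    · exact hy.trans (fiberCompIso_inv_left f η W z).symm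
    · exact (Over.w y).trans (Over.w ((fiberCompIso f η).inv.app W z)).symm
  subst hyz
  refine ((congrArg (fun k => ((Scheme.pointSmallEtale η).sheafFiber (A := Type (u + 1))).map _ k)
    (stalkPullShIso_inv_germ f η ((EtDesc.pushSh g).obj F) W z s)).trans
      (germ_naturality η (EtBC.baseChange0Sh g f h e w F) ((EtCoh.bc f).obj W) _ _)).trans ?_
  exact congrArg _ (H11PBCSet.baseChange0Sh_unit g f h e w F W s)

theorem bijective_stalkBC_iff :
    Function.Bijective (stalkBC f g h e w F η ξ hξ) ↔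
      Function.Bijective (((Scheme.pointSmallEtale η).sheafFiber (A := Type (u + 1))).map
        (EtBC.baseChange0Sh g f h e w F)) := by
  subst hξ
  exact Function.Bijective.of_comp_iff _ ((isIso_iff_bijective _).1 (inferInstance :
    IsIso ((stalkPullShIso f η).inv.app ((EtDesc.pushSh g).obj F))))

theorem bijective_stalkBC [IsIso (EtBC.baseChange0Sh g f h e w F)] :
    Function.Bijective (stalkBC f g h e w F η ξ hξ) :=
  (bijective_stalkBC_iff f g h e w F η ξ hξ).2 ((isIso_iff_bijective _).1 inferInstance)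

end Stalk

section Paste

variable {X S Y T X' Y' : Scheme.{u}} (f : X ⟶ S) (g : T ⟶ S) (h : Y ⟶ X) (e : Y ⟶ T) (w : e ≫ g = h ≫ f)
  (f' : X' ⟶ X) (h' : Y' ⟶ X') (e' : Y' ⟶ Y) (w' : e' ≫ h = h' ≫ f')
  (fb : X' ⟶ S) (eb : Y' ⟶ T) (hf : f' ≫ f = fb) (he : e' ≫ e = eb) (wb : eb ≫ g = h' ≫ fb)
  (F : EtDesc.Sh T) {Ω : Type u} [Field Ω] [IsSepClosed Ω] (η' : Spec (CommRingCat.of Ω) ⟶ X')
  (η : Spec (CommRingCat.of Ω) ⟶ X) (hη : η' ≫ f' = η)
  (ξ : Spec (CommRingCat.of Ω) ⟶ S) (hξ : η ≫ f = ξ) (hξb : η' ≫ fb = ξ)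

/-- The comparison of the two inverse images on stalks. -/
noncomputable abbrev stalkVia :=
  ((Scheme.pointSmallEtale η').sheafFiber (A := Type (u + 1))).map
    ((EtDesc.pushSh h').map (EtDesc.pullVia e' e eb he F).inv)

include hf in
set_option maxHeartbeats 1000000 in
/-- Base change is compatible with composites of squares. -/
theorem stalkBC_paste :
    stalkBC f' h h' e' w' ((EtDesc.pullSh e).obj F) η' η hη ∘ stalkBC f g h e w F η ξ hξ =
      stalkVia e h' e' eb he F η' ∘ stalkBC fb g h' eb wb F η' ξ hξb := by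
  funext p
  obtain ⟨W, z, s, rfl⟩ := germ_surjective ξ ((EtDesc.pushSh g).obj F) p
  let y₁ : (Scheme.pointSmallEtale η).fiber.obj ((EtCoh.bc f).obj W) :=
    Over.homMk (pullback.lift z.left η ((Over.w z).trans hξ.symm)) (pullback.lift_snd _ _ _)
  let y₂ : (Scheme.pointSmallEtale η').fiber.obj ((EtCoh.bc f').obj ((EtCoh.bc f).obj W)) :=
    Over.homMk (pullback.lift y₁.left η' ((Over.w y₁).trans hη.symm)) (pullback.lift_snd _ _ _)
  let y₃ : (Scheme.pointSmallEtale η').fiber.obj ((EtCoh.bc fb).obj W) :=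
    Over.homMk (pullback.lift z.left η' ((Over.w z).trans hξb.symm)) (pullback.lift_snd _ _ _)
  let κ := tm f' f fb hf W
  have hκ : (Scheme.pointSmallEtale η').fiber.map κ y₃ = y₂ := by
    refine Over.OverMorphism.ext (pullback.hom_ext (pullback.hom_ext ?_ ?_) ?_)
    · show ((y₃.left ≫ (tm f' f fb hf W).left) ≫ pullback.fst _ _) ≫ pullback.fst _ _ = _
      rw [Category.assoc, Category.assoc, ← Category.assoc (tm f' f fb hf W).left, tm_fst_fst]
      simp [y₁, y₂, y₃]
    · show ((y₃.left ≫ (tm f' f fb hf W).left) ≫ pullback.fst _ _) ≫ pullback.snd _ _ = _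
      refine (Category.assoc _ _ _).trans ((congrArg (_ ≫ ·)
        (pullback.condition (f := ((EtCoh.bc f).obj W).hom) (g := f'))).trans ?_)
      refine (Category.assoc _ _ _).symm.trans ?_
      refine (congrArg (· ≫ f') (((Category.assoc _ _ _).trans (congrArg (y₃.left ≫ ·)
        (Over.w (tm f' f fb hf W).hom))).trans (Over.w y₃))).trans ?_
      refine hη.trans ?_
      simp [y₁, y₂]
    · exact ((Category.assoc _ _ _).trans (congrArg (y₃.left ≫ ·) (Over.w κ.hom))).trans
        ((Over.w y₃).trans (Over.w y₂).symm)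
  show stalkBC f' h h' e' w' ((EtDesc.pullSh e).obj F) η' η hη (stalkBC f g h e w F η ξ hξ _) = _
  rw [stalkBC_germ f g h e w F η ξ hξ z y₁ (pullback.lift_fst _ _ _) s,
    stalkBC_germ f' h h' e' w' ((EtDesc.pullSh e).obj F) η' η hη y₁ y₂ (pullback.lift_fst _ _ _)]
  show _ = stalkVia e h' e' eb he F η' (stalkBC fb g h' eb wb F η' ξ hξb _)
  rw [stalkBC_germ fb g h' eb wb F η' ξ hξb z y₃ (pullback.lift_fst _ _ _) s]
  refine Eq.trans ?_ (germ_naturality η' ((EtDesc.pushSh h').map (EtDesc.pullVia e' e eb he F).inv)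
    ((EtCoh.bc fb).obj W) y₃ _).symm
  rw [← hκ, ← germ_map _ κ y₃]
  refine congrArg (fun k => germ η' ((EtDesc.pushSh h').obj ((EtDesc.pullSh e').obj ((EtDesc.pullSh e).obj F))) ((EtCoh.bc fb).obj W) y₃ k) ?_
  show ((EtDesc.pullSh e').obj ((EtDesc.pullSh e).obj F)).obj.map ((EtCoh.bc h').map κ).op _ =
    (EtDesc.pullVia e' e eb he F).inv.hom.app (op ((EtCoh.bc h').obj ((EtCoh.bc fb).obj W))) _
  rw [pullSect_map, ← Functor.map_comp_apply, ← Functor.map_comp_apply, ← op_comp, ← op_comp]
  refine map_pullSect_pullSect e' e eb he F _ (cMap g fb h' eb wb W) ?_ s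
  refine bc_bc_hom_ext ?_
  show (((cMap g fb h' eb wb W).left ≫ (tm e' e eb he _).left) ≫ pullback.fst _ _) ≫ pullback.fst _ _ =
    (((((EtCoh.bc h').map κ).left ≫ (cMap h f' h' e' w' ((EtCoh.bc f).obj W)).left) ≫
      ((EtCoh.bc e').map (cMap g f h e w W)).left) ≫ pullback.fst _ _) ≫ pullback.fst _ _
  rw [Category.assoc (cMap g fb h' eb wb W).left, Category.assoc (cMap g fb h' eb wb W).left, tm_fst_fst]
  refine pullback.hom_ext ?_ ?_
  · rw [Category.assoc, cMap_fst_fst g fb h' eb wb W]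
    simp only [Category.assoc]
    rw [← Category.assoc ((EtCoh.bc e').map (cMap g f h e w W)).left, bc_map_fst]
    simp only [Category.assoc]
    rw [cMap_fst_fst g f h e w W, ← Category.assoc (pullback.fst _ e'), ← Category.assoc (cMap h f' h' e' w' ((EtCoh.bc f).obj W)).left]
    simp only [Category.assoc]
    rw [← Category.assoc (pullback.fst _ e') (pullback.fst _ h), ← Category.assoc (cMap h f' h' e' w' ((EtCoh.bc f).obj W)).left,
      cMap_fst_fst h f' h' e' w' ((EtCoh.bc f).obj W), Category.assoc,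
      ← Category.assoc ((EtCoh.bc h').map κ).left, bc_map_fst, Category.assoc,
      ← Category.assoc κ.left, tm_fst_fst]
  · have c1 : (cMap g fb h' eb wb W).left ≫ pullback.snd ((EtCoh.bc g).obj W).hom eb = _ :=
      Over.w (cMap g fb h' eb wb W).hom
    have c2 : ((EtCoh.bc h').map κ).left ≫ ((EtCoh.bc h').obj ((EtCoh.bc f').obj ((EtCoh.bc f).obj W))).hom = _ :=
      Over.w ((EtCoh.bc h').map κ).hom
    have c3 : (cMap h f' h' e' w' ((EtCoh.bc f).obj W)).left ≫
        ((EtCoh.bc e').obj ((EtCoh.bc h).obj ((EtCoh.bc f).obj W))).hom = _ :=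
      Over.w (cMap h f' h' e' w' ((EtCoh.bc f).obj W)).hom
    have c4 : ((EtCoh.bc e').map (cMap g f h e w W)).left ≫ pullback.snd ((EtCoh.bc e).obj ((EtCoh.bc g).obj W)).hom e' = _ :=
      Over.w ((EtCoh.bc e').map (cMap g f h e w W)).hom
    refine ((Category.assoc _ _ _).trans ((congrArg ((cMap g fb h' eb wb W).left ≫ ·) (pullback.condition
      (f := ((EtCoh.bc g).obj W).hom) (g := eb))).trans ((Category.assoc _ _ _).symm.trans
        (congrArg (· ≫ eb) c1)))).trans ?_
    refine Eq.trans ?_ (Eq.symm ((Category.assoc _ _ _).trans ((congrArg (_ ≫ ·) (pullback.condition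
      (f := ((EtCoh.bc g).obj W).hom) (g := e))).trans ((Category.assoc _ _ _).symm.trans (congrArg (· ≫ e)
        ((Category.assoc _ _ _).trans (congrArg (_ ≫ ·) (pullback.condition
          (f := ((EtCoh.bc e).obj ((EtCoh.bc g).obj W)).hom) (g := e')))))))))
    simp only [Category.assoc]
    rw [he, ← Category.assoc ((EtCoh.bc e').map (cMap g f h e w W)).left, c4,
      ← Category.assoc (cMap h f' h' e' w' ((EtCoh.bc f).obj W)).left, c3,
      ← Category.assoc ((EtCoh.bc h').map κ).left, c2]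

end Paste

/-- Base change along an étale map is invertible. -/
theorem isIso_baseChange0Sh_etale {X S Y T : Scheme.{u}} (f : X ⟶ S) [Etale f] (g : T ⟶ S) (h : Y ⟶ X) (e : Y ⟶ T)
    (c : IsPullback e h g f) (F : EtDesc.Sh T) : IsIso (EtBC.baseChange0Sh g f h e c.w F) := by
  refine isIso_baseChange0Sh_of_factorizations f g h e c F fun U => ?_
  refine ⟨PUnit, fun _ => U, fun _ => 𝟙 U, fun y => ⟨⟨⟩, y, rfl⟩, fun _ => ?_⟩
  haveI := U.prop
  haveI : GeometricallyConnected (𝟙 U.left) := H9Et.geometricallyConnected_of_algClosed _ fun Ω _ _ s => by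
    haveI : ConnectedSpace (Spec (CommRingCat.of Ω)) :=
      { toPreconnectedSpace := inferInstance, toNonempty := inferInstance }
    exact (pullback.snd (𝟙 U.left) s).homeomorph.symm.surjective.connectedSpace
      (pullback.snd (𝟙 U.left) s).homeomorph.symm.continuous
  exact ⟨Scheme.Etale.mk (U.hom ≫ f), 𝟙 _, Category.id_comp _, inferInstance, inferInstance⟩

end Groth.Agent.H11SetBC
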