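import Groth.Agent.H11SetBC.GeomConnEt
import Groth.Agent.H18PBC.DegreeZero

/-!
# Sections of inverse images along étale maps, and relative pullback of sections
-/

set_option autoImplicit false
set_option linter.style.haveILetI false
set_option linter.unusedSectionVars false
set_option backward.isDefEq.respectTransparency false
set_option backward.isDefEq.respectTransparency.types false

universe u

open CategoryTheory CategoryTheory.Limits AlgebraicGeometry Opposite TopologicalSpace
open scoped Groth.Agent.H18Et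

namespace Groth.Agent.H11SetBC

open H15Site.SetDescent H18Et H18PBC H18PBC.Fibre H18PBC.DegZero

variable {X : Scheme.{u}}

/-- An étale object over `X` with a map to `W`, seen over `W`. -/
noncomputable abbrev overW {W W' : X.Etale} (g : W' ⟶ W) : W.left.Etale :=
  haveI := etale_left g
  Scheme.Etale.mk g.left

/-- The graph. -/
noncomputable def graphW {W W' : X.Etale} (g : W' ⟶ W) : overW g ⟶ (EtCoh.bc W.hom).obj W' :=
  MorphismProperty.Over.homMk (pullback.lift (𝟙 W'.left) g.left ((Category.id_comp _).trans (Over.w g.hom).symm))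
    (pullback.lift_snd _ _ _) trivial

theorem graphW_fst {W W' : X.Etale} (g : W' ⟶ W) : (graphW g).left ≫ pullback.fst W'.hom W.hom = 𝟙 _ :=
  pullback.lift_fst _ _ _

/-- Restriction of a section to a sheaf over an étale object. -/
noncomputable def rho (F : EtDesc.Sh X) {W W' : X.Etale} (g : W' ⟶ W) (t : F.obj.obj (op W')) :
    ((EtDesc.pullSh W.hom).obj F).obj.obj (op (overW g)) :=
  ((EtDesc.pullSh W.hom).obj F).obj.map (graphW g).op (pullSect W.hom F t)

theorem rho_injective (F : EtDesc.Sh X) {W W' : X.Etale} (g : W' ⟶ W) : Function.Injective (rho F g) := fun s t h => by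
  refine eq_of_agree_eq_univ F s t fun u => ?_
  have h1 : u ∈ agree ((EtDesc.pullSh W.hom).obj F) (rho F g s) (rho F g t) := by
    rw [h]; exact ⟨_, 𝟙 _, u, rfl, rfl⟩
  rw [rho, rho, mem_agree_map, mem_agree_pullSect] at h1
  have h2 : (pullback.fst W'.hom W.hom).base ((graphW g).left.base u) = u :=
    congrArg (fun q : W'.left ⟶ W'.left => q.base u) (graphW_fst g)
  exact h2 ▸ h1

/-- Comparison maps over `W`. -/
noncomputable def overWMap {W W' W'' : X.Etale} (e : W'' ⟶ W') (g : W' ⟶ W) : overW (e ≫ g) ⟶ overW g :=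
  MorphismProperty.Over.homMk e.left rfl trivial

theorem rho_map (F : EtDesc.Sh X) {W W' W'' : X.Etale} (e : W'' ⟶ W') (g : W' ⟶ W) (t : F.obj.obj (op W')) :
    rho F (e ≫ g) (F.obj.map e.op t) =
      ((EtDesc.pullSh W.hom).obj F).obj.map (overWMap e g).op (rho F g t) := by
  unfold rho
  rw [pullSect_map, ← Functor.map_comp_apply, ← Functor.map_comp_apply, ← op_comp, ← op_comp]
  refine congrArg (fun k => ((EtDesc.pullSh W.hom).obj F).obj.map k.op (pullSect W.hom F t)) (bc_hom_ext ?_)
  refine (Category.assoc _ _ _).trans ((congrArg (_ ≫ ·) (bc_map_fst W.hom e)).trans ?_)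
  refine (Category.assoc _ _ _).symm.trans ((congrArg (· ≫ e.left) (graphW_fst (e ≫ g))).trans ?_)
  refine (Category.id_comp _).trans (Eq.symm ?_)
  exact (Category.assoc _ _ _).trans ((congrArg (_ ≫ ·) (graphW_fst g)).trans (Category.comp_id _))

/-- The map from an object over `W` to the whole of `W`. -/
noncomputable def overWTop {W W' : X.Etale} (g : W' ⟶ W) : overW g ⟶ overW (𝟙 W) :=
  MorphismProperty.Over.homMk g.left (Category.comp_id _) trivial

theorem rho_top (F : EtDesc.Sh X) {W W' : X.Etale} (g : W' ⟶ W) (t : F.obj.obj (op W)) :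
    rho F g (F.obj.map g.op t) = ((EtDesc.pullSh W.hom).obj F).obj.map (overWTop g).op (rho F (𝟙 W) t) := by
  unfold rho
  rw [pullSect_map, ← Functor.map_comp_apply, ← Functor.map_comp_apply, ← op_comp, ← op_comp]
  refine congrArg (fun k => ((EtDesc.pullSh W.hom).obj F).obj.map k.op (pullSect W.hom F t)) (bc_hom_ext ?_)
  refine (Category.assoc _ _ _).trans ((congrArg (_ ≫ ·) (bc_map_fst W.hom g)).trans ?_)
  refine (Category.assoc _ _ _).symm.trans ((congrArg (· ≫ g.left) (graphW_fst g)).trans ?_)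
  refine (Category.id_comp _).trans (Eq.symm ?_)
  exact (Category.assoc _ _ _).trans ((congrArg (_ ≫ ·) (graphW_fst (𝟙 W))).trans (Category.comp_id _))

set_option maxHeartbeats 1600000 in
theorem rho_surjective (F : EtDesc.Sh X) (W : X.Etale) : Function.Surjective (rho F (𝟙 W)) := by
  intro σ
  haveI := W.prop
  let P := fun (W' : X.Etale) (g : W' ⟶ W) (t : F.obj.obj (op W')) =>
    rho F g t = ((EtDesc.pullSh W.hom).obj F).obj.map (overWTop g).op σ
  have huniq : ∀ {W' : X.Etale} (g : W' ⟶ W) (t t' : F.obj.obj (op W')), P W' g t → P W' g t' → t = t' :=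
    fun g t t' h h' => rho_injective F g (h.trans h'.symm)
  have hmap : ∀ {W' W'' : X.Etale} (g : W' ⟶ W) (e : W'' ⟶ W') (t : F.obj.obj (op W')), P W' g t →
      P W'' (e ≫ g) (F.obj.map e.op t) := fun {W' W''} g e t h => by
    show rho F (e ≫ g) _ = _
    rw [rho_map, show rho F g t = _ from h, ← Functor.map_comp_apply, ← op_comp]
    exact congrArg (fun k => ((EtDesc.pullSh W.hom).obj F).obj.map k.op σ)
      (MorphismProperty.Over.Hom.ext rfl)
  let R : Sieve W :=
    { arrows := fun W' g => ∃ t, P W' g t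
      downward_closed := fun {W' W''} g ⟨t, ht⟩ e => ⟨_, hmap g e t ht⟩ }
  have hR : R ∈ X.smallEtaleTopology W := by
    refine mem_topology_of_forall_point _ fun u => ?_
    let η := geomPt u
    haveI : IsSepClosed (SeparableClosure (W.left.residueField u)) := SeparableClosure.isSepClosed _
    let Φ := Scheme.pointSmallEtale η
    let c : Φ.fiber.obj (overW (𝟙 W)) := Over.homMk η (Category.comp_id _)
    let z : (Scheme.pointSmallEtale (η ≫ W.hom)).fiber.obj W := Over.homMk η rfl
    obtain ⟨W₀, w₀, t₀, ht₀⟩ := germ_surjective (η ≫ W.hom) F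
      ((stalkPullShIso W.hom η).hom.app F (germ η ((EtDesc.pullSh W.hom).obj F) (overW (𝟙 W)) c σ))
    obtain ⟨⟨W', w⟩, ⟨g, hg⟩, ⟨e, he⟩, -⟩ := IsCofilteredOrEmpty.cone_objs
      (C := (Scheme.pointSmallEtale (η ≫ W.hom)).fiber.Elements) ⟨W, z⟩ ⟨W₀, w₀⟩
    dsimp at g e hg he
    let c' : Φ.fiber.obj (overW g) := Over.homMk w.left (congrArg (fun k => k.left) hg)
    have hc' : Φ.fiber.map (graphW g) c' = (fiberCompIso W.hom η).inv.app W' w := by
      refine Over.OverMorphism.ext (pullback.hom_ext ?_ ?_)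
      · refine Eq.trans ?_ (fiberCompIso_inv_left W.hom η W' w).symm
        exact (Category.assoc _ _ _).trans ((congrArg (w.left ≫ ·) (graphW_fst g)).trans (Category.comp_id _))
      · refine Eq.trans ?_ (Over.w ((fiberCompIso W.hom η).inv.app W' w)).symm
        exact (Category.assoc _ _ _).trans ((congrArg (w.left ≫ ·) (pullback.lift_snd _ _ _)).trans
          (congrArg (fun k => k.left) hg))
    have hagree : ptOf c' ∈ agree _ (rho F g (F.obj.map e.op t₀))
        (((EtDesc.pullSh W.hom).obj F).obj.map (overWTop g).op σ) := by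
      refine (germ_eq_iff_mem_agree _ _ _ _).1 ?_
      refine (germ_map _ _ _ _).trans (Eq.trans ?_ (germ_map _ _ _ _).symm)
      rw [hc', germ_pullSect, germ_map, he, ht₀]
      refine (ConcreteCategory.congr_hom ((stalkPullShIso W.hom η).hom_inv_id_app F) _).trans ?_
      refine congrArg (fun q => germ η ((EtDesc.pullSh W.hom).obj F) (overW (𝟙 W)) q σ) (Over.OverMorphism.ext ?_)
      exact (congrArg (fun k => k.left) hg).symm
    obtain ⟨C, k, v, hv, hk⟩ := hagree
    haveI := etale_left k
    haveI := W'.prop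
    let W'' : X.Etale := Scheme.Etale.mk (k.left ≫ W'.hom)
    let e' : W'' ⟶ W' := MorphismProperty.Over.homMk k.left rfl trivial
    let j : overW (e' ≫ g) ⟶ C := MorphismProperty.Over.homMk (𝟙 C.left)
      ((Category.id_comp _).trans (Over.w k.hom).symm) trivial
    refine ⟨W'', e' ≫ g, v, ⟨F.obj.map e'.op (F.obj.map e.op t₀), ?_⟩, ?_⟩
    · show rho F (e' ≫ g) _ = _
      rw [rho_map]
      have h1 : overWMap e' g = j ≫ k := MorphismProperty.Over.Hom.ext (Category.id_comp _).symm
      rw [h1, op_comp, Functor.map_comp_apply, hk, ← Functor.map_comp_apply, ← Functor.map_comp_apply, ← op_comp,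
        ← op_comp]
      refine congrArg (fun q => ((EtDesc.pullSh W.hom).obj F).obj.map q.op σ) (MorphismProperty.Over.Hom.ext ?_)
      show 𝟙 _ ≫ (k.left ≫ g.left) = k.left ≫ g.left
      exact Category.id_comp _
    · show g.left.base (k.left.base v) = u
      rw [hv]
      refine (congrArg (fun q : Spec (CommRingCat.of _) ⟶ W.left => q default)
        (congrArg (fun k => k.left) hg)).trans ?_
      exact geomPt_base u
  have hG : Presieve.IsSheafFor F.obj R.arrows := (isSheaf_iff_isSheaf_of_type _ _).1 F.property R hR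
  let fam : Presieve.FamilyOfElements F.obj R.arrows := fun W' g hg => hg.choose
  have hfam : fam.Compatible := fun W₁ W₂ Z g₁ g₂ f₁ f₂ h₁ h₂ hcomp => by
    refine huniq (g₁ ≫ f₁) _ _ (hmap f₁ g₁ _ h₁.choose_spec) ?_
    rw [hcomp]
    exact hmap f₂ g₂ _ h₂.choose_spec
  refine ⟨hG.amalgamate fam hfam, eq_of_agree_eq_univ _ _ _ fun u => ?_⟩
  obtain ⟨W', g, v, ⟨t, ht⟩, hv⟩ := exists_of_mem_topology hR u
  refine ⟨overW g, overWTop g, v, hv, ?_⟩
  rw [← rho_top, hG.valid_glue hfam g ⟨t, ht⟩]
  exact (Exists.choose_spec (⟨t, ht⟩ : ∃ t, P W' g t))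

theorem rho_bijective (F : EtDesc.Sh X) (W : X.Etale) : Function.Bijective (rho F (𝟙 W)) :=
  ⟨rho_injective F (𝟙 W), rho_surjective F W⟩

/-- The transfer form of the restriction to a sheaf over an étale object. -/
noncomputable def rhoTop (F : EtDesc.Sh X) (W : X.Etale) (t : F.obj.obj (op W)) :
    ((EtDesc.pullSh W.hom).obj F).obj.obj (op ((EtCoh.bc W.hom).obj (EtCoh.top X))) :=
  ((EtDesc.pullSh W.hom).obj F).obj.map
    (MorphismProperty.Over.homMk ((EtCoh.bc W.hom).obj (EtCoh.top X)).hom (Category.comp_id _) trivial :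
      (EtCoh.bc W.hom).obj (EtCoh.top X) ⟶ overW (𝟙 W)).op (rho F (𝟙 W) t)

theorem rhoTop_bijective (F : EtDesc.Sh X) (W : X.Etale) : Function.Bijective (rhoTop F W) := by
  let θ : (EtCoh.bc W.hom).obj (EtCoh.top X) ≅ overW (𝟙 W) :=
    (EtCore.bcTopIsTerminal W.hom).uniqueUpToIso (IsTerminal.ofUniqueHom
      (fun U => MorphismProperty.Over.homMk U.hom (Category.comp_id _) trivial)
      fun U m => MorphismProperty.Over.Hom.ext ((Category.comp_id _).symm.trans (Over.w m.hom)))
  have h := bijective_map_iso ((EtDesc.pullSh W.hom).obj F).obj θ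
  have e : θ.hom = MorphismProperty.Over.homMk ((EtCoh.bc W.hom).obj (EtCoh.top X)).hom (Category.comp_id _) trivial :=
    MorphismProperty.Over.Hom.ext ((Category.comp_id _).symm.trans (Over.w θ.hom.hom))
  exact (show Function.Bijective (rhoTop F W) by rw [e] at h; exact h.comp (rho_bijective F W))

theorem rhoTop_eq (F : EtDesc.Sh X) (W : X.Etale) (m : (EtCoh.bc W.hom).obj (EtCoh.top X) ⟶ (EtCoh.bc W.hom).obj W)
    (hm : m.left ≫ pullback.fst W.hom W.hom = ((EtCoh.bc W.hom).obj (EtCoh.top X)).hom) (t : F.obj.obj (op W)) :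
    rhoTop F W t = ((EtDesc.pullSh W.hom).obj F).obj.map m.op (pullSect W.hom F t) := by
  unfold rhoTop rho
  rw [← Functor.map_comp_apply, ← op_comp]
  refine congrArg (fun k => ((EtDesc.pullSh W.hom).obj F).obj.map k.op (pullSect W.hom F t)) (bc_hom_ext ?_)
  refine (Category.assoc _ _ _).trans ((congrArg (_ ≫ ·) (graphW_fst (𝟙 W))).trans ?_)
  exact (Category.comp_id _).trans hm.symm

variable {Y T : Scheme.{u}} (e : Y ⟶ T) (B : T.Etale) (D : Y.Etale) (μ : D ⟶ (EtCoh.bc e).obj B)

set_option maxHeartbeats 1600000 in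
/-- Relative pullback of sections along a geometrically connected submersion. -/
theorem bijective_pullSect_rel (F : EtDesc.Sh T) [GeometricallyConnected (μ.left ≫ pullback.fst B.hom e)]
    (hsub : EtDesc.IsUnivSubmersive (μ.left ≫ pullback.fst B.hom e)) :
    Function.Bijective (fun s => ((EtDesc.pullSh e).obj F).obj.map μ.op (pullSect e F s) :
      F.obj.obj (op B) → ((EtDesc.pullSh e).obj F).obj.obj (op D)) := by
  let m := μ.left ≫ pullback.fst B.hom e
  let b := D.hom ≫ e
  have w : m ≫ B.hom = b := (Category.assoc _ _ _).trans ((congrArg (μ.left ≫ ·) pullback.condition).trans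
    ((Category.assoc _ _ _).symm.trans (congrArg (· ≫ e) (Over.w μ.hom))))
  let mB : (EtCoh.bc B.hom).obj (EtCoh.top T) ⟶ (EtCoh.bc B.hom).obj B :=
    MorphismProperty.Over.homMk (pullback.lift ((EtCoh.bc B.hom).obj (EtCoh.top T)).hom
      ((EtCoh.bc B.hom).obj (EtCoh.top T)).hom rfl) (pullback.lift_snd _ _ _) trivial
  let mD : (EtCoh.bc D.hom).obj (EtCoh.top Y) ⟶ (EtCoh.bc D.hom).obj D :=
    MorphismProperty.Over.homMk (pullback.lift ((EtCoh.bc D.hom).obj (EtCoh.top Y)).hom
      ((EtCoh.bc D.hom).obj (EtCoh.top Y)).hom rfl) (pullback.lift_snd _ _ _) trivial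
  let mb : (EtCoh.bc b).obj (EtCoh.top T) ⟶ (EtCoh.bc b).obj B :=
    MorphismProperty.Over.homMk (pullback.lift (((EtCoh.bc b).obj (EtCoh.top T)).hom ≫ m)
      ((EtCoh.bc b).obj (EtCoh.top T)).hom ((Category.assoc _ _ _).trans (congrArg (_ ≫ ·) w)))
      (pullback.lift_snd _ _ _) trivial
  let θ := (EtCore.bcTopIsTerminal b).from ((EtCoh.bc D.hom).obj (EtCoh.top Y))
  let L := fun x : ((EtDesc.pullSh B.hom).obj F).obj.obj (op ((EtCoh.bc B.hom).obj (EtCoh.top T))) =>
    (EtDesc.pullVia D.hom e b rfl F).inv.hom.app _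
      (((EtDesc.pullSh b).obj F).obj.map θ.op (transfer m B.hom b w F (EtCoh.top T) x))
  have hL : Function.Bijective L := by
    have h2 : Function.Bijective ((EtDesc.pullVia D.hom e b rfl F).inv.hom.app
        (op ((EtCoh.bc D.hom).obj (EtCoh.top Y)))) :=
      (isIso_iff_bijective _).1 (inferInstance :
        IsIso (((sheafToPresheaf _ _).map (EtDesc.pullVia D.hom e b rfl F).inv).app
          (op ((EtCoh.bc D.hom).obj (EtCoh.top Y)))))
    let θi : (EtCoh.bc D.hom).obj (EtCoh.top Y) ≅ (EtCoh.bc b).obj (EtCoh.top T) :=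
      (EtCore.bcTopIsTerminal _).uniqueUpToIso (EtCore.bcTopIsTerminal _)
    have h3 := bijective_map_iso ((EtDesc.pullSh b).obj F).obj θi
    have h4 := bijective_transfer m B.hom b w F (bijective_pullSect_geomConn m _ hsub)
    exact h2.comp (h3.comp h4)
  have key : ∀ s, rhoTop ((EtDesc.pullSh e).obj F) D (((EtDesc.pullSh e).obj F).obj.map μ.op (pullSect e F s)) =
      L (rhoTop F B s) := by
    intro s
    rw [rhoTop_eq ((EtDesc.pullSh e).obj F) D mD (pullback.lift_fst _ _ _), rhoTop_eq F B mB (pullback.lift_fst _ _ _),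
      pullSect_map, ← Functor.map_comp_apply, ← op_comp]
    show _ = (EtDesc.pullVia D.hom e b rfl F).inv.hom.app _ (((EtDesc.pullSh b).obj F).obj.map θ.op
      (transfer m B.hom b w F (EtCoh.top T) _))
    rw [transfer_map_compat m B.hom b w F mB mb (compat_of_graph m B.hom b w mB mb (𝟙 _) m
      ((pullback.lift_fst _ _ _).trans (Category.comp_id _).symm) (pullback.lift_fst _ _ _) (Category.comp_id _)),
      transfer_pullSect]
    refine (map_pullSect_pullSect D.hom e b rfl F _ (θ ≫ mb) (bc_bc_hom_ext ?_) s).trans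
      (congrArg _ (Functor.map_comp_apply ((EtDesc.pullSh b).obj F).obj mb.op θ.op (pullSect b F s)))
    refine Eq.trans (b := ((EtCoh.bc D.hom).obj (EtCoh.top Y)).hom ≫ m) ?_ ?_
    · show (((θ.left ≫ mb.left) ≫ (tm _ e b rfl _).left) ≫ pullback.fst _ _) ≫ pullback.fst _ _ = _
      refine (Category.assoc _ _ _).trans ((Category.assoc _ _ _).trans ((congrArg (_ ≫ ·)
        ((Category.assoc _ _ _).symm.trans (tm_fst_fst _ _ _ _ _))).trans ((Category.assoc _ _ _).trans
        ((congrArg (θ.left ≫ ·) (pullback.lift_fst _ _ _)).trans ((Category.assoc _ _ _).symm.trans ?_)))))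
      exact congrArg (· ≫ m) (Over.w θ.hom)
    · show _ = ((mD.left ≫ ((EtCoh.bc D.hom).map μ).left) ≫ pullback.fst _ _) ≫ pullback.fst _ _
      refine Eq.symm ((congrArg (· ≫ pullback.fst B.hom e) ((Category.assoc _ _ _).trans
        ((congrArg (_ ≫ ·) (bc_map_fst _ μ)).trans ((Category.assoc _ _ _).symm.trans
          (congrArg (· ≫ _) (pullback.lift_fst _ _ _)))))).trans (Category.assoc _ _ _))
  have h1 : Function.Bijective (rhoTop ((EtDesc.pullSh e).obj F) D ∘
      fun s => ((EtDesc.pullSh e).obj F).obj.map μ.op (pullSect e F s)) := by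
    rw [show rhoTop ((EtDesc.pullSh e).obj F) D ∘ _ = L ∘ rhoTop F B from funext key]
    exact hL.comp (rhoTop_bijective F B)
  exact (Function.Bijective.of_comp_iff' (rhoTop_bijective _ D) _).1 h1

end Groth.Agent.H11SetBC
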