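import Groth.Agent.H11SetBC.EtaleSect
import Groth.Agent.H11PBCSet.DegreeZeroSh
import Groth.Agent.H18Et.PushClosed

/-!
# Base change of sheaves of sets along flat maps with geometrically connected local factorizations
-/

set_option autoImplicit false
set_option linter.style.haveILetI false
set_option linter.unusedSectionVars false
set_option backward.isDefEq.respectTransparency false
set_option backward.isDefEq.respectTransparency.types false

universe u

open CategoryTheory CategoryTheory.Limits AlgebraicGeometry Opposite TopologicalSpace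
open scoped Groth.Agent.H18Et

namespace Groth.Agent.H11SetBC

open H15Site.SetDescent H18Et H18PBC H18PBC.Fibre H18PBC.DegZero

/-- A flat morphism to an étale scheme over the base. -/
theorem flat_of_comp_etale {U V S : Scheme.{u}} (a : U ⟶ V) (p : V ⟶ S) [Flat (a ≫ p)] [Etale p] : Flat a := by
  let q := pullback.fst (a ≫ p) p
  let Γ : U ⟶ pullback (a ≫ p) p := pullback.lift (𝟙 U) a (Category.id_comp _)
  have hΓ : Γ ≫ q = 𝟙 U := pullback.lift_fst _ _ _
  haveI : Etale q := inferInstance
  haveI : Etale (Γ ≫ q) := hΓ ▸ inferInstance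
  haveI : Etale Γ := Etale.of_comp Γ q
  haveI : Flat (pullback.snd (a ≫ p) p) := inferInstance
  rw [show a = Γ ≫ pullback.snd (a ≫ p) p from (pullback.lift_snd _ _ _).symm]
  infer_instance

/-- Sections of étale schemes over a separably closed field with the same point agree. -/
theorem section_eq_of_base_eq {Ω : Type u} [Field Ω] [IsSepClosed Ω] {P : Scheme.{u}}
    (p : P ⟶ Spec (CommRingCat.of Ω)) [Etale p] (a b : Spec (CommRingCat.of Ω) ⟶ P)
    (ha : a ≫ p = 𝟙 _) (hb : b ≫ p = 𝟙 _) (h : a default = b default) : a = b := by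
  haveI : Etale (b ≫ p) := hb ▸ inferInstance
  haveI : Etale b := Etale.of_comp b p
  haveI : IsSplitMono b := ⟨⟨p, hb⟩⟩
  haveI : IsOpenImmersion b := IsOpenImmersion.of_flat_of_mono b
  have hrange : Set.range a ⊆ Set.range b := by
    rintro _ ⟨x, rfl⟩
    exact ⟨default, by rw [Subsingleton.elim x default]; exact h.symm⟩
  have hr := IsOpenImmersion.lift_fac b a hrange
  have hσ : IsOpenImmersion.lift b a hrange = 𝟙 _ := by
    have := congrArg (· ≫ p) hr
    simpa only [Category.assoc, hb, ha, Category.comp_id] using this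
  rw [← hr, hσ, Category.id_comp]

/-- The points of an étale scheme over a separably closed field are open. -/
theorem discreteTopology_etale {Ω : Type u} [Field Ω] [IsSepClosed Ω] {P : Scheme.{u}}
    (p : P ⟶ Spec (CommRingCat.of Ω)) [Etale p] : DiscreteTopology P := by
  refine discreteTopology_iff_isOpen_singleton.2 fun u => ?_
  obtain ⟨v, hv⟩ := exists_fiber_over (U := Scheme.Etale.mk p) u (𝟙 (Spec (CommRingCat.of Ω)))
    (Subsingleton.elim _ _)
  let j : Spec (CommRingCat.of Ω) ⟶ P := v.left
  have hj : j ≫ p = 𝟙 _ := Over.w v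
  haveI : Etale (j ≫ p) := hj ▸ inferInstance
  haveI : Etale j := Etale.of_comp j p
  have e : Set.range j = {u} := Set.eq_singleton_iff_unique_mem.2
    ⟨⟨default, hv⟩, by rintro _ ⟨x, rfl⟩; rw [Subsingleton.elim x default]; exact hv⟩
  exact e ▸ j.isOpenMap.isOpen_range

set_option maxHeartbeats 800000 in
/-- Maps to étale schemes of flat geometrically connected qc maps have open image. -/
theorem isOpen_range_of_geomConn {U V P : Scheme.{u}} (a : U ⟶ V) (p : P ⟶ V) [Etale p] (c : U ⟶ P)
    (hc : c ≫ p = a) [Flat a] [QuasiCompact a] [GeometricallyConnected a] : IsOpen (Set.range c) := by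
  let q₁ := pullback.fst a p
  let q₂ := pullback.snd a p
  let Γ : U ⟶ pullback a p := pullback.lift (𝟙 U) c ((Category.id_comp _).trans hc.symm)
  have hΓ : Γ ≫ q₁ = 𝟙 U := pullback.lift_fst _ _ _
  haveI : Etale (Γ ≫ q₁) := hΓ ▸ inferInstance
  haveI : Etale Γ := Etale.of_comp Γ q₁
  haveI : Flat q₂ := inferInstance
  haveI : QuasiCompact q₂ := inferInstance
  haveI : GeometricallyConnected q₂ := MorphismProperty.pullback_snd _ _ inferInstance
  haveI : Surjective q₂ := inferInstance
  rw [← (Flat.isQuotientMap_of_surjective q₂).isOpen_preimage]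
  have hpre : q₂ ⁻¹' Set.range c = Set.range Γ := by
    refine Set.Subset.antisymm (fun z ⟨u', hu'⟩ => ?_) ?_
    · obtain ⟨w, -, hw⟩ := Scheme.Pullback.exists_preimage_pullback (f := c) (g := q₂) u' z hu'
      let σ := geomPt w
      let ub := σ ≫ pullback.fst c q₂
      let zb := σ ≫ pullback.snd c q₂
      have huz : ub ≫ c = zb ≫ q₂ := by simp only [ub, zb, Category.assoc, pullback.condition]
      let s := zb ≫ q₂ ≫ p
      let x₁ := pullback.lift (f := a) (g := s) ub (𝟙 _) ((congrArg (ub ≫ ·) hc.symm).trans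
        ((Category.assoc _ _ _).symm.trans ((congrArg (· ≫ p) huz).trans
          ((Category.assoc _ _ _).trans (Category.id_comp _).symm))))
      let x₂ := pullback.lift (f := a) (g := s) (zb ≫ q₁) (𝟙 _) (by
        rw [Category.assoc, pullback.condition, Category.id_comp])
      let C : pullback a s ⟶ pullback p s :=
        pullback.lift (pullback.fst a s ≫ c) (pullback.snd a s)
          (by rw [Category.assoc, hc, pullback.condition])
      haveI : ConnectedSpace (pullback a s : Scheme.{u}) :=
        GeometricallyConnected.geometrically_connectedSpace (f := a) s _ _ (.of_hasPullback a s)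
      haveI := discreteTopology_etale (pullback.snd p s)
      have hconst : C (x₁ default) = C (x₂ default) :=
        (isPreconnected_range C.continuous).subsingleton ⟨_, rfl⟩ ⟨_, rfl⟩
      have hx : x₁ ≫ C = x₂ ≫ C := section_eq_of_base_eq (pullback.snd p s) _ _
        (by simp [x₁, C]) (by simp [x₂, C]) hconst
      have h1 : zb ≫ q₂ = (zb ≫ q₁) ≫ c := by
        have := congrArg (· ≫ pullback.fst p s) hx
        simpa [x₁, x₂, C, huz] using this
      have h2 : zb = (zb ≫ q₁) ≫ Γ := pullback.hom_ext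
        (by rw [Category.assoc (zb ≫ q₁), pullback.lift_fst, Category.comp_id])
        (by rw [Category.assoc (zb ≫ q₁), pullback.lift_snd]; exact h1)
      have hz : zb default = z := (congrArg (pullback.snd c q₂) (geomPt_base w)).trans hw
      exact ⟨(zb ≫ q₁) default, (congrArg (fun k : _ ⟶ pullback a p => k default) h2).symm.trans hz⟩
    · rintro _ ⟨u, rfl⟩
      exact ⟨u, (congrArg (fun k : U ⟶ P => k u) (pullback.lift_snd (𝟙 U) c _)).symm⟩
  rw [hpre]
  exact Γ.isOpenMap.isOpen_range

theorem agree_of_rel {Y T : Scheme.{u}} (e : Y ⟶ T) (B : T.Etale) (D : Y.Etale) (μ : D ⟶ (EtCoh.bc e).obj B)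
    (F : EtDesc.Sh T) (hs : Function.Surjective (μ.left ≫ pullback.fst B.hom e)) (s t : F.obj.obj (op B))
    (h : ((EtDesc.pullSh e).obj F).obj.map μ.op (pullSect e F s) =
      ((EtDesc.pullSh e).obj F).obj.map μ.op (pullSect e F t)) : s = t := by
  refine eq_of_agree_eq_univ F s t fun u => ?_
  obtain ⟨y, rfl⟩ := hs u
  have h1 : y ∈ agree _ (((EtDesc.pullSh e).obj F).obj.map μ.op (pullSect e F s))
      (((EtDesc.pullSh e).obj F).obj.map μ.op (pullSect e F t)) := by
    rw [h]; exact ⟨_, 𝟙 _, y, rfl, rfl⟩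
  rw [mem_agree_map, mem_agree_pullSect] at h1
  exact h1

variable {X S Y T : Scheme.{u}} (f : X ⟶ S) (g : T ⟶ S) (h : Y ⟶ X) (e : Y ⟶ T) (c : IsPullback e h g f)

/-- The relative map of an étale object with a map to a base changed object. -/
noncomputable def relMap {U : X.Etale} {V : S.Etale} (α : U ⟶ (EtCoh.bc f).obj V) :
    (EtCoh.bc h).obj U ⟶ (EtCoh.bc e).obj ((EtCoh.bc g).obj V) :=
  (EtCoh.bc h).map α ≫ cMap g f h e c.w V

theorem isPullback_relMap {U : X.Etale} {V : S.Etale} (α : U ⟶ (EtCoh.bc f).obj V) :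
    IsPullback ((relMap f g h e c α).left ≫ pullback.fst ((EtCoh.bc g).obj V).hom e) (pullback.fst U.hom h)
      (pullback.fst V.hom g) (α.left ≫ pullback.fst V.hom f) := by
  have hU : (α.left ≫ pullback.fst V.hom f) ≫ V.hom = U.hom ≫ f :=
    (Category.assoc _ _ _).trans ((congrArg (α.left ≫ ·) pullback.condition).trans
      ((Category.assoc _ _ _).symm.trans (congrArg (· ≫ f) (Over.w α.hom))))
  have h1 : IsPullback (pullback.snd U.hom h ≫ e) (pullback.fst U.hom h) g (U.hom ≫ f) :=
    (IsPullback.of_hasPullback U.hom h).flip.paste_horiz c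
  have hs : ((relMap f g h e c α).left ≫ pullback.fst ((EtCoh.bc g).obj V).hom e) ≫ pullback.snd V.hom g =
      pullback.snd U.hom h ≫ e := by
    refine (Category.assoc _ _ _).trans ((congrArg (_ ≫ ·) pullback.condition).trans ?_)
    exact (Category.assoc _ _ _).symm.trans (congrArg (· ≫ e) (Over.w (relMap f g h e c α).hom))
  refine IsPullback.of_right (h₁₂ := pullback.snd V.hom g) (v₁₃ := g) (h₂₂ := V.hom) ?_ ?_
    (IsPullback.of_hasPullback _ _).flip
  · rw [hs, hU]; exact h1
  · refine (Category.assoc _ _ _).trans ?_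
    unfold relMap
    refine (Category.assoc _ _ _).trans ((congrArg (((EtCoh.bc h).map α).left ≫ ·) (cMap_fst_fst g f h e c.w V)).trans ?_)
    exact (Category.assoc _ _ _).symm.trans ((congrArg (· ≫ _) (bc_map_fst h α)).trans (Category.assoc _ _ _))

variable (F : EtDesc.Sh T)

theorem bc0_restrict {U : X.Etale} {V : S.Etale} (α : U ⟶ (EtCoh.bc f).obj V)
    (s : F.obj.obj (op ((EtCoh.bc g).obj V))) :
    ((EtDesc.pushSh h).obj ((EtDesc.pullSh e).obj F)).obj.map α.op
        ((EtBC.baseChange0Sh g f h e c.w F).hom.app (op ((EtCoh.bc f).obj V))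
          (pullSect f ((EtDesc.pushSh g).obj F) (U := V) s)) =
      ((EtDesc.pullSh e).obj F).obj.map (relMap f g h e c α).op (pullSect e F s) := by
  refine (congrArg (((EtDesc.pushSh h).obj ((EtDesc.pullSh e).obj F)).obj.map α.op)
    (H11PBCSet.baseChange0Sh_unit g f h e c.w F V s)).trans ?_
  show ((EtDesc.pullSh e).obj F).obj.map ((EtCoh.bc h).map α).op _ = _
  rw [relMap, op_comp, Functor.map_comp_apply]

/-- The unit of an inverse image followed by base change is natural. -/
theorem bc0_natural {V W : S.Etale} (j : V ⟶ W) (s : F.obj.obj (op ((EtCoh.bc g).obj W))) :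
    (EtBC.baseChange0Sh g f h e c.w F).hom.app (op ((EtCoh.bc f).obj V))
        (pullSect f ((EtDesc.pushSh g).obj F) (U := V) (((EtDesc.pushSh g).obj F).obj.map j.op s)) =
      ((EtDesc.pushSh h).obj ((EtDesc.pullSh e).obj F)).obj.map ((EtCoh.bc f).map j).op
        ((EtBC.baseChange0Sh g f h e c.w F).hom.app (op ((EtCoh.bc f).obj W))
          (pullSect f ((EtDesc.pushSh g).obj F) (U := W) s)) := by
  rw [pullSect_map]
  exact NatTrans.naturality_apply (EtBC.baseChange0Sh g f h e c.w F).hom ((EtCoh.bc f).map j).op _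

set_option maxHeartbeats 2000000 in
/-- Base change along flat maps with geometrically connected local factorizations. -/
theorem isIso_baseChange0Sh_of_factorizations [Flat f]
    (hcov : ∀ U : X.Etale, ∃ (ι : Type u) (Uc : ι → X.Etale) (mU : ∀ i, Uc i ⟶ U),
      (∀ y : U.left, ∃ (i : ι) (z : (Uc i).left), (mU i).left.base z = y) ∧
      ∀ i, ∃ (V : S.Etale) (a : (Uc i).left ⟶ V.left),
        a ≫ V.hom = (Uc i).hom ≫ f ∧ QuasiCompact a ∧ GeometricallyConnected a) :
    IsIso (EtBC.baseChange0Sh g f h e c.w F) := by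
  refine isIso_of_stalkSh _ fun x => ?_
  refine ⟨_, _, SeparableClosure.isSepClosed _, geomPt x, geomPt_base x, ?_⟩
  haveI : IsSepClosed (SeparableClosure (X.residueField x)) := SeparableClosure.isSepClosed _
  let η := geomPt x
  let φ := EtBC.baseChange0Sh g f h e c.w F
  let G := (EtDesc.pushSh g).obj F
  let H := (EtDesc.pushSh h).obj ((EtDesc.pullSh e).obj F)
  have hI : Function.Bijective ((stalkPullShIso f η).inv.app G) :=
    (isIso_iff_bijective _).1 inferInstance
  have hφ : ∀ (V : S.Etale) (z : (Scheme.pointSmallEtale (η ≫ f)).fiber.obj V) (s : G.obj.obj (op V)),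
      ((Scheme.pointSmallEtale η).sheafFiber (A := Type (u + 1))).map φ
          ((stalkPullShIso f η).inv.app G (germ (η ≫ f) G V z s)) =
        germ η H ((EtCoh.bc f).obj V) ((fiberCompIso f η).inv.app V z)
          (φ.hom.app (op ((EtCoh.bc f).obj V)) (pullSect f G (U := V) s)) := fun V z s =>
    (congrArg (fun y => ((Scheme.pointSmallEtale η).sheafFiber (A := Type (u + 1))).map φ y)
      (stalkPullShIso_inv_germ f η G V z s)).trans (germ_naturality η φ ((EtCoh.bc f).obj V) _ _)
  refine (Function.Bijective.of_comp_iff _ hI).1 ⟨fun p q hpq => ?_, fun τ => ?_⟩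
  · obtain ⟨W₁, z₁, s₁, rfl⟩ := germ_surjective (η ≫ f) G p
    obtain ⟨W₂, z₂, s₂, rfl⟩ := germ_surjective (η ≫ f) G q
    obtain ⟨⟨W, z⟩, ⟨k₁, hk₁⟩, ⟨k₂, hk₂⟩, -⟩ := IsCofilteredOrEmpty.cone_objs
      (C := (Scheme.pointSmallEtale (η ≫ f)).fiber.Elements) ⟨W₁, z₁⟩ ⟨W₂, z₂⟩
    dsimp at k₁ k₂ hk₁ hk₂
    rw [← hk₁, ← hk₂, ← germ_map G k₁ z s₁, ← germ_map G k₂ z s₂] at hpq ⊢
    generalize G.obj.map k₁.op s₁ = t₁ at hpq ⊢
    generalize G.obj.map k₂.op s₂ = t₂ at hpq ⊢
    have hpq' := (hφ W z t₁).symm.trans (hpq.trans (hφ W z t₂))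
    obtain ⟨C, α, y, hy, hC⟩ := (germ_eq_iff η H _ _ _ _).1 hpq'
    obtain ⟨ι, Uc, mU, hsurj, hfac⟩ := hcov C
    obtain ⟨i, v, hv⟩ := hsurj (ptOf y)
    obtain ⟨y', hy'⟩ := exists_fiber_lift (mU i) y v hv
    obtain ⟨V, a, hav, hqc, hgc⟩ := hfac i
    haveI := hqc
    haveI := hgc
    haveI := V.prop
    haveI := (Uc i).prop
    haveI : Flat (a ≫ V.hom) := hav ▸ inferInstance
    haveI : Flat a := flat_of_comp_etale a V.hom
    let α' : Uc i ⟶ (EtCoh.bc f).obj W := mU i ≫ α
    let cW : (Uc i).left ⟶ W.left := α'.left ≫ pullback.fst W.hom f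
    have hcW : cW ≫ W.hom = (Uc i).hom ≫ f := (Category.assoc _ _ _).trans
      ((congrArg (α'.left ≫ ·) pullback.condition).trans
        ((Category.assoc _ _ _).symm.trans (congrArg (· ≫ f) (Over.w α'.hom))))
    haveI := W.prop
    let P : S.Etale := Scheme.Etale.mk (pullback.snd W.hom V.hom ≫ V.hom)
    let cP : (Uc i).left ⟶ pullback W.hom V.hom := pullback.lift cW a (hcW.trans hav.symm)
    let O : P.left.Opens := ⟨Set.range cP,
      isOpen_range_of_geomConn a (pullback.snd W.hom V.hom) cP (pullback.lift_snd _ _ _)⟩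
    let kW : openObj O ⟶ W := MorphismProperty.Over.homMk (O.ι ≫ pullback.fst W.hom V.hom)
      ((Category.assoc _ _ _).trans (congrArg (O.ι ≫ ·) pullback.condition)) trivial
    let cO : (Uc i).left ⟶ (openObj O).left := IsOpenImmersion.lift O.ι cP (fun z hz => ⟨⟨z, hz⟩, rfl⟩)
    have hcO : cO ≫ O.ι = cP := IsOpenImmersion.lift_fac _ _ _
    haveI : Surjective cO := ⟨fun o => by
      obtain ⟨u, hu⟩ := o.2
      exact ⟨u, O.ι.isOpenEmbedding.injective ((congrArg (fun k : _ ⟶ P.left => k u) hcO).trans hu)⟩⟩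
    have hcOh : cO ≫ (openObj O).hom = (Uc i).hom ≫ f := by
      show cO ≫ O.ι ≫ pullback.snd W.hom V.hom ≫ V.hom = _
      rw [← Category.assoc, hcO, ← Category.assoc, pullback.lift_snd, hav]
    let β : Uc i ⟶ (EtCoh.bc f).obj (openObj O) :=
      MorphismProperty.Over.homMk (pullback.lift cO (Uc i).hom hcOh) (pullback.lift_snd _ _ _) trivial
    have hβfst : β.left ≫ pullback.fst (openObj O).hom f = cO := pullback.lift_fst _ _ _
    have hβ : β ≫ (EtCoh.bc f).map kW = α' := by
      refine bc_hom_ext ?_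
      refine (Category.assoc _ _ _).trans ((congrArg (β.left ≫ ·) (bc_map_fst f kW)).trans ?_)
      refine (Category.assoc _ _ _).symm.trans ((congrArg (· ≫ kW.left) hβfst).trans ?_)
      show cO ≫ O.ι ≫ pullback.fst W.hom V.hom = cW
      rw [← Category.assoc, hcO, pullback.lift_fst]
    have hm : Function.Surjective ((relMap f g h e c β).left ≫ pullback.fst ((EtCoh.bc g).obj (openObj O)).hom e) := by
      haveI : Surjective (β.left ≫ pullback.fst (openObj O).hom f) := hβfst ▸ inferInstance
      haveI := MorphismProperty.of_isPullback (P := @Surjective) (isPullback_relMap f g h e c β).flip inferInstance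
      exact Scheme.Hom.surjective _
    have hO : G.obj.map kW.op t₁ = G.obj.map kW.op t₂ := by
      refine agree_of_rel e _ _ (relMap f g h e c β) F hm _ _ ?_
      rw [← bc0_restrict f g h e c F β, ← bc0_restrict f g h e c F β, bc0_natural f g h e c, bc0_natural f g h e c,
        ← Functor.map_comp_apply, ← Functor.map_comp_apply, ← op_comp, hβ]
      show H.obj.map α'.op (φ.hom.app _ (pullSect f G t₁)) = H.obj.map α'.op (φ.hom.app _ (pullSect f G t₂))
      rw [op_comp, Functor.map_comp_apply, Functor.map_comp_apply, hC]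
    let zO : (Scheme.pointSmallEtale (η ≫ f)).fiber.obj (openObj O) := Over.homMk (y'.left ≫ cO)
      ((Category.assoc _ _ _).trans ((congrArg (y'.left ≫ ·) hcOh).trans
        ((Category.assoc _ _ _).symm.trans (congrArg (· ≫ f) (Over.w y')))))
    have hzO : (Scheme.pointSmallEtale (η ≫ f)).fiber.map kW zO = z := by
      refine Over.OverMorphism.ext ?_
      refine Eq.trans ?_ (fiberCompIso_inv_left f η W z)
      rw [← hy, ← hy']
      show (y'.left ≫ cO) ≫ O.ι ≫ pullback.fst W.hom V.hom =
        ((y'.left ≫ (mU i).left) ≫ α.left) ≫ pullback.fst W.hom f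
      rw [Category.assoc, ← Category.assoc cO, hcO, pullback.lift_fst, Category.assoc, Category.assoc]
      exact congrArg (y'.left ≫ ·) (Category.assoc _ _ _)
    rw [← hzO, ← germ_map G kW zO t₁, ← germ_map G kW zO t₂, hO]
  · obtain ⟨U, y, σ, rfl⟩ := germ_surjective η H τ
    obtain ⟨ι, Uc, mU, hsurj, hfac⟩ := hcov U
    obtain ⟨i, v, hv⟩ := hsurj (ptOf y)
    obtain ⟨y', hy'⟩ := exists_fiber_lift (mU i) y v hv
    obtain ⟨V, a, hav, hqc, hgc⟩ := hfac i
    haveI := hqc
    haveI := hgc
    haveI := V.prop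
    haveI := (Uc i).prop
    haveI : Flat (a ≫ V.hom) := hav ▸ inferInstance
    haveI : Flat a := flat_of_comp_etale a V.hom
    let β : Uc i ⟶ (EtCoh.bc f).obj V :=
      MorphismProperty.Over.homMk (pullback.lift a (Uc i).hom hav) (pullback.lift_snd _ _ _) trivial
    have hβfst : β.left ≫ pullback.fst V.hom f = a := pullback.lift_fst _ _ _
    haveI : Flat (β.left ≫ pullback.fst V.hom f) := hβfst ▸ inferInstance
    haveI : QuasiCompact (β.left ≫ pullback.fst V.hom f) := hβfst ▸ inferInstance
    haveI : GeometricallyConnected (β.left ≫ pullback.fst V.hom f) := hβfst ▸ inferInstance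
    let m := (relMap f g h e c β).left ≫ pullback.fst ((EtCoh.bc g).obj V).hom e
    have sq := (isPullback_relMap f g h e c β).flip
    haveI : Flat m := MorphismProperty.of_isPullback (P := @Flat) sq inferInstance
    haveI : QuasiCompact m := MorphismProperty.of_isPullback (P := @QuasiCompact) sq inferInstance
    haveI : GeometricallyConnected m := MorphismProperty.of_isPullback (P := @GeometricallyConnected) sq inferInstance
    obtain ⟨s, hs⟩ := (bijective_pullSect_rel e ((EtCoh.bc g).obj V) ((EtCoh.bc h).obj (Uc i))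
      (relMap f g h e c β) F (isUnivSubmersive_of_flat m)).2 (H.obj.map (mU i).op σ)
    let z : (Scheme.pointSmallEtale (η ≫ f)).fiber.obj V := Over.homMk (y'.left ≫ a)
      ((Category.assoc _ _ _).trans ((congrArg (y'.left ≫ ·) hav).trans
        ((Category.assoc _ _ _).symm.trans (congrArg (· ≫ f) (Over.w y')))))
    refine ⟨germ (η ≫ f) G V z s, (hφ V z s).trans ?_⟩
    have hz : (Scheme.pointSmallEtale η).fiber.map β y' = (fiberCompIso f η).inv.app V z := by
      refine Over.OverMorphism.ext (pullback.hom_ext ?_ ?_)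
      · refine Eq.trans ?_ (fiberCompIso_inv_left f η V z).symm
        exact (Category.assoc _ _ _).trans (congrArg (y'.left ≫ ·) hβfst)
      · refine Eq.trans ?_ (Over.w ((fiberCompIso f η).inv.app V z)).symm
        exact (Category.assoc _ _ _).trans ((congrArg (y'.left ≫ ·) (pullback.lift_snd _ _ _)).trans (Over.w y'))
    rw [← hz, ← germ_map H β y', bc0_restrict f g h e c F β]
    refine (congrArg (germ η H (Uc i) y') hs).trans ?_
    rw [germ_map, hy']

end Groth.Agent.H11SetBC
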