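import Groth.Agent.H11SetBC.Discrete
import Groth.Agent.H7Flat.GenericGeomReduced
import Groth.Agent.H7Flat.UnivHomeo
import Groth.Agent.S1358
import Mathlib.AlgebraicGeometry.Noetherian

/-!
# Generic behaviour of strict localizations of morphisms of finite type
-/

set_option autoImplicit false
set_option linter.style.haveILetI false
set_option linter.unusedSectionVars false
set_option backward.isDefEq.respectTransparency false
set_option backward.isDefEq.respectTransparency.types false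

universe u

open CategoryTheory CategoryTheory.Limits AlgebraicGeometry Opposite IsLocalRing TopologicalSpace

namespace Groth.Agent.H11SetBC

/-- A flat geometrically reduced model over a universal homeomorphism near the point. -/
theorem subConn_of_model {X S Z' Z X'' Y'' : Scheme.{u}} {a : X ⟶ S} {p : Z' ⟶ Z} {q : Z' ⟶ X} {c : Z ⟶ S}
    (sq : IsPullback q p a c) {h : X'' ⟶ Y''} (v : Y'' ⟶ S) (u : X'' ⟶ X) (hug : u ≫ a = h ≫ v)
    [IsLocallyNoetherian Y''] [Flat h] [GeometricallyReduced h] (z' : Z')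
    (hu : UHomeoNear u (q z')) (hv : UHomeoNear v (c (p z')))
    (RS : Type u) [CommRing RS] [IsLocalRing RS] [Algebra (Z.presheaf.stalk (p.base z')) RS]
    [IsLocalHom (algebraMap (Z.presheaf.stalk (p.base z')) RS)]
    [Hensel.IsStrictHenselization (Z.presheaf.stalk (p.base z')) RS]
    (RX : Type u) [CommRing RX] [IsLocalRing RX] [Algebra (Z'.presheaf.stalk z') RX]
    [IsLocalHom (algebraMap (Z'.presheaf.stalk z') RX)] [Hensel.IsStrictHenselization (Z'.presheaf.stalk z') RX]
    (ψ : RS →+* RX) [IsLocalHom ψ]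
    (hψ : ψ.comp (algebraMap (Z.presheaf.stalk (p.base z')) RS) = (algebraMap (Z'.presheaf.stalk z') RX).comp (p.stalkMap z').hom) :
    EtDesc.IsUnivSubmersive (Spec.map (CommRingCat.ofHom ψ)) ∧
      ∀ (Ω : Type u) [Field Ω] [IsAlgClosed Ω] (η : Spec (CommRingCat.of Ω) ⟶ Spec (CommRingCat.of RS)),
      ConnectedSpace ↥(pullback (Spec.map (CommRingCat.ofHom ψ)) η) := by
  let v₁ := pullback.snd v c
  let k := pullback.fst v c
  let a' := pullback.snd h k
  have hv₁ : UHomeoNear v₁ (p z') := UHomeoNear.baseChange (IsPullback.of_hasPullback v c) (p z') hv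
  let u₁ : pullback h k ⟶ Z' := sq.lift (pullback.fst h k ≫ u) (a' ≫ v₁) (by
    rw [Category.assoc, hug, ← Category.assoc, pullback.condition, Category.assoc, Category.assoc, pullback.condition])
  have hw : u₁ ≫ p = a' ≫ v₁ := sq.lift_snd _ _ _
  have hbig : IsPullback (pullback.fst h k) (u₁ ≫ p) (u ≫ a) c := by
    rw [hw, hug]
    exact (IsPullback.of_hasPullback h k).paste_vert (IsPullback.of_hasPullback v c)
  have hu₁ : UHomeoNear u₁ z' :=
    UHomeoNear.baseChange (IsPullback.of_bot hbig (sq.lift_fst _ _ _).symm sq) z' hu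
  exact subConn_of_square hw (subConn_of_shConn (shConnFibres_of_noetherian a' (IsPullback.of_hasPullback h k)))
    z' hu₁ hv₁ RS RX ψ hψ

/-- Base changes over the open set have submersive strict localizations with connected fibres. -/
def SubConnOver {X S : Scheme.{u}} (a : X ⟶ S) (V : S.Opens) : Prop :=
  ∀ {Z' Z : Scheme.{u}} (p : Z' ⟶ Z) (q : Z' ⟶ X) (c : Z ⟶ S), IsPullback q p a c →
    ∀ (z' : Z'), c (p z') ∈ V →
    ∀ (RS : Type u) [CommRing RS] [IsLocalRing RS] [Algebra (Z.presheaf.stalk (p.base z')) RS]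
    [IsLocalHom (algebraMap (Z.presheaf.stalk (p.base z')) RS)]
    [Hensel.IsStrictHenselization (Z.presheaf.stalk (p.base z')) RS]
    (RX : Type u) [CommRing RX] [IsLocalRing RX] [Algebra (Z'.presheaf.stalk z') RX]
    [IsLocalHom (algebraMap (Z'.presheaf.stalk z') RX)] [Hensel.IsStrictHenselization (Z'.presheaf.stalk z') RX]
    (ψ : RS →+* RX) [IsLocalHom ψ],
    ψ.comp (algebraMap (Z.presheaf.stalk (p.base z')) RS) = (algebraMap (Z'.presheaf.stalk z') RX).comp (p.stalkMap z').hom →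
    EtDesc.IsUnivSubmersive (Spec.map (CommRingCat.ofHom ψ)) ∧
      ∀ (Ω : Type u) [Field Ω] [IsAlgClosed Ω] (η : Spec (CommRingCat.of Ω) ⟶ Spec (CommRingCat.of RS)),
      ConnectedSpace ↥(pullback (Spec.map (CommRingCat.ofHom ψ)) η)

/-- Every nonempty open set contains a nonempty open set over which strict localizations behave well. -/
theorem exists_subConnOver {X S : Scheme.{u}} (a : X ⟶ S) [IsNoetherian S] [LocallyOfFiniteType a] [QuasiCompact a]
    (W₀ : S.Opens) [IrreducibleSpace W₀] :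
    ∃ V : S.Opens, (V : Set S).Nonempty ∧ V ≤ W₀ ∧ SubConnOver a V := by
  haveI : LocallyOfFiniteType (a ∣_ W₀) := MorphismProperty.of_isPullback (isPullback_morphismRestrict a W₀).flip ‹_›
  haveI : QuasiCompact (a ∣_ W₀) := MorphismProperty.of_isPullback (isPullback_morphismRestrict a W₀).flip ‹_›
  obtain ⟨V, Y', g, X', r, hY', hVne, hY'aff, hgfin, hgu, hrc, hrs, hX'red, hqflat, hqlfp, hqqc, hqqs, hgr⟩ :=
    Groth.Agent.S1358.result (a ∣_ W₀)
  haveI := hY'; haveI := hgfin; haveI := hrc; haveI := hrs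
  haveI := hqflat; haveI := hqlfp; haveI := hqqc
  let qm := r ≫ pullback.snd (a ∣_ W₀) (g ≫ V.ι)
  haveI : Flat qm := hqflat
  haveI : LocallyOfFinitePresentation qm := hqlfp
  haveI : QuasiCompact qm := hqqc
  obtain ⟨O, hO, hOgr⟩ := H7Flat.GenericFibre.exists_opens_geometricallyReduced_of_flat qm hgr
  obtain ⟨hgi, hguinj, hgs⟩ := (H7Flat.isUnivHomeo_iff g).1 hgu
  have hgh : IsHomeomorph g.base := hgu _ _ _ IsPullback.of_id_snd
  let V₂ : V.toScheme.Opens := ⟨g '' O, hgh.isOpenMap _ O.2⟩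
  let O' : Y'.Opens := g ⁻¹ᵁ V₂
  have hO' : ∀ y ∈ O', GeometricallyReduced (qm.fiberToSpecResidueField y) := fun y hy => by
    obtain ⟨y₁, hy₁, he⟩ := hy
    exact hOgr y (hgh.injective he ▸ hy₁)
  let u0 := g ∣_ V₂
  haveI : IsIntegralHom u0 := MorphismProperty.of_isPullback (isPullback_morphismRestrict g V₂).flip hgi
  haveI : UniversallyInjective u0 := MorphismProperty.of_isPullback (isPullback_morphismRestrict g V₂).flip hguinj
  haveI : Surjective u0 := MorphismProperty.of_isPullback (isPullback_morphismRestrict g V₂).flip hgs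
  let j : V₂.toScheme ⟶ S := V₂.ι ≫ V.ι ≫ W₀.ι
  let v1 : Y' ⟶ S := g ≫ V.ι ≫ W₀.ι
  let v : O'.toScheme ⟶ S := O'.ι ≫ v1
  have hv : v = u0 ≫ j := by
    show O'.ι ≫ g ≫ V.ι ≫ W₀.ι = (g ∣_ V₂) ≫ V₂.ι ≫ V.ι ≫ W₀.ι
    rw [← morphismRestrict_ι_assoc]
  -- the model
  let P0 := pullback (a ∣_ W₀) (g ≫ V.ι)
  have hP0 : IsPullback (pullback.fst (a ∣_ W₀) (g ≫ V.ι) ≫ (a ⁻¹ᵁ W₀).ι) (pullback.snd (a ∣_ W₀) (g ≫ V.ι)) a v1 := by
    have := (IsPullback.of_hasPullback (a ∣_ W₀) (g ≫ V.ι)).paste_horiz (isPullback_morphismRestrict a W₀).flip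
    rwa [Category.assoc] at this
  let s0 := pullback.snd (a ∣_ W₀) (g ≫ V.ι)
  have hQ : IsPullback (pullback.fst s0 O'.ι ≫ pullback.fst (a ∣_ W₀) (g ≫ V.ι) ≫ (a ⁻¹ᵁ W₀).ι)
      (pullback.snd s0 O'.ι) a v := (IsPullback.of_hasPullback s0 O'.ι).paste_horiz hP0
  let r' := pullback.snd r (pullback.fst s0 O'.ι)
  haveI : IsClosedImmersion r' := MorphismProperty.pullback_snd _ _ inferInstance
  haveI : Surjective r' := inferInstance
  let h := r' ≫ pullback.snd s0 O'.ι
  have hh : IsPullback (pullback.fst r (pullback.fst s0 O'.ι)) h qm O'.ι :=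
    (IsPullback.of_hasPullback r (pullback.fst s0 O'.ι)).paste_vert (IsPullback.of_hasPullback s0 O'.ι)
  haveI : Flat h := MorphismProperty.of_isPullback (P := @Flat) hh ‹_›
  haveI : GeometricallyReduced h := by
    rw [GeometricallyReduced.eq_geometrically, geometrically_iff_forall_fiberToSpecResidueField]
    intro y
    rw [← GeometricallyReduced.eq_geometrically]
    exact (H7Flat.GeomReduced.geometricallyReduced_fiber_baseChange hh y).2 (hO' _ y.2)
  haveI : IsNoetherian W₀.toScheme :=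
    { toIsLocallyNoetherian := isLocallyNoetherian_of_isOpenImmersion W₀.ι
      toCompactSpace := isCompact_iff_compactSpace.1 (NoetherianSpace.isCompact (W₀ : Set S)) }
  haveI : IsLocallyNoetherian V.toScheme := isLocallyNoetherian_of_isOpenImmersion V.ι
  haveI : IsLocallyNoetherian Y' := LocallyOfFiniteType.isLocallyNoetherian g
  haveI : IsLocallyNoetherian O'.toScheme := isLocallyNoetherian_of_isOpenImmersion O'.ι
  let V' : S.Opens := ⟨Set.range j, j.isOpenEmbedding.isOpen_range⟩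
  refine ⟨V', ?_, ?_, fun {Z' Z} p q c sq z' hz RS _ _ _ _ _ RX _ _ _ _ _ ψ _ hψ => ?_⟩
  · exact ⟨_, ⟨g (genericPoint Y'), _, hO, rfl⟩, rfl⟩
  · rintro _ ⟨t, rfl⟩
    exact (W₀.ι_apply (V.ι (V₂.ι t))) ▸ (V.ι (V₂.ι t)).2
  · have hvn : UHomeoNear v (c (p z')) := hv ▸ uHomeoNear_comp_open u0 j _ hz
    refine subConn_of_model sq (h := h) v (r' ≫ pullback.fst s0 O'.ι ≫ pullback.fst (a ∣_ W₀) (g ≫ V.ι) ≫ (a ⁻¹ᵁ W₀).ι)
      (by rw [Category.assoc, hQ.w]; exact (Category.assoc _ _ _).symm) z' ?_ hvn RS RX ψ hψ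
    refine uHomeoNear_comp_global r' _ _ (UHomeoNear.baseChange hQ.flip (q z') ?_)
    rwa [show a (q z') = c (p z') from congrArg (fun k : Z' ⟶ S => k z') sq.w]

/-- A nonempty open subset of a Noetherian scheme contains a nonempty irreducible open subset. -/
theorem exists_irreducible_open {S : Scheme.{u}} [IsNoetherian S] (W : S.Opens) (hW : (W : Set S).Nonempty) :
    ∃ W₀ : S.Opens, W₀ ≤ W ∧ IrreducibleSpace W₀ := by
  obtain ⟨x, hx⟩ := hW
  let C := irreducibleComponent x
  let F : Set S := ⋃₀ (irreducibleComponents S \ {C})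
  have hF : IsClosed F := by
    rw [show F = ⋃ D ∈ irreducibleComponents S \ {C}, D from Set.sUnion_eq_biUnion]
    exact (NoetherianSpace.finite_irreducibleComponents.subset Set.diff_subset).isClosed_biUnion
      fun D hD => isClosed_of_mem_irreducibleComponents D hD.1
  let η := isIrreducible_irreducibleComponent (x := x) |>.genericPoint
  have hη : IsGenericPoint η C :=
    isIrreducible_irreducibleComponent.isGenericPoint_genericPoint isClosed_irreducibleComponent
  have hηW : η ∈ W := (hη.specializes mem_irreducibleComponent).mem_open W.2 hx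
  have hηF : η ∉ F := by
    rintro ⟨D, ⟨hD, hDC⟩, hηD⟩
    have hCD : C ⊆ D := (hη.mem_closed_set_iff (isClosed_of_mem_irreducibleComponents D hD)).1 hηD
    exact hDC (((irreducibleComponent_mem_irreducibleComponents x).2 hD.1 hCD).antisymm hCD)
  let W₀ : S.Opens := ⟨(W : Set S) ∩ Fᶜ, W.2.inter hF.isOpen_compl⟩
  refine ⟨W₀, fun y hy => hy.1, ?_⟩
  have hsub : (W₀ : Set S) ⊆ C := fun y hy => by
    by_contra hyC
    refine hy.2 ⟨irreducibleComponent y, ⟨irreducibleComponent_mem_irreducibleComponents y, ?_⟩, mem_irreducibleComponent⟩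
    intro h
    exact hyC (Set.mem_singleton_iff.1 h ▸ mem_irreducibleComponent)
  have hirr : IsIrreducible (W₀ : Set S) := ⟨⟨η, hηW, hηF⟩,
    isIrreducible_irreducibleComponent.2.open_subset W₀.2 hsub⟩
  exact Subtype.irreducibleSpace hirr

end Groth.Agent.H11SetBC
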