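import Groth.Agent.H18PBC.GeomConn
import Mathlib.AlgebraicGeometry.Morphisms.Flat

/-!
# Sections over étale objects along geometrically connected submersions
-/

set_option autoImplicit false
set_option linter.style.haveILetI false
set_option linter.unusedSectionVars false
set_option backward.isDefEq.respectTransparency false
set_option backward.isDefEq.respectTransparency.types false

universe u

open CategoryTheory CategoryTheory.Limits AlgebraicGeometry Opposite TopologicalSpace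
open scoped Groth.Agent.H18Et

namespace Groth.Agent.H11SetBC

open H15Site.SetDescent H18Et H18PBC

variable {X X' : Scheme.{u}} {Ω : Type u} [Field Ω] [IsSepClosed Ω] (f : X' ⟶ X)
  (ξ : Spec (CommRingCat.of Ω) ⟶ X) (G : EtDesc.Sh X) (V₀ : X.Etale)
  (s' : ((EtDesc.pullSh f).obj G).obj.obj (op ((EtCoh.bc f).obj V₀)))

theorem eq_of_field_extension {K L : Type u} [Field K] [Field L]
    (σ : Spec (CommRingCat.of L) ⟶ Spec (CommRingCat.of K)) {Z : Scheme.{u}}
    {a b : Spec (CommRingCat.of K) ⟶ Z} (h : σ ≫ a = σ ≫ b) : a = b := by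
  let φ := Spec.preimage σ
  have hσ : Spec.map φ = σ := Spec.map_preimage σ
  have : Flat σ := hσ ▸ Flat.SpecMap_iff.2 (by
    letI : Algebra K L := φ.hom.toAlgebra
    exact RingHom.flat_algebraMap_iff.2 (inferInstance : Module.Flat K L))
  have : Surjective σ := ⟨fun x => ⟨IsLocalRing.closedPoint L, Subsingleton.elim _ _⟩⟩
  haveI : Epi σ := Flat.epi_of_flat_of_surjective σ
  exact (cancel_epi σ).1 h

/-- The restriction of a section to a base changed neighbourhood. -/
noncomputable abbrev restV {W : X.Etale} (g : W ⟶ V₀) :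
    ((EtDesc.pullSh f).obj G).obj.obj (op ((EtCoh.bc f).obj W)) :=
  ((EtDesc.pullSh f).obj G).obj.map ((EtCoh.bc f).map g).op s'

/-- The points of the geometric fibre where the section has a given value. -/
def valSetV (z₀ : (Scheme.pointSmallEtale ξ).fiber.obj V₀) (γ : (Scheme.pointSmallEtale ξ).sheafFiber.obj G) :
    Set (pullback f ξ : Scheme.{u}) :=
  {c | ∃ (W : X.Etale) (g : W ⟶ V₀) (v : (Scheme.pointSmallEtale ξ).fiber.obj W) (t : G.obj.obj (op W)),
    (Scheme.pointSmallEtale ξ).fiber.map g v = z₀ ∧ germ ξ G W v t = γ ∧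
      fibMap f ξ v c ∈ agree _ (restV f G V₀ s' g) (pullSect f G t)}

variable (z₀ : (Scheme.pointSmallEtale ξ).fiber.obj V₀)

theorem isOpen_valSetV (γ : (Scheme.pointSmallEtale ξ).sheafFiber.obj G) : IsOpen (valSetV f ξ G V₀ s' z₀ γ) :=
  isOpen_iff_forall_mem_open.2 fun _ ⟨W, g, v, t, hg, e, hc⟩ =>
    ⟨fibMap f ξ v ⁻¹' agree _ _ _, fun _ hc' => ⟨W, g, v, t, hg, e, hc'⟩,
      (isOpen_agree _ _ _).preimage (fibMap f ξ v).continuous, hc⟩

theorem restV_comp {P W : X.Etale} (a : P ⟶ W) (g : W ⟶ V₀) :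
    restV f G V₀ s' (a ≫ g) = ((EtDesc.pullSh f).obj G).obj.map ((EtCoh.bc f).map a).op (restV f G V₀ s' g) := by
  rw [restV, restV, ← Functor.map_comp_apply, ← op_comp, ← Functor.map_comp]

theorem mem_agree_restV_map {P W : X.Etale} (a : P ⟶ W) (g : W ⟶ V₀)
    (p : (Scheme.pointSmallEtale ξ).fiber.obj P) (r : G.obj.obj (op W)) (c : (pullback f ξ : Scheme.{u}))
    (h : fibMap f ξ ((Scheme.pointSmallEtale ξ).fiber.map a p) c ∈ agree _ (restV f G V₀ s' g) (pullSect f G r)) :
    fibMap f ξ p c ∈ agree _ (restV f G V₀ s' (a ≫ g)) (pullSect f G (G.obj.map a.op r)) := by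
  rw [restV_comp, pullSect_map, mem_agree_map]
  exact Eq.mpr (congrArg (fun y : ((EtCoh.bc f).obj W).left => y ∈ agree _ (restV f G V₀ s' g) (pullSect f G r))
    (congrArg (fun q : (pullback f ξ : Scheme.{u}) ⟶ ((EtCoh.bc f).obj W).left => q c) (fibMap_map f ξ a p))) h

/-- Two pointed neighbourhoods over a pointed object have a common refinement over it. -/
theorem exists_common_nbhd {W W' : X.Etale} (g : W ⟶ V₀) (g' : W' ⟶ V₀)
    (v : (Scheme.pointSmallEtale ξ).fiber.obj W) (v' : (Scheme.pointSmallEtale ξ).fiber.obj W')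
    (hg : (Scheme.pointSmallEtale ξ).fiber.map g v = z₀) (hg' : (Scheme.pointSmallEtale ξ).fiber.map g' v' = z₀) :
    ∃ (P : X.Etale) (p : (Scheme.pointSmallEtale ξ).fiber.obj P) (a : P ⟶ W) (b : P ⟶ W'),
      (Scheme.pointSmallEtale ξ).fiber.map a p = v ∧ (Scheme.pointSmallEtale ξ).fiber.map b p = v' ∧
        a ≫ g = b ≫ g' := by
  obtain ⟨P, a, b, -⟩ := IsCofilteredOrEmpty.cone_objs
    (C := (Scheme.pointSmallEtale ξ).fiber.Elements) ⟨W, v⟩ ⟨W', v'⟩
  let tg : Functor.elementsMk (Scheme.pointSmallEtale ξ).fiber W v ⟶ Functor.elementsMk _ V₀ z₀ :=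
    CategoryOfElements.homMk _ _ g hg
  let tg' : Functor.elementsMk (Scheme.pointSmallEtale ξ).fiber W' v' ⟶ Functor.elementsMk _ V₀ z₀ :=
    CategoryOfElements.homMk _ _ g' hg'
  obtain ⟨Q, e, he⟩ := IsCofilteredOrEmpty.cone_maps (a ≫ tg) (b ≫ tg')
  exact ⟨Q.1, Q.2, (e ≫ a).1, (e ≫ b).1, (e ≫ a).2, (e ≫ b).2,
    (Category.assoc _ _ _).trans ((congrArg Subtype.val he).trans (Category.assoc _ _ _).symm)⟩

theorem valSetV_unique {γ γ' : (Scheme.pointSmallEtale ξ).sheafFiber.obj G} {c : (pullback f ξ : Scheme.{u})}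
    (h : c ∈ valSetV f ξ G V₀ s' z₀ γ) (h' : c ∈ valSetV f ξ G V₀ s' z₀ γ') : γ = γ' := by
  obtain ⟨W, g, v, t, hg, rfl, hc⟩ := h
  obtain ⟨W', g', v', t', hg', rfl, hc'⟩ := h'
  obtain ⟨P, p, a, b, ha, hb, hab⟩ := exists_common_nbhd ξ V₀ z₀ g g' v v' hg hg'
  subst ha
  subst hb
  have h1 := mem_agree_restV_map f ξ G V₀ s' a g p t c hc
  have h2 := mem_agree_restV_map f ξ G V₀ s' b g' p t' c hc'
  rw [hab] at h1
  have h3 := agree_trans _ (agree_symm _ h1) h2
  rw [mem_agree_pullSect] at h3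
  have h4 : (pullback.fst P.hom f) (fibMap f ξ p c) = ptOf p :=
    (congrArg (fun q : (pullback f ξ : Scheme.{u}) ⟶ P.left => q c) (fibMap_fst f ξ p)).trans
      (congrArg (fun y => p.left y) (Subsingleton.elim ((pullback.snd f ξ) c) default))
  have h5 := (germ_eq_iff_mem_agree G p (G.obj.map a.op t) (G.obj.map b.op t')).2 (h4 ▸ h3)
  rwa [germ_map, germ_map] at h5

theorem exists_mem_valSetV (c : (pullback f ξ : Scheme.{u})) : ∃ γ, c ∈ valSetV f ξ G V₀ s' z₀ γ := by
  let η := geomPt c ≫ pullback.fst f ξ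
  let σ := geomPt c ≫ pullback.snd f ξ
  have hw0 : σ ≫ ξ = η ≫ f := by
    simp only [σ, η, Category.assoc, pullback.condition]
  let z : (Scheme.pointSmallEtale (η ≫ f)).fiber.obj V₀ := Over.homMk (σ ≫ z₀.left)
    ((Category.assoc _ _ _).trans ((congrArg (σ ≫ ·) (Over.w z₀)).trans hw0))
  obtain ⟨W, g, w, t, hgw, hw⟩ := exists_rep_near (f := f) G V₀ s' η z
  obtain ⟨v, hv⟩ := exists_fiber_factor ξ σ w.left ((Over.w w).trans hw0.symm)
  have hgv : (Scheme.pointSmallEtale ξ).fiber.map g v = z₀ := by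
    refine Over.OverMorphism.ext (eq_of_field_extension σ ?_)
    refine Eq.trans ?_ (congrArg (fun q => q.left) hgw)
    show σ ≫ v.left ≫ g.left = w.left ≫ g.left
    rw [← Category.assoc, hv]
  refine ⟨_, W, g, v, t, hgv, rfl, ?_⟩
  have hm : geomPt c ≫ fibMap f ξ v =
      (show Spec (CommRingCat.of _) ⟶ pullback W.hom f from ((fiberCompIso f η).inv.app W w).left) := by
    refine pullback.hom_ext ?_ ?_
    · refine (Category.assoc _ _ _).trans ((congrArg (_ ≫ ·) (fibMap_fst f ξ v)).trans ?_)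
      exact (Category.assoc _ _ _).symm.trans (hv.trans (fiberCompIso_inv_left f η W w).symm)
    · refine (Category.assoc _ _ _).trans ((congrArg (_ ≫ ·) (pullback.lift_snd _ _ _)).trans ?_)
      exact (Over.w ((fiberCompIso f η).inv.app W w)).symm
  have hp : fibMap f ξ v c = ptOf ((fiberCompIso f η).inv.app W w) := by
    refine Eq.trans (congrArg (fibMap f ξ v) (geomPt_base c).symm) ?_
    exact congrArg (fun q : Spec (CommRingCat.of _) ⟶ pullback W.hom f => q default) hm
  exact hp ▸ hw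

theorem exists_valueV [GeometricallyConnected f] : ∃ γ, ∀ c, c ∈ valSetV f ξ G V₀ s' z₀ γ := by
  haveI : ConnectedSpace (pullback f ξ : Scheme.{u}) :=
    GeometricallyConnected.geometrically_connectedSpace (f := f) ξ _ _ (.of_hasPullback f ξ)
  obtain ⟨c₀⟩ := (inferInstance : Nonempty (pullback f ξ : Scheme.{u}))
  obtain ⟨γ, hγ⟩ := exists_mem_valSetV f ξ G V₀ s' z₀ c₀
  have hcl : IsClopen (valSetV f ξ G V₀ s' z₀ γ) := by
    refine ⟨isOpen_compl_iff.1 (isOpen_iff_forall_mem_open.2 fun c hc => ?_), isOpen_valSetV f ξ G V₀ s' z₀ γ⟩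
    obtain ⟨γ', hγ'⟩ := exists_mem_valSetV f ξ G V₀ s' z₀ c
    exact ⟨valSetV f ξ G V₀ s' z₀ γ', fun d hd hd' => hc (valSetV_unique f ξ G V₀ s' z₀ hd hd' ▸ hγ'),
      isOpen_valSetV f ξ G V₀ s' z₀ γ', hγ'⟩
  exact ⟨γ, fun c => Set.eq_univ_iff_forall.1 (hcl.eq_univ ⟨c₀, hγ⟩) c⟩

theorem agree_transfer_restV {S : Scheme.{u}} (p : S ⟶ X') (q : S ⟶ X) (w : p ≫ f = q)
    {W : X.Etale} (g : W ⟶ V₀) (t : G.obj.obj (op W)) (u : ((EtCoh.bc q).obj W).left)
    (c : ((EtCoh.bc f).obj W).left) (hc : c ∈ agree _ (restV f G V₀ s' g) (pullSect f G t))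
    (hu : (pullback.fst ((EtCoh.bc f).obj W).hom p) ((tm p f q w W).left u) = c) :
    u ∈ agree _ (((EtDesc.pullSh q).obj G).obj.map ((EtCoh.bc q).map g).op
      (transfer p f q w G V₀ s')) (pullSect q G t) := by
  rw [← transfer_map p f q w G g s', ← transfer_pullSect p f q w G t]
  exact (mem_agree_transfer p f q w G W _ _ u).2 (hu.symm ▸ hc)

/-- A section over an étale object of the inverse image has equal pullbacks. -/
theorem trans_eqV [GeometricallyConnected f] : trans₁ f G V₀ s' = trans₂ f G V₀ s' := by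
  refine eq_of_agree_eq_univ _ _ _ fun x => ?_
  let q := q₀ f
  let σ' := geomPt x
  let σ : _ ⟶ EtDesc.X2 f := σ' ≫ ((EtCoh.bc q).obj V₀).hom
  let ξ₀ := σ ≫ q
  let z₀ : (Scheme.pointSmallEtale ξ₀).fiber.obj V₀ := Over.homMk (σ' ≫ pullback.fst V₀.hom q)
    ((Category.assoc _ _ _).trans ((congrArg (σ' ≫ ·) pullback.condition).trans (Category.assoc _ _ _).symm))
  obtain ⟨γ, hγ⟩ := exists_valueV f ξ₀ G V₀ s' z₀
  have h1 : (σ ≫ pullback.fst f f) ≫ f = 𝟙 _ ≫ ξ₀ := (Category.assoc _ _ _).trans (Category.id_comp _).symm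
  have h2 : (σ ≫ pullback.snd f f) ≫ f = 𝟙 _ ≫ ξ₀ := by
    rw [Category.assoc, ← pullback.condition, Category.id_comp]
  let c₁ : Spec (CommRingCat.of _) ⟶ pullback f ξ₀ := pullback.lift (σ ≫ pullback.fst f f) (𝟙 _) h1
  let c₂ : Spec (CommRingCat.of _) ⟶ pullback f ξ₀ := pullback.lift (σ ≫ pullback.snd f f) (𝟙 _) h2
  obtain ⟨W₁, g₁, v₁, t₁, hg₁, e₁, hc₁⟩ := hγ (c₁ default)
  obtain ⟨W₂, g₂, v₂, t₂, hg₂, e₂, hc₂⟩ := hγ (c₂ default)
  obtain ⟨P, p, a, b, ha, hb, hab⟩ := exists_common_nbhd ξ₀ V₀ z₀ g₁ g₂ v₁ v₂ hg₁ hg₂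
  subst ha
  subst hb
  have A0 := mem_agree_restV_map f ξ₀ G V₀ s' a g₁ p t₁ _ hc₁
  have B0 := mem_agree_restV_map f ξ₀ G V₀ s' b g₂ p t₂ _ hc₂
  rw [← hab] at B0
  let uh : Spec (CommRingCat.of _) ⟶ ((EtCoh.bc q).obj P).left := pullback.lift p.left σ (Over.w p)
  have A := agree_transfer_restV f G V₀ s' (pullback.fst f f) q rfl (a ≫ g₁) _ (uh default) _ A0
    (congrArg (fun k : Spec (CommRingCat.of _) ⟶ pullback P.hom f => k default)
      (tm_fst_eq f ξ₀ (pullback.fst f f) q rfl p σ rfl h1))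
  have B := agree_transfer_restV f G V₀ s' (pullback.snd f f) q pullback.condition.symm (a ≫ g₁) _ (uh default) _
    B0 (congrArg (fun k : Spec (CommRingCat.of _) ⟶ pullback P.hom f => k default)
      (tm_fst_eq f ξ₀ (pullback.snd f f) q pullback.condition.symm p σ rfl h2))
  have C : uh default ∈ agree _ (pullSect q G (G.obj.map a.op t₁)) (pullSect q G (G.obj.map b.op t₂)) := by
    rw [mem_agree_pullSect]
    have hpt : (pullback.fst P.hom q) (uh default) = ptOf p :=
      congrArg (fun k : Spec (CommRingCat.of _) ⟶ P.left => k default) (pullback.lift_fst p.left σ (Over.w p))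
    rw [hpt, ← germ_eq_iff_mem_agree, germ_map, germ_map]
    exact e₁.trans e₂.symm
  have D := agree_trans _ (agree_trans _ A C) (agree_symm _ B)
  rw [mem_agree_map] at D
  have hx : ((EtCoh.bc q).map (a ≫ g₁)).left (uh default) = x := by
    have hk : uh ≫ ((EtCoh.bc q).map (a ≫ g₁)).left = σ' := by
      refine pullback.hom_ext ?_ ?_
      · refine (Category.assoc _ _ _).trans ((congrArg (uh ≫ ·) (bc_map_fst q (a ≫ g₁))).trans ?_)
        refine (Category.assoc _ _ _).symm.trans ((congrArg (· ≫ _) (pullback.lift_fst _ _ _)).trans ?_)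
        exact (Category.assoc _ _ _).symm.trans (congrArg (fun k => k.left) hg₁)
      · refine (Category.assoc _ _ _).trans ((congrArg (uh ≫ ·) (Over.w ((EtCoh.bc q).map (a ≫ g₁)).hom)).trans ?_)
        exact pullback.lift_snd _ _ _
    exact (congrArg (fun k : Spec (CommRingCat.of _) ⟶ ((EtCoh.bc q).obj V₀).left => k default) hk).trans
      (geomPt_base x)
  exact hx ▸ D

/-- Sections over étale objects do not change along geometrically connected submersions. -/
theorem bijective_pullSect_geomConnV [GeometricallyConnected f] (hf : EtDesc.IsUnivSubmersive f) :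
    Function.Bijective (pullSect f G (U := V₀)) := by
  haveI := surjective_of_univSubmersive hf
  exact ⟨pullSect_injective f G _, fun s' =>
    (existsUnique_section hf G V₀ s' (trans_eqV f G V₀ s')).exists⟩

/-- The unit is invertible for geometrically connected submersions. -/
theorem isIso_unit_geomConn [GeometricallyConnected f] (hf : EtDesc.IsUnivSubmersive f) :
    IsIso ((EtDesc.adjSh f).unit.app G) := by
  haveI : IsIso ((sheafToPresheaf _ _).map ((EtDesc.adjSh f).unit.app G)) := by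
    rw [NatTrans.isIso_iff_isIso_app]
    intro V
    exact (isIso_iff_bijective _).2 (bijective_pullSect_geomConnV f G V.unop hf)
  exact isIso_of_reflects_iso _ (sheafToPresheaf _ _)

end Groth.Agent.H11SetBC
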