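import Groth.Agent.H11SetBC.SHStage
import Groth.Agent.H06GRConn.Henselian
import Groth.Agent.S2792
import Mathlib.RingTheory.FiniteStability

/-!
# Connected fibres of maps of strict localizations of flat geometrically reduced algebras

Noetherian approximation of a local map of strictly henselian local rings over a flat algebra with reduced
fibres over a Noetherian base.
-/

set_option autoImplicit false
set_option linter.style.haveILetI false
set_option linter.unusedSectionVars false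
set_option backward.isDefEq.respectTransparency false

universe u

open IsLocalRing
open scoped TensorProduct

namespace Groth.Agent.H11SetBC

/-- The ring map out of a tensor product. -/
noncomputable def liftRing {A B K R : Type u} [CommRing A] [CommRing B] [CommRing K] [CommRing R]
    [Algebra A B] [Algebra A K] (f : B →+* R) (g : K →+* R)
    (h : f.comp (algebraMap A B) = g.comp (algebraMap A K)) : B ⊗[A] K →+* R :=
  letI : Algebra A R := (f.comp (algebraMap A B)).toAlgebra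
  (Algebra.TensorProduct.lift (S := A) ({ f with commutes' := fun _ => rfl } : B →ₐ[A] R)
    { g with commutes' := fun a => (RingHom.congr_fun h a).symm } (fun _ _ => Commute.all _ _)).toRingHom

theorem liftRing_tmul {A B K R : Type u} [CommRing A] [CommRing B] [CommRing K] [CommRing R]
    [Algebra A B] [Algebra A K] (f : B →+* R) (g : K →+* R)
    (h : f.comp (algebraMap A B) = g.comp (algebraMap A K)) (b : B) (k : K) :
    liftRing f g h (b ⊗ₜ k) = f b * g k := by
  let : Algebra A R := (f.comp (algebraMap A B)).toAlgebra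
  exact Algebra.TensorProduct.lift_tmul _ _ _ b k

theorem tensor_ringHom_ext {A B K R : Type u} [CommRing A] [CommRing B] [CommRing K] [CommRing R]
    [Algebra A B] [Algebra A K] {f g : B ⊗[A] K →+* R} (h1 : ∀ b, f (b ⊗ₜ 1) = g (b ⊗ₜ 1))
    (h2 : ∀ k, f (1 ⊗ₜ k) = g (1 ⊗ₜ k)) : f = g :=
  RingHom.ext fun z => by
    induction z using TensorProduct.induction_on with
    | zero => simp
    | tmul b k =>
      rw [← mul_one b, ← one_mul k, ← Algebra.TensorProduct.tmul_mul_tmul, map_mul, map_mul, h1, h2]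
    | add a b ha hb => rw [map_add, map_add, ha, hb]

variable (A0 : Type u) [CommRing A0] (C0 : Type u) [CommRing C0] [Algebra A0 C0]
  {RS RX : Type u} [CommRing RS] [HenselianLocalRing RS] [IsSepClosed (ResidueField RS)]
  [CommRing RX] [HenselianLocalRing RX] [IsSepClosed (ResidueField RX)]
  [Algebra A0 RS] [Algebra A0 RX] (ψ : RS →ₐ[A0] RX) [IsLocalHom ψ.toRingHom] (j : C0 →ₐ[A0] RX)

/-- The finitely generated subalgebras. -/
abbrev SubA (s : Finset RS) : Subalgebra A0 RS := Algebra.adjoin A0 (s : Set RS)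

/-- The algebra at a stage. -/
abbrev DB (s : Finset RS) : Type u := ↥(SubA A0 s) ⊗[A0] C0

/-- The map of the algebra at a stage. -/
noncomputable abbrev phiB (s : Finset RS) : DB A0 C0 s →+* RX :=
  (Algebra.TensorProduct.lift (ψ.comp (SubA A0 s).val) j (fun _ _ => Commute.all _ _)).toRingHom

theorem phiB_tmul (s : Finset RS) (a : SubA A0 s) (c : C0) : phiB A0 C0 ψ j s (a ⊗ₜ c) = ψ a * j c := by
  simp [phiB]

/-- The map of the base algebra at a stage. -/
abbrev phiA (s : Finset RS) : ↥(SubA A0 s) →+* RS := (SubA A0 s).val.toRingHom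

/-- The base at a stage. -/
abbrev SA (s : Finset RS) : Type u := SH (phiA A0 s)

/-- The total space at a stage. -/
abbrev SB (s : Finset RS) : Type u := SH (phiB A0 C0 ψ j s)

theorem exists_alpha (s : Finset RS) :
    ∃! f : SA A0 s →+* SB A0 C0 ψ j s, IsLocalHom f ∧
      f.comp (toSH (phiA A0 s)) =
        (toSH (phiB A0 C0 ψ j s)).comp (Algebra.TensorProduct.includeLeftRingHom) ∧
      (shU (phiB A0 C0 ψ j s)).comp f = ψ.toRingHom.comp (shU (phiA A0 s)) := by
  refine existsUnique_sh _ _ _ _ (RingHom.ext fun a => ?_)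
  rw [← RingHom.comp_assoc, shU_comp, RingHom.comp_assoc, shU_comp]
  show phiB A0 C0 ψ j s (a ⊗ₜ 1) = ψ (a : RS)
  rw [phiB_tmul, map_one, mul_one]

/-- The structure map at a stage. -/
noncomputable def alpha (s : Finset RS) : SA A0 s →+* SB A0 C0 ψ j s := (exists_alpha A0 C0 ψ j s).exists.choose

instance isLocalHom_alpha (s : Finset RS) : IsLocalHom (alpha A0 C0 ψ j s) :=
  (exists_alpha A0 C0 ψ j s).exists.choose_spec.1

theorem alpha_comp (s : Finset RS) : (alpha A0 C0 ψ j s).comp (toSH (phiA A0 s)) =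
    (toSH (phiB A0 C0 ψ j s)).comp (Algebra.TensorProduct.includeLeftRingHom) :=
  (exists_alpha A0 C0 ψ j s).exists.choose_spec.2.1

theorem shU_alpha (s : Finset RS) :
    (shU (phiB A0 C0 ψ j s)).comp (alpha A0 C0 ψ j s) = ψ.toRingHom.comp (shU (phiA A0 s)) :=
  (exists_alpha A0 C0 ψ j s).exists.choose_spec.2.2

noncomputable instance algSASB (s : Finset RS) : Algebra (SA A0 s) (SB A0 C0 ψ j s) :=
  (alpha A0 C0 ψ j s).toAlgebra

variable {s t v : Finset RS}

/-- Inclusion of subalgebras. -/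
noncomputable abbrev inclA (h : s ≤ t) : ↥(SubA A0 s) →ₐ[A0] ↥(SubA A0 t) :=
  Subalgebra.inclusion (Algebra.adjoin_mono (Finset.coe_subset.2 h))

theorem exists_trA (h : s ≤ t) :
    ∃! f : SA A0 s →+* SA A0 t, IsLocalHom f ∧
      f.comp (toSH (phiA A0 s)) = (toSH (phiA A0 t)).comp (inclA A0 h).toRingHom ∧
      (shU (phiA A0 t)).comp f = shU (phiA A0 s) := by
  refine existsUnique_sh _ _ _ _ ?_
  rw [← RingHom.comp_assoc, shU_comp, shU_comp]
  rfl

/-- Transition maps of the bases. -/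
noncomputable def trA (h : s ≤ t) : SA A0 s →+* SA A0 t := (exists_trA A0 h).exists.choose

instance isLocalHom_trA (h : s ≤ t) : IsLocalHom (trA A0 h) := (exists_trA A0 h).exists.choose_spec.1

theorem trA_comp (h : s ≤ t) :
    (trA A0 h).comp (toSH (phiA A0 s)) = (toSH (phiA A0 t)).comp (inclA A0 h).toRingHom :=
  (exists_trA A0 h).exists.choose_spec.2.1

theorem shU_trA (h : s ≤ t) : (shU (phiA A0 t)).comp (trA A0 h) = shU (phiA A0 s) :=
  (exists_trA A0 h).exists.choose_spec.2.2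

/-- Transition maps of the algebras. -/
noncomputable abbrev inclB (h : s ≤ t) : DB A0 C0 s →+* DB A0 C0 t :=
  (Algebra.TensorProduct.map (inclA A0 h) (AlgHom.id A0 C0)).toRingHom

theorem phiB_inclB (h : s ≤ t) : (phiB A0 C0 ψ j t).comp (inclB A0 C0 h) = phiB A0 C0 ψ j s :=
  tensor_ringHom_ext (fun a => by simp [phiB, inclB]) (fun c => by simp [phiB, inclB])

theorem exists_trB (h : s ≤ t) :
    ∃! f : SB A0 C0 ψ j s →+* SB A0 C0 ψ j t, IsLocalHom f ∧
      f.comp (toSH (phiB A0 C0 ψ j s)) = (toSH (phiB A0 C0 ψ j t)).comp (inclB A0 C0 h) ∧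
      (shU (phiB A0 C0 ψ j t)).comp f = shU (phiB A0 C0 ψ j s) := by
  refine existsUnique_sh _ _ _ _ ?_
  rw [← RingHom.comp_assoc, shU_comp, shU_comp, phiB_inclB]

/-- Transition maps of the total spaces. -/
noncomputable def trB (s t : Finset RS) (h : s ≤ t) : SB A0 C0 ψ j s →+* SB A0 C0 ψ j t :=
  (exists_trB A0 C0 ψ j h).exists.choose

theorem isLocalHom_trB (h : s ≤ t) : IsLocalHom (trB A0 C0 ψ j s t h) :=
  (exists_trB A0 C0 ψ j h).exists.choose_spec.1

theorem trB_comp (h : s ≤ t) :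
    (trB A0 C0 ψ j s t h).comp (toSH (phiB A0 C0 ψ j s)) = (toSH (phiB A0 C0 ψ j t)).comp (inclB A0 C0 h) :=
  (exists_trB A0 C0 ψ j h).exists.choose_spec.2.1

theorem shU_trB (h : s ≤ t) :
    (shU (phiB A0 C0 ψ j t)).comp (trB A0 C0 ψ j s t h) = shU (phiB A0 C0 ψ j s) :=
  (exists_trB A0 C0 ψ j h).exists.choose_spec.2.2

theorem trB_alpha (h : s ≤ t) :
    (trB A0 C0 ψ j s t h).comp (alpha A0 C0 ψ j s) = (alpha A0 C0 ψ j t).comp (trA A0 h) := by
  haveI := isLocalHom_trB A0 C0 ψ j h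
  haveI : IsLocalHom (ψ.toRingHom.comp (shU (phiA A0 s))) := RingHom.isLocalHom_comp _ _
  refine (existsUnique_sh (phiA A0 s) (shU (phiB A0 C0 ψ j t))
    ((toSH (phiB A0 C0 ψ j t)).comp (Algebra.TensorProduct.includeLeftRingHom.comp (inclA A0 h).toRingHom))
    (ψ.toRingHom.comp (shU (phiA A0 s))) ?_).unique
      ⟨RingHom.isLocalHom_comp _ _, ?_, ?_⟩ ⟨RingHom.isLocalHom_comp _ _, ?_, ?_⟩
  · rw [← RingHom.comp_assoc, shU_comp, RingHom.comp_assoc, shU_comp]
    refine RingHom.ext fun a => ?_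
    show phiB A0 C0 ψ j t (inclA A0 h a ⊗ₜ 1) = ψ (a : RS)
    rw [phiB_tmul, map_one, mul_one]
    rfl
  · rw [RingHom.comp_assoc, alpha_comp, ← RingHom.comp_assoc, trB_comp, RingHom.comp_assoc]
    refine congrArg _ (RingHom.ext fun a => ?_)
    simp [inclB]
  · rw [← RingHom.comp_assoc, shU_trB, shU_alpha]
  · rw [RingHom.comp_assoc, trA_comp, ← RingHom.comp_assoc, alpha_comp, RingHom.comp_assoc]
  · rw [← RingHom.comp_assoc, shU_alpha, RingHom.comp_assoc, shU_trA]

theorem trB_unique (h : s ≤ t) (f : SB A0 C0 ψ j s →+* SB A0 C0 ψ j t) (hl : IsLocalHom f)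
    (h1 : f.comp (toSH (phiB A0 C0 ψ j s)) = (toSH (phiB A0 C0 ψ j t)).comp (inclB A0 C0 h))
    (h2 : (shU (phiB A0 C0 ψ j t)).comp f = shU (phiB A0 C0 ψ j s)) : f = trB A0 C0 ψ j s t h :=
  (exists_trB A0 C0 ψ j h).unique ⟨hl, h1, h2⟩ (exists_trB A0 C0 ψ j h).exists.choose_spec

instance directedSB : DirectedSystem (SB A0 C0 ψ j) (fun s t h => trB A0 C0 ψ j s t h) where
  map_self s x := by
    have h1 : RingHom.id _ = trB A0 C0 ψ j s s le_rfl := trB_unique A0 C0 ψ j le_rfl _ ⟨fun _ hx => hx⟩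
      (RingHom.ext fun z => by
        show toSH _ z = toSH _ (inclB A0 C0 (le_refl s) z)
        have : inclB A0 C0 (le_refl s) = RingHom.id _ :=
          tensor_ringHom_ext (fun a => by simp [inclB]) (fun c => by simp [inclB])
        rw [this]; rfl) (RingHom.comp_id _)
    exact (RingHom.congr_fun h1 x).symm
  map_map v t s hst htv x := by
    haveI := isLocalHom_trB A0 C0 ψ j hst
    haveI := isLocalHom_trB A0 C0 ψ j htv
    refine RingHom.congr_fun (trB_unique A0 C0 ψ j (hst.trans htv)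
      ((trB A0 C0 ψ j t v htv).comp (trB A0 C0 ψ j s t hst)) (RingHom.isLocalHom_comp _ _) ?_ ?_) x
    · rw [RingHom.comp_assoc, trB_comp, ← RingHom.comp_assoc, trB_comp, RingHom.comp_assoc]
      exact congrArg _ (tensor_ringHom_ext (fun a => by simp [inclB]) (fun c => by simp [inclB]))
    · rw [← RingHom.comp_assoc, shU_trB, shU_trB]

/-- The limit of the stages. -/
abbrev TLim : Type u := Ring.DirectLimit (SB A0 C0 ψ j) (fun s t h => trB A0 C0 ψ j s t h)

noncomputable instance henselianTLim : HenselianLocalRing (TLim A0 C0 ψ j) :=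
  (S2792.result (SB A0 C0 ψ j) (fun s t h => trB A0 C0 ψ j s t h) (fun _ _ h => isLocalHom_trB A0 C0 ψ j h)).fst

instance isSepClosedTLim : IsSepClosed (ResidueField (TLim A0 C0 ψ j)) :=
  (S2792.result (SB A0 C0 ψ j) (fun s t h => trB A0 C0 ψ j s t h) (fun _ _ h => isLocalHom_trB A0 C0 ψ j h)).snd

/-- The maps to the limit. -/
noncomputable def ofT (s : Finset RS) : SB A0 C0 ψ j s →+* TLim A0 C0 ψ j :=
  Ring.DirectLimit.of (SB A0 C0 ψ j) (fun s t h => trB A0 C0 ψ j s t h) s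

theorem ofT_trB (h : s ≤ t) : (ofT A0 C0 ψ j t).comp (trB A0 C0 ψ j s t h) = ofT A0 C0 ψ j s :=
  RingHom.ext fun x => Ring.DirectLimit.of_f h x

/-- The map to `RX`. -/
noncomputable def piT : TLim A0 C0 ψ j →+* RX :=
  Ring.DirectLimit.lift (SB A0 C0 ψ j) (fun s t h => trB A0 C0 ψ j s t h) RX
    (fun s => shU (phiB A0 C0 ψ j s)) fun _ _ h x => RingHom.congr_fun (shU_trB A0 C0 ψ j h) x

theorem piT_ofT (s : Finset RS) : (piT A0 C0 ψ j).comp (ofT A0 C0 ψ j s) = shU (phiB A0 C0 ψ j s) :=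
  RingHom.ext fun x => by simp only [piT, ofT, RingHom.comp_apply, Ring.DirectLimit.lift_of]

instance isLocalHom_piT : IsLocalHom (piT A0 C0 ψ j) where
  map_nonunit z hz := by
    obtain ⟨s, x, rfl⟩ := Ring.DirectLimit.exists_of z
    change IsUnit (ofT A0 C0 ψ j s x)
    have h1 : IsUnit (shU (phiB A0 C0 ψ j s) x) := by rw [← piT_ofT]; exact hz
    exact (IsUnit.of_map _ x h1).map _

instance isLocalHom_ofT (s : Finset RS) : IsLocalHom (ofT A0 C0 ψ j s) := by
  haveI : IsLocalHom ((piT A0 C0 ψ j).comp (ofT A0 C0 ψ j s)) := by rw [piT_ofT]; infer_instance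
  exact isLocalHom_of_comp _ (piT A0 C0 ψ j)

/-- The map of a stage algebra into the limit. -/
noncomputable abbrev cT (s : Finset RS) : DB A0 C0 s →+* TLim A0 C0 ψ j :=
  (ofT A0 C0 ψ j s).comp (toSH (phiB A0 C0 ψ j s))

theorem cT_inclB (h : s ≤ t) : (cT A0 C0 ψ j t).comp (inclB A0 C0 h) = cT A0 C0 ψ j s := by
  rw [cT, RingHom.comp_assoc, ← trB_comp A0 C0 ψ j h, ← RingHom.comp_assoc, ofT_trB]

theorem piT_cT (s : Finset RS) : (piT A0 C0 ψ j).comp (cT A0 C0 ψ j s) = phiB A0 C0 ψ j s := by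
  rw [cT, ← RingHom.comp_assoc, piT_ofT, shU_comp]

/-- The map of `C0`. -/
noncomputable def jT : C0 →+* TLim A0 C0 ψ j :=
  (cT A0 C0 ψ j ∅).comp Algebra.TensorProduct.includeRight.toRingHom

/-- The underlying function of the map of `RS`. -/
noncomputable def iotaFun (r : RS) : TLim A0 C0 ψ j :=
  cT A0 C0 ψ j {r}
    (⟨r, Algebra.subset_adjoin (Finset.mem_coe.2 (Finset.mem_singleton_self r))⟩ ⊗ₜ (1 : C0))

theorem iotaFun_eq (s : Finset RS) (a : SubA A0 s) :
    iotaFun A0 C0 ψ j (a : RS) = cT A0 C0 ψ j s (a ⊗ₜ 1) := by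
  obtain ⟨k, h₁, h₂⟩ := exists_ge_ge ({(a : RS)} : Finset RS) s
  rw [iotaFun, ← cT_inclB A0 C0 ψ j h₁, ← cT_inclB A0 C0 ψ j h₂, RingHom.comp_apply, RingHom.comp_apply]
  refine congrArg _ ?_
  simp only [inclB, AlgHom.toRingHom_eq_coe, RingHom.coe_coe, Algebra.TensorProduct.map_tmul, AlgHom.id_apply]
  rfl

/-- The map of `RS`. -/
noncomputable def iotaT : RS →+* TLim A0 C0 ψ j where
  toFun := iotaFun A0 C0 ψ j
  map_one' := by
    have h := iotaFun_eq A0 C0 ψ j ∅ 1
    rwa [OneMemClass.coe_one, ← Algebra.TensorProduct.one_def, map_one] at h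
  map_zero' := by
    have h := iotaFun_eq A0 C0 ψ j ∅ 0
    rwa [ZeroMemClass.coe_zero, TensorProduct.zero_tmul, map_zero] at h
  map_add' a b := by
    obtain ⟨k, h₁, h₂⟩ := exists_ge_ge ({a} : Finset RS) {b}
    let x : SubA A0 k := ⟨a, Algebra.subset_adjoin (h₁ (Finset.mem_singleton_self a))⟩
    let y : SubA A0 k := ⟨b, Algebra.subset_adjoin (h₂ (Finset.mem_singleton_self b))⟩
    show iotaFun A0 C0 ψ j ((x + y : SubA A0 k) : RS) = iotaFun A0 C0 ψ j (x : RS) + iotaFun A0 C0 ψ j (y : RS)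
    rw [iotaFun_eq, iotaFun_eq, iotaFun_eq, TensorProduct.add_tmul, map_add]
  map_mul' a b := by
    obtain ⟨k, h₁, h₂⟩ := exists_ge_ge ({a} : Finset RS) {b}
    let x : SubA A0 k := ⟨a, Algebra.subset_adjoin (h₁ (Finset.mem_singleton_self a))⟩
    let y : SubA A0 k := ⟨b, Algebra.subset_adjoin (h₂ (Finset.mem_singleton_self b))⟩
    show iotaFun A0 C0 ψ j ((x * y : SubA A0 k) : RS) = iotaFun A0 C0 ψ j (x : RS) * iotaFun A0 C0 ψ j (y : RS)
    rw [iotaFun_eq, iotaFun_eq, iotaFun_eq, ← map_mul, Algebra.TensorProduct.tmul_mul_tmul, mul_one]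

theorem piT_iotaT : (piT A0 C0 ψ j).comp (iotaT A0 C0 ψ j) = ψ.toRingHom := RingHom.ext fun r => by
  refine (RingHom.congr_fun (piT_cT A0 C0 ψ j {r}) _).trans ?_
  rw [phiB_tmul, map_one, mul_one]
  rfl

theorem piT_jT : (piT A0 C0 ψ j).comp (jT A0 C0 ψ j) = j.toRingHom := RingHom.ext fun c => by
  refine (RingHom.congr_fun (piT_cT A0 C0 ψ j ∅) _).trans ?_
  simp [phiB]

theorem jT_algebraMap :
    (jT A0 C0 ψ j).comp (algebraMap A0 C0) = (iotaT A0 C0 ψ j).comp (algebraMap A0 RS) :=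
  RingHom.ext fun a => by
    refine Eq.trans ?_ (iotaFun_eq A0 C0 ψ j ∅ (algebraMap A0 _ a)).symm
    refine congrArg (cT A0 C0 ψ j ∅) ?_
    show (1 : SubA A0 ∅) ⊗ₜ algebraMap A0 C0 a = _
    simp only [Algebra.algebraMap_eq_smul_one, TensorProduct.smul_tmul]

instance isLocalHom_iotaT : IsLocalHom (iotaT A0 C0 ψ j) := by
  haveI : IsLocalHom ((piT A0 C0 ψ j).comp (iotaT A0 C0 ψ j)) := by rw [piT_iotaT]; assumption
  exact isLocalHom_of_comp _ (piT A0 C0 ψ j)

theorem iotaT_shU (s : Finset RS) :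
    (iotaT A0 C0 ψ j).comp (shU (phiA A0 s)) = (ofT A0 C0 ψ j s).comp (alpha A0 C0 ψ j s) := by
  haveI : IsLocalHom (ψ.toRingHom.comp (shU (phiA A0 s))) := RingHom.isLocalHom_comp _ _
  refine (existsUnique_sh (phiA A0 s) (piT A0 C0 ψ j)
    ((cT A0 C0 ψ j s).comp Algebra.TensorProduct.includeLeftRingHom)
    (ψ.toRingHom.comp (shU (phiA A0 s))) ?_).unique
      ⟨RingHom.isLocalHom_comp _ _, ?_, ?_⟩ ⟨RingHom.isLocalHom_comp _ _, ?_, ?_⟩
  · rw [← RingHom.comp_assoc, piT_cT, RingHom.comp_assoc, shU_comp]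
    refine RingHom.ext fun a => ?_
    show phiB A0 C0 ψ j s (a ⊗ₜ 1) = ψ (a : RS)
    rw [phiB_tmul, map_one, mul_one]
  · rw [RingHom.comp_assoc, shU_comp]
    exact RingHom.ext fun a => iotaFun_eq A0 C0 ψ j s a
  · rw [← RingHom.comp_assoc, piT_iotaT]
  · rw [RingHom.comp_assoc, alpha_comp, cT, RingHom.comp_assoc]
  · rw [← RingHom.comp_assoc, piT_ofT, shU_alpha]

variable [IsNoetherianRing A0]

theorem isNoetherianRing_SA (s : Finset RS) : IsNoetherianRing (SA A0 s) := by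
  haveI : Algebra.FiniteType A0 (SubA A0 s) := (SubA A0 s).fg_iff_finiteType.1 (Subalgebra.fg_adjoin_finset s)
  haveI : IsNoetherianRing (SubA A0 s) := Algebra.FiniteType.isNoetherianRing A0 _
  exact isNoetherianRing_SH _

variable [Module.Flat A0 C0]

omit [IsNoetherianRing A0] in
theorem flat_alpha (s : Finset RS) : Module.Flat (SA A0 s) (SB A0 C0 ψ j s) := by
  refine RingHom.flat_algebraMap_iff.1 (flat_sh (phiA A0 s) (phiB A0 C0 ψ j s)
    Algebra.TensorProduct.includeLeftRingHom ?_ (alpha A0 C0 ψ j s) ?_ (alpha_comp A0 C0 ψ j s))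
  · exact RingHom.flat_algebraMap_iff.2 (inferInstance : Module.Flat ↥(SubA A0 s) (DB A0 C0 s))
  · haveI : IsLocalHom (ψ.toRingHom.comp (RingHom.id RS)) := by rw [RingHom.comp_id]; assumption
    ext a
    simp only [Ideal.mem_comap, Algebra.TensorProduct.includeLeftRingHom_apply]
    rw [phiB_tmul, map_one, mul_one, mem_maximalIdeal, mem_maximalIdeal, mem_nonunits_iff, mem_nonunits_iff]
    exact not_congr ⟨fun h => h.map ψ.toRingHom, fun h => IsUnit.of_map ψ.toRingHom _ h⟩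

omit [Module.Flat A0 C0] [IsNoetherianRing A0] in
theorem isReduced_alpha (hred : ∀ (L : Type u) [Field L] [Algebra A0 L], _root_.IsReduced (C0 ⊗[A0] L))
    (s : Finset RS) (L : Type u) [Field L] [Algebra (SA A0 s) L] :
    _root_.IsReduced (SB A0 C0 ψ j s ⊗[SA A0 s] L) := by
  let A' := ↥(SubA A0 s)
  let C := DB A0 C0 s
  let A := SA A0 s
  let B := SB A0 C0 ψ j s
  letI : Algebra A' A := (toSH (phiA A0 s)).toAlgebra
  letI : Algebra C B := (toSH (phiB A0 C0 ψ j s)).toAlgebra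
  letI : Algebra A' B := ((algebraMap C B).comp (algebraMap A' C)).toAlgebra
  haveI : IsScalarTower A' C B := IsScalarTower.of_algebraMap_eq (R := A') (S := C) (A := B) fun _ => rfl
  haveI : IsScalarTower A' A B := IsScalarTower.of_algebraMap_eq' (alpha_comp A0 C0 ψ j s).symm
  letI : Algebra A' L := ((algebraMap A L).comp (algebraMap A' A)).toAlgebra
  haveI : IsScalarTower A' A L := IsScalarTower.of_algebraMap_eq' rfl
  letI : Algebra A0 L := ((algebraMap A' L).comp (algebraMap A0 A')).toAlgebra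
  haveI : IsScalarTower A0 A' L := IsScalarTower.of_algebraMap_eq' rfl
  haveI : Algebra.WeaklyEtale A' A := weaklyEtale_SH (phiA A0 s)
  haveI : Algebra.WeaklyEtale C B := weaklyEtale_SH (phiB A0 C0 ψ j s)
  refine isReduced_tensor_of_weaklyEtale (A' := A') (C := C) L ?_
  haveI := hred L
  let e : C ⊗[A'] L ≃+* C0 ⊗[A0] L :=
    ((Algebra.TensorProduct.comm A' C L).toRingEquiv.trans
      (Algebra.TensorProduct.cancelBaseChange A0 A' L L C0).toRingEquiv).trans
      (Algebra.TensorProduct.comm A0 L C0).toRingEquiv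
  exact isReduced_of_injective e e.injective

theorem eq_zero_or_one_stage (hred : ∀ (L : Type u) [Field L] [Algebra A0 L], _root_.IsReduced (C0 ⊗[A0] L))
    (s : Finset RS) (K : Type u) [Field K] [Algebra (SA A0 s) K] {w : SB A0 C0 ψ j s ⊗[SA A0 s] K}
    (hw : IsIdempotentElem w) : w = 0 ∨ w = 1 := by
  haveI := isNoetherianRing_SA A0 (RS := RS) s
  haveI := flat_alpha A0 C0 ψ j s
  haveI : IsLocalHom (algebraMap (SA A0 s) (SB A0 C0 ψ j s)) := isLocalHom_alpha A0 C0 ψ j s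
  haveI := H06GRConn.connectedSpace_tensor (A := SA A0 s) (B := SB A0 C0 ψ j s)
    (isReduced_alpha A0 C0 ψ j hred s) (fun S _ _ _ _ _ => H06GRConn.hloc_of_isSepClosed S) K
  let e := (Algebra.TensorProduct.comm (SA A0 s) (SB A0 C0 ψ j s) K).toRingEquiv
  rcases H9Hens.idempotent_eq_of_connectedSpace (R := K ⊗[SA A0 s] SB A0 C0 ψ j s) (hw.map e) with h | h
  · exact Or.inl ((map_eq_zero_iff _ e.injective).1 h)
  · exact Or.inr ((map_eq_one_iff _ e.injective).1 h)

section Fibre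

variable (K : Type u) [Field K] [Algebra RS K]

noncomputable instance algSAK (s : Finset RS) : Algebra (SA A0 s) K :=
  ((algebraMap RS K).comp (shU (phiA A0 s))).toAlgebra

/-- The fibre at a stage. -/
abbrev ZK (s : Finset RS) : Type u := SB A0 C0 ψ j s ⊗[SA A0 s] K

/-- Transition maps of the fibres. -/
noncomputable def trZ (s t : Finset RS) (h : s ≤ t) : ZK A0 C0 ψ j K s →+* ZK A0 C0 ψ j K t :=
  liftRing (Algebra.TensorProduct.includeLeftRingHom.comp (trB A0 C0 ψ j s t h))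
    Algebra.TensorProduct.includeRight.toRingHom (by
      refine RingHom.ext fun x => ?_
      show trB A0 C0 ψ j s t h (alpha A0 C0 ψ j s x) ⊗ₜ (1 : K) =
        (1 : SB A0 C0 ψ j t) ⊗ₜ algebraMap (SA A0 s) K x
      rw [← RingHom.comp_apply, trB_alpha, RingHom.comp_apply,
        show algebraMap (SA A0 s) K x = algebraMap (SA A0 t) K (trA A0 h x) from
          congrArg (algebraMap RS K) (RingHom.congr_fun (shU_trA A0 h) x).symm]
      show algebraMap (SA A0 t) (SB A0 C0 ψ j t) _ ⊗ₜ (1 : K) = _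
      simp only [Algebra.algebraMap_eq_smul_one, TensorProduct.smul_tmul])

theorem trZ_tmul (h : s ≤ t) (b : SB A0 C0 ψ j s) (k : K) :
    trZ A0 C0 ψ j K s t h (b ⊗ₜ k) = trB A0 C0 ψ j s t h b ⊗ₜ k :=
  (liftRing_tmul _ _ _ b k).trans
    ((Algebra.TensorProduct.tmul_mul_tmul _ _ _ _).trans (by rw [mul_one, one_mul]))

instance directedZ : DirectedSystem (ZK A0 C0 ψ j K) (fun s t h => trZ A0 C0 ψ j K s t h) where
  map_self s x := by
    induction x using TensorProduct.induction_on with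
    | zero => exact map_zero _
    | tmul b k => rw [trZ_tmul, DirectedSystem.map_self' (f := fun s t h => trB A0 C0 ψ j s t h)]
    | add a b ha hb => rw [map_add, ha, hb]
  map_map v t s hst htv x := by
    induction x using TensorProduct.induction_on with
    | zero => simp
    | tmul b k => rw [trZ_tmul, trZ_tmul, trZ_tmul, DirectedSystem.map_map' (f := fun s t h => trB A0 C0 ψ j s t h)]
    | add a b ha hb => rw [map_add, map_add, ha, hb, map_add]

/-- The colimit of the fibres. -/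
abbrev ZLim : Type u := Ring.DirectLimit (ZK A0 C0 ψ j K) (fun s t h => trZ A0 C0 ψ j K s t h)

/-- The maps to the colimit of the fibres. -/
noncomputable def ofZ (s : Finset RS) : ZK A0 C0 ψ j K s →+* ZLim A0 C0 ψ j K :=
  Ring.DirectLimit.of (ZK A0 C0 ψ j K) (fun s t h => trZ A0 C0 ψ j K s t h) s

theorem ofZ_trZ (h : s ≤ t) (x : ZK A0 C0 ψ j K s) :
    ofZ A0 C0 ψ j K t (trZ A0 C0 ψ j K s t h x) = ofZ A0 C0 ψ j K s x := Ring.DirectLimit.of_f h x

/-- The limit into the fibres. -/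
noncomputable def tZ : TLim A0 C0 ψ j →+* ZLim A0 C0 ψ j K :=
  Ring.DirectLimit.lift (SB A0 C0 ψ j) (fun s t h => trB A0 C0 ψ j s t h) (ZLim A0 C0 ψ j K)
    (fun s => (ofZ A0 C0 ψ j K s).comp Algebra.TensorProduct.includeLeftRingHom)
    fun _ _ h x => by
      show ofZ A0 C0 ψ j K _ (trB A0 C0 ψ j _ _ h x ⊗ₜ 1) = ofZ A0 C0 ψ j K _ (x ⊗ₜ 1)
      rw [← trZ_tmul, ofZ_trZ]

theorem tZ_ofT (s : Finset RS) (x : SB A0 C0 ψ j s) :
    tZ A0 C0 ψ j K (ofT A0 C0 ψ j s x) = ofZ A0 C0 ψ j K s (x ⊗ₜ 1) := by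
  simp only [tZ, ofT, Ring.DirectLimit.lift_of]
  rfl

/-- The field into the fibres. -/
noncomputable def kZ : K →+* ZLim A0 C0 ψ j K :=
  (ofZ A0 C0 ψ j K ∅).comp Algebra.TensorProduct.includeRight.toRingHom

theorem kZ_eq (s : Finset RS) (k : K) : kZ A0 C0 ψ j K k = ofZ A0 C0 ψ j K s (1 ⊗ₜ k) := by
  show ofZ A0 C0 ψ j K ∅ (1 ⊗ₜ k) = _
  rw [← ofZ_trZ A0 C0 ψ j K (Finset.empty_subset s : (∅ : Finset RS) ≤ s), trZ_tmul, map_one]

theorem tZ_iotaT (r : RS) : tZ A0 C0 ψ j K (iotaT A0 C0 ψ j r) = kZ A0 C0 ψ j K (algebraMap RS K r) := by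
  let a : SubA A0 ({r} : Finset RS) := ⟨r, Algebra.subset_adjoin (Finset.mem_coe.2 (Finset.mem_singleton_self r))⟩
  have h1 : shU (phiA A0 {r}) (toSH (phiA A0 {r}) a) = r := RingHom.congr_fun (shU_comp (phiA A0 {r})) a
  conv_lhs => rw [← h1, ← RingHom.comp_apply (iotaT A0 C0 ψ j), iotaT_shU, RingHom.comp_apply, tZ_ofT]
  rw [kZ_eq A0 C0 ψ j K {r}]
  refine congrArg _ ?_
  show algebraMap (SA A0 {r}) (SB A0 C0 ψ j {r}) _ ⊗ₜ (1 : K) = _
  rw [Algebra.algebraMap_eq_smul_one, TensorProduct.smul_tmul, ← Algebra.algebraMap_eq_smul_one]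
  exact congrArg (fun y => (1 : SB A0 C0 ψ j {r}) ⊗ₜ[SA A0 {r}] algebraMap RS K y) h1

theorem eq_zero_or_one_of_section (hred : ∀ (L : Type u) [Field L] [Algebra A0 L], _root_.IsReduced (C0 ⊗[A0] L))
    [Algebra RS RX] (hψ : algebraMap RS RX = ψ.toRingHom) (ρ : RX →+* TLim A0 C0 ψ j)
    (h1 : (piT A0 C0 ψ j).comp ρ = RingHom.id RX) (h2 : ρ.comp ψ.toRingHom = iotaT A0 C0 ψ j)
    {e : RX ⊗[RS] K} (he : IsIdempotentElem e) : e = 0 ∨ e = 1 := by
  have hcomm : ((tZ A0 C0 ψ j K).comp ρ).comp (algebraMap RS RX) =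
      (kZ A0 C0 ψ j K).comp (algebraMap RS K) := by
    rw [hψ, RingHom.comp_assoc, h2]
    exact RingHom.ext (tZ_iotaT A0 C0 ψ j K)
  let Φ : RX ⊗[RS] K →+* ZLim A0 C0 ψ j K := liftRing ((tZ A0 C0 ψ j K).comp ρ) (kZ A0 C0 ψ j K) hcomm
  let g : ∀ s, ZK A0 C0 ψ j K s →+* RX ⊗[RS] K := fun s =>
    liftRing (Algebra.TensorProduct.includeLeftRingHom.comp (shU (phiB A0 C0 ψ j s)))
      Algebra.TensorProduct.includeRight.toRingHom (by
        refine RingHom.ext fun x => ?_
        show shU (phiB A0 C0 ψ j s) (alpha A0 C0 ψ j s x) ⊗ₜ (1 : K) =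
          (1 : RX) ⊗ₜ algebraMap RS K (shU (phiA A0 s) x)
        rw [← RingHom.comp_apply, shU_alpha, RingHom.comp_apply, ← hψ]
        simp only [Algebra.algebraMap_eq_smul_one, TensorProduct.smul_tmul])
  let Ψ : ZLim A0 C0 ψ j K →+* RX ⊗[RS] K :=
    Ring.DirectLimit.lift (ZK A0 C0 ψ j K) (fun s t h => trZ A0 C0 ψ j K s t h) (RX ⊗[RS] K) g fun s t h x => by
      refine RingHom.congr_fun (f := (g t).comp (trZ A0 C0 ψ j K s t h)) (tensor_ringHom_ext ?_ ?_) x
      · intro b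
        simp only [g, RingHom.comp_apply, trZ_tmul, liftRing_tmul]
        rw [← RingHom.comp_apply (shU (phiB A0 C0 ψ j t)), shU_trB]
      · intro k
        simp only [g, RingHom.comp_apply, trZ_tmul, liftRing_tmul, map_one]
  have hΨ : ∀ s (z : ZK A0 C0 ψ j K s), Ψ (ofZ A0 C0 ψ j K s z) = g s z := fun s z => by
    simp only [Ψ, ofZ, Ring.DirectLimit.lift_of]
  have hΨt : ∀ x, Ψ (tZ A0 C0 ψ j K x) = piT A0 C0 ψ j x ⊗ₜ 1 := fun x => by
    obtain ⟨s, y, rfl⟩ := Ring.DirectLimit.exists_of x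
    show Ψ (tZ A0 C0 ψ j K (ofT A0 C0 ψ j s y)) = piT A0 C0 ψ j (ofT A0 C0 ψ j s y) ⊗ₜ 1
    rw [tZ_ofT, hΨ, ← RingHom.comp_apply (piT A0 C0 ψ j), piT_ofT]
    simp only [g, liftRing_tmul, map_one, mul_one, RingHom.comp_apply, Algebra.TensorProduct.includeLeftRingHom_apply]
  have hΨΦ : Ψ.comp Φ = RingHom.id _ := by
    refine tensor_ringHom_ext (fun x => ?_) (fun k => ?_)
    · show Ψ (Φ (x ⊗ₜ 1)) = x ⊗ₜ 1
      rw [liftRing_tmul, map_one, mul_one]
      exact (hΨt (ρ x)).trans (congrArg (· ⊗ₜ (1 : K)) (RingHom.congr_fun h1 x))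
    · show Ψ (Φ (1 ⊗ₜ k)) = 1 ⊗ₜ k
      rw [liftRing_tmul, map_one, one_mul, kZ_eq A0 C0 ψ j K ∅, hΨ]
      simp only [g, liftRing_tmul, map_one, one_mul]
      rfl
  obtain ⟨s, w, hw⟩ := Ring.DirectLimit.exists_of (Φ e)
  have hz : ofZ A0 C0 ψ j K s (w * w - w) = 0 := by
    show Ring.DirectLimit.of _ _ s (w * w - w) = 0
    rw [map_sub, map_mul, hw, ← map_mul, he.eq, sub_self]
  obtain ⟨t, hst, ht⟩ := Ring.DirectLimit.of.zero_exact (f' := fun s t h => trZ A0 C0 ψ j K s t h) hz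
  have hwt : IsIdempotentElem (trZ A0 C0 ψ j K s t hst w) := by
    rw [map_sub, map_mul, sub_eq_zero] at ht
    exact ht
  have he' : e = g t (trZ A0 C0 ψ j K s t hst w) := by
    rw [← hΨ, ofZ_trZ]
    show e = Ψ (Ring.DirectLimit.of _ _ s w)
    rw [hw, ← RingHom.comp_apply, hΨΦ, RingHom.id_apply]
  rcases eq_zero_or_one_stage A0 C0 ψ j hred t K hwt with h | h
  · exact Or.inl (by rw [he', h, map_zero])
  · exact Or.inr (by rw [he', h, map_one])

end Fibre

/-- Local maps of strict localizations of flat algebras with reduced fibres have connected fibres. -/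
theorem connectedSpace_tensor_of_lift [Algebra RS RX] (hψ : algebraMap RS RX = ψ.toRingHom)
    [Module.Flat RS RX] (hred : ∀ (L : Type u) [Field L] [Algebra A0 L], _root_.IsReduced (C0 ⊗[A0] L))
    (hX : ∀ (T : Type u) [CommRing T] [HenselianLocalRing T] [IsSepClosed (ResidueField T)]
      (π : T →+* RX) [IsLocalHom π] (jC : C0 →+* T) (ι : RS →+* T) [IsLocalHom ι],
      jC.comp (algebraMap A0 C0) = ι.comp (algebraMap A0 RS) → π.comp jC = j.toRingHom →
      π.comp ι = ψ.toRingHom → ∃ ρ : RX →+* T, π.comp ρ = RingHom.id RX ∧ ρ.comp ψ.toRingHom = ι)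
    (K : Type u) [Field K] [Algebra RS K] : ConnectedSpace (PrimeSpectrum (K ⊗[RS] RX)) := by
  haveI : IsLocalHom (algebraMap RS RX) := hψ ▸ ‹IsLocalHom ψ.toRingHom›
  haveI : Module.FaithfullyFlat RS RX := Module.FaithfullyFlat.of_flat_of_isLocalHom
  haveI : Nontrivial (K ⊗[RS] RX) := inferInstance
  obtain ⟨ρ, h1, h2⟩ := hX (TLim A0 C0 ψ j) (piT A0 C0 ψ j) (jT A0 C0 ψ j) (iotaT A0 C0 ψ j)
    (jT_algebraMap A0 C0 ψ j) (piT_jT A0 C0 ψ j) (piT_iotaT A0 C0 ψ j)
  refine H9Hens.connectedSpace_of_idempotents (R := K ⊗[RS] RX) fun e he => ?_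
  let c := (Algebra.TensorProduct.comm RS K RX).toRingEquiv
  rcases eq_zero_or_one_of_section A0 C0 ψ j K hred hψ ρ h1 h2 (he.map c) with h | h
  · exact Or.inl ((map_eq_zero_iff _ c.injective).1 h)
  · exact Or.inr ((map_eq_one_iff _ c.injective).1 h)

end Groth.Agent.H11SetBC
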