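import Groth.Agent.H11SetBC.ConnPairs
import Groth.Agent.H11SetBC.Avoid
import Groth.Agent.H7Lim.Topology

/-!
# Local descent data along open morphisms whose strict localizations have connected geometric fibres
-/

set_option autoImplicit false
set_option linter.style.haveILetI false
set_option linter.unusedSectionVars false
set_option backward.isDefEq.respectTransparency false
set_option backward.isDefEq.respectTransparency.types false

universe u

open CategoryTheory CategoryTheory.Limits AlgebraicGeometry Opposite TopologicalSpace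
open scoped Groth.Agent.H18Et

namespace Groth.Agent.H11SetBC.SubDesc

open H15Site.SetDescent H18Et H15Site.EffDesc H18PBC H18PBC.Fibre Groth.Agent.H12AlgSp.EtStrictHens

section Stages

variable {S0 T0 : Scheme.{u}} [IsAffine S0] [IsAffine T0] (g : T0 ⟶ S0) {Ω : Type u} [Field Ω] [IsSepClosed Ω]
  (η : Spec (CommRingCat.of Ω) ⟶ S0)

instance isAffine_stage (i : Nbhd.NI η) : IsAffine ((LimSec.sch (TX g η)).obj i) := by
  haveI : IsAffine ((Nbhd.nb η).obj i).left := Nbhd.isAffine_nb η i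
  haveI : IsAffineHom g := isAffineHom_of_isAffine g
  show IsAffine (pullback ((Nbhd.nb η).obj i).hom g)
  haveI : IsAffine ((𝟭 Scheme.{u}).obj ((Nbhd.nb η).obj i).left) := ‹IsAffine ((Nbhd.nb η).obj i).left›
  haveI : IsAffineHom (pullback.fst ((Nbhd.nb η).obj i).hom g) := MorphismProperty.pullback_fst _ _ inferInstance
  exact isAffine_of_isAffineHom (pullback.fst ((Nbhd.nb η).obj i).hom g)

theorem isAffineHom_stage {i k : Nbhd.NI η} (a : k ⟶ i) : IsAffineHom ((LimSec.sch (TX g η)).map a) :=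
  isAffineHom_of_isAffine _

theorem isAffine_XA : IsAffine (XA g η) := by
  haveI : IsAffineHom g := isAffineHom_of_isAffine g
  exact isAffine_of_isAffineHom (pullback.fst (Nbhd.toBase η) g)

/-- Base change of a morphism over the base to a stage. -/
noncomputable def stageMap {T1 : Scheme.{u}} (g1 : T1 ⟶ S0) (q : T1 ⟶ T0) (hq : q ≫ g = g1) (i : Nbhd.NI η) :
    ((TX g1 η).obj i).left ⟶ ((TX g η).obj i).left :=
  pullback.map _ g1 _ g (𝟙 _) q (𝟙 _) (by simp) (by simp [hq])

/-- Base change of a morphism over the base to the strictly local scheme. -/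
noncomputable def limMap {T1 : Scheme.{u}} (g1 : T1 ⟶ S0) (q : T1 ⟶ T0) (hq : q ≫ g = g1) : XA g1 η ⟶ XA g η :=
  pullback.map _ g1 _ g (𝟙 _) q (𝟙 _) (by simp) (by simp [hq])

theorem piX_stageMap {T1 : Scheme.{u}} (g1 : T1 ⟶ S0) (q : T1 ⟶ T0) (hq : q ≫ g = g1) (i : Nbhd.NI η) :
    piX g1 η i ≫ stageMap g η g1 q hq i = limMap g η g1 q hq ≫ piX g η i := by
  refine pullback.hom_ext ?_ ?_
  · exact (by simp [stageMap, limMap, piX] : (piX g1 η i ≫ stageMap g η g1 q hq i) ≫ pullback.fst _ _ =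
      (limMap g η g1 q hq ≫ piX g η i) ≫ pullback.fst _ _)
  · exact (by simp [stageMap, limMap, piX] : (piX g1 η i ≫ stageMap g η g1 q hq i) ≫ pullback.snd _ _ =
      (limMap g η g1 q hq ≫ piX g η i) ≫ pullback.snd _ _)

theorem map_stageMap {T1 : Scheme.{u}} (g1 : T1 ⟶ S0) (q : T1 ⟶ T0) (hq : q ≫ g = g1) {i k : Nbhd.NI η}
    (a : k ⟶ i) :
    (LimSec.sch (TX g1 η)).map a ≫ stageMap g η g1 q hq i = stageMap g η g1 q hq k ≫ (LimSec.sch (TX g η)).map a := by
  refine pullback.hom_ext ?_ ?_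
  · refine (Category.assoc _ _ _).trans ((congrArg (_ ≫ ·) ((pullback.lift_fst _ _ _).trans (Category.comp_id _))).trans ?_)
    refine (bc_map_fst g1 ((Nbhd.nb η).map a)).trans ?_
    refine Eq.trans ?_ ((Category.assoc _ _ _).trans (congrArg (_ ≫ ·) (bc_map_fst g ((Nbhd.nb η).map a)))).symm
    exact (congrArg (· ≫ ((Nbhd.nb η).map a).left) ((pullback.lift_fst _ _ _).trans (Category.comp_id _)).symm).trans
      (Category.assoc _ _ _)
  · refine (Category.assoc _ _ _).trans ((congrArg ((LimSec.sch (TX g1 η)).map a ≫ ·) (pullback.lift_snd _ _ _ :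
      stageMap g η g1 q hq i ≫ pullback.snd ((Nbhd.nb η).obj i).hom g = pullback.snd _ g1 ≫ q)).trans ?_)
    refine (Category.assoc _ _ _).symm.trans ((congrArg (· ≫ q) (Over.w ((EtCoh.bc g1).map ((Nbhd.nb η).map a)).hom :
      (LimSec.sch (TX g1 η)).map a ≫ pullback.snd ((Nbhd.nb η).obj i).hom g1 = pullback.snd _ g1)).trans ?_)
    refine (pullback.lift_snd _ _ _ :
      stageMap g η g1 q hq k ≫ pullback.snd ((Nbhd.nb η).obj k).hom g = pullback.snd _ g1 ≫ q).symm.trans ?_
    refine (congrArg (stageMap g η g1 q hq k ≫ ·) (Over.w ((EtCoh.bc g).map ((Nbhd.nb η).map a)).hom :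
      (LimSec.sch (TX g η)).map a ≫ pullback.snd ((Nbhd.nb η).obj i).hom g = pullback.snd _ g)).symm.trans ?_
    exact (Category.assoc _ _ _).symm

end Stages

variable {X' X : Scheme.{u}} {f : X' ⟶ X} {F' : EtDesc.Sh X'}
  {φ : (EtDesc.pullSh (pullback.fst f f)).obj F' ≅ (EtDesc.pullSh (pullback.snd f f)).obj F'}
  (hφ : EtDesc.IsCocycle F' φ)

include hφ in
set_option maxHeartbeats 1600000 in
/-- Near a geometric point the datum is compatible on the pairs of an open subset of an etale neighbourhood. -/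
theorem exists_open_rel {T0 S0 : Scheme.{u}} [IsAffine T0] [IsAffine S0] (g : T0 ⟶ S0) (j : S0 ⟶ X) {U : X'.Etale} (σ : F'.obj.obj (op U)) (e : T0 ⟶ U.left)
    (w : (e ≫ U.hom) ≫ f = g ≫ j) {Ω : Type u} [Field Ω] [IsSepClosed Ω] (l0 : Spec (CommRingCat.of Ω) ⟶ T0)
    {η : Spec (CommRingCat.of Ω) ⟶ S0} (u : Spec (CommRingCat.of Ω) ⟶ XA g η) (hu₂ : u ≫ pullback.snd _ _ = l0)
    (hgen : ∀ (Ω' : Type u) [Field Ω'] [IsAlgClosed Ω'] (t t' : Spec (CommRingCat.of Ω') ⟶ XA g η),
      t ≫ pullback.fst _ _ = t' ≫ pullback.fst _ _ → t.base default ⤳ u.base default →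
      t'.base default ⤳ u.base default →
      Rel φ (⟨U, (t ≫ pullback.snd _ _) ≫ e, σ⟩ : PS F' Ω') ⟨U, (t' ≫ pullback.snd _ _) ≫ e, σ⟩) :
    ∃ (W : S0.Etale) (O : (pullback W.hom g).Opens) (z : Spec (CommRingCat.of Ω) ⟶ pullback W.hom g),
      z.base default ∈ O ∧ z ≫ pullback.snd _ _ = l0 ∧
      ∀ (Ω' : Type u) [Field Ω'] [IsAlgClosed Ω'] (y y' : Spec (CommRingCat.of Ω') ⟶ pullback W.hom g),
        y.base default ∈ O → y'.base default ∈ O → y ≫ pullback.fst _ _ = y' ≫ pullback.fst _ _ →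
          Rel φ (⟨U, (y ≫ pullback.snd _ _) ≫ e, σ⟩ : PS F' Ω') ⟨U, (y' ≫ pullback.snd _ _) ≫ e, σ⟩ := by
  let g2 : pullback g g ⟶ S0 := pullback.fst g g ≫ g
  haveI : IsAffineHom g := isAffineHom_of_isAffine g
  haveI : IsAffine (pullback g g) := isAffine_of_isAffineHom (pullback.fst g g)
  obtain ⟨L, hL⟩ := exists_relLocus φ σ σ (pullback.fst g g ≫ e) (pullback.snd g g ≫ e) (by
    simp only [Category.assoc] at w ⊢
    rw [w]
    exact pullback.condition_assoc _)
  let q₁ := limMap g η g2 (pullback.fst g g) rfl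
  let q₂ := limMap g η g2 (pullback.snd g g) pullback.condition.symm
  haveI := isAffine_XA g η
  haveI := isAffine_XA g2 η
  obtain ⟨a, hua, ha⟩ := exists_basicOpen_avoid q₁ q₂ (u.base default) (pullback.snd (Nbhd.toBase η) g2 ⁻¹ᵁ L) (by
    intro x h1 h2
    obtain ⟨Ω', _, _, t, rfl⟩ : ∃ (Ω' : Type u) (_ : Field Ω') (_ : IsAlgClosed Ω')
        (t : Spec (CommRingCat.of Ω') ⟶ XA g2 η), t.base default = x :=
      ⟨AlgebraicClosure ((XA g2 η).residueField x), inferInstance, inferInstance,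
        Spec.map (CommRingCat.ofHom (algebraMap ((XA g2 η).residueField x) _)) ≫ (XA g2 η).fromSpecResidueField x,
        (Scheme.Hom.comp_apply _ _ _).trans ((XA g2 η).fromSpecResidueField_apply x _)⟩
    have r := hgen Ω'
      (t ≫ q₁) (t ≫ q₂) (by simp [q₁, q₂, limMap]) (by rw [Scheme.Hom.comp_apply]; exact h1)
      (by rw [Scheme.Hom.comp_apply]; exact h2)
    show (pullback.snd (Nbhd.toBase η) g2).base (t.base default) ∈ L
    rw [← Scheme.Hom.comp_apply]
    refine (hL Ω' _).1 ?_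
    simpa [q₁, q₂, limMap] using r)
  haveI : ∀ (i k : Nbhd.NI η) (m : i ⟶ k), IsAffineHom ((LimSec.sch (TX g2 η)).map m) := fun _ _ m =>
    isAffineHom_stage g2 η m
  haveI : ∀ (i k : Nbhd.NI η) (m : i ⟶ k), IsAffineHom ((LimSec.sch (TX g η)).map m) := fun _ _ m =>
    isAffineHom_stage g η m
  obtain ⟨i, ai, hai⟩ := exists_appTop_π_eq_of_isAffine_of_isLimit (LimSec.sch (TX g η)) (coneX g η)
    (isLimitConeX g η) a
  let D := (LimSec.sch (TX g η)).obj i
  let s₁ := stageMap g η g2 (pullback.fst g g) rfl i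
  let s₂ := stageMap g η g2 (pullback.snd g g) pullback.condition.symm i
  let P : ((LimSec.sch (TX g2 η)).obj i).Opens :=
    ((LimSec.sch (TX g2 η)).obj i).basicOpen (s₁.appTop ai * s₂.appTop ai)
  have hP : P = s₁ ⁻¹ᵁ D.basicOpen ai ⊓ s₂ ⁻¹ᵁ D.basicOpen ai := by
    show Scheme.basicOpen _ _ = _
    rw [Scheme.basicOpen_mul]
    exact congrArg₂ (· ⊓ ·) (Scheme.preimage_basicOpen_top s₁ ai).symm (Scheme.preimage_basicOpen_top s₂ ai).symm
  let E : Set ((LimSec.sch (TX g2 η)).obj i) :=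
    (P : Set _) ∩ ((pullback.snd ((Nbhd.nb η).obj i).hom g2).base ⁻¹' (L : Set _)ᶜ)
  have hE : H7Lim.QCImage E :=
    (H7Lim.qcImage_of_isOpen_isCompact P.2 ((isAffineOpen_top _).basicOpen _).isCompact).inter_isClosed
      (L.isOpen.isClosed_compl.preimage (pullback.snd ((Nbhd.nb η).obj i).hom g2).continuous)
  have hDa : piX g η i ⁻¹ᵁ D.basicOpen ai = (XA g η).basicOpen a :=
    (Scheme.preimage_basicOpen_top (piX g η i) ai).trans (congrArg (XA g η).basicOpen hai)
  obtain ⟨k, m, hk⟩ := hE.exists_preimage_eq_empty (isLimitConeX g2 η) (by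
    refine Set.eq_empty_of_forall_notMem fun x hx => ?_
    obtain ⟨hxP, hxL⟩ := hx
    rw [hP] at hxP
    have hq : ∀ (q : pullback g g ⟶ T0) (hq : q ≫ g = g2),
        (stageMap g η g2 q hq i) ((coneX g2 η).π.app i x) ∈ D.basicOpen ai →
        limMap g η g2 q hq x ∈ (XA g η).basicOpen a := fun q hq hm => by
      rw [← hDa]
      show piX g η i (limMap g η g2 q hq x) ∈ D.basicOpen ai
      rw [← Scheme.Hom.comp_apply, ← piX_stageMap]
      exact hm
    have h := ha x (hq _ rfl hxP.1) (hq _ pullback.condition.symm hxP.2)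
    refine hxL ?_
    show (pullback.snd ((Nbhd.nb η).obj i).hom g2) (piX g2 η i x) ∈ L
    exact (congrArg (· ∈ L) (congrArg (fun q : XA g2 η ⟶ pullback g g => q x) (coneX_hom g2 η i))).mpr h)
  let W := (Nbhd.nb η).obj k
  let O : (pullback W.hom g).Opens := ((LimSec.sch (TX g η)).map m) ⁻¹ᵁ D.basicOpen ai
  refine ⟨W, O, u ≫ piX g η k, ?_, ?_, fun Ω' _ _ y y' hy hy' hyy => ?_⟩
  · show (LimSec.sch (TX g η)).map m ((u ≫ piX g η k).base default) ∈ D.basicOpen ai
    rw [Scheme.Hom.comp_apply]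
    have e : (LimSec.sch (TX g η)).map m (piX g η k (u.base default)) = piX g η i (u.base default) :=
      congrArg (fun q : XA g η ⟶ D => q (u.base default)) ((coneX g η).w m)
    exact (congrArg (· ∈ D.basicOpen ai) e).mpr (hDa.ge hua)
  · exact (Category.assoc _ _ _).trans ((congrArg (u ≫ ·) (coneX_hom g η k)).trans hu₂)
  have hgg : (y ≫ pullback.snd W.hom g) ≫ g = (y' ≫ pullback.snd W.hom g) ≫ g := by
    simp only [Category.assoc, ← pullback.condition]
    simp only [← Category.assoc, hyy]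
  let r : Spec (CommRingCat.of Ω') ⟶ pullback g g := pullback.lift _ _ hgg
  let x : Spec (CommRingCat.of Ω') ⟶ pullback W.hom g2 := pullback.lift (y ≫ pullback.fst _ _) r (by
    rw [Category.assoc, pullback.condition, ← Category.assoc]
    exact ((congrArg (· ≫ g) (pullback.lift_fst _ _ _)).symm.trans (Category.assoc r _ _)))
  have hx₁ : x ≫ stageMap g η g2 (pullback.fst g g) rfl k = y :=
    pullback.hom_ext (by simp [stageMap, x, W]) (by simp [stageMap, x, r, W])
  have hx₂ : x ≫ stageMap g η g2 (pullback.snd g g) pullback.condition.symm k = y' :=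
    pullback.hom_ext (by simp [stageMap, x, W, hyy]) (by simp [stageMap, x, r, W])
  have hxP : (LimSec.sch (TX g2 η)).map m (x.base default) ∈ P := by
    rw [hP]
    constructor
    · have e : s₁ ((LimSec.sch (TX g2 η)).map m (x.base default)) =
          (LimSec.sch (TX g η)).map m (y.base default) :=
        (congrArg (fun r : (LimSec.sch (TX g2 η)).obj k ⟶ D => r (x.base default)) (map_stageMap g η g2 (pullback.fst g g) rfl m)).trans
          (congrArg (fun r : Spec (CommRingCat.of Ω') ⟶ pullback W.hom g => (LimSec.sch (TX g η)).map m (r.base default)) hx₁)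
      exact (congrArg (· ∈ D.basicOpen ai) e).mpr hy
    · have e : s₂ ((LimSec.sch (TX g2 η)).map m (x.base default)) =
          (LimSec.sch (TX g η)).map m (y'.base default) :=
        (congrArg (fun r : (LimSec.sch (TX g2 η)).obj k ⟶ D => r (x.base default)) (map_stageMap g η g2 (pullback.snd g g) pullback.condition.symm m)).trans
          (congrArg (fun r : Spec (CommRingCat.of Ω') ⟶ pullback W.hom g => (LimSec.sch (TX g η)).map m (r.base default)) hx₂)
      exact (congrArg (· ∈ D.basicOpen ai) e).mpr hy'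
  have hrL : r.base default ∈ L := by
    by_contra hn
    refine Set.eq_empty_iff_forall_notMem.1 hk (x.base default) ⟨hxP, ?_⟩
    show (pullback.snd ((Nbhd.nb η).obj i).hom g2) ((LimSec.sch (TX g2 η)).map m (x.base default)) ∉ L
    have e₁ := congrArg (fun q : (LimSec.sch (TX g2 η)).obj k ⟶ pullback g g => q (x.base default))
      (Over.w ((EtCoh.bc g2).map ((Nbhd.nb η).map m)).hom)
    have e₂ := congrArg (fun q : Spec (CommRingCat.of Ω') ⟶ pullback g g => q.base default)
      (show x ≫ pullback.snd W.hom g2 = r from pullback.lift_snd _ _ _)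
    refine (congrArg (fun q => ¬ q ∈ L) (e₁.trans e₂)).mpr ?_
    exact hn
  have := (hL Ω' r).2 hrL
  simpa [r] using this

include hφ in
set_option maxHeartbeats 1600000 in
/-- **Local data along universally open morphisms with connected fibres of strict localizations.** -/
theorem hasLocalData_of_subConn (ho : UniversallyOpen f)
    (H : ∀ X0 : X.Opens, SubConnFibres (pullback.snd f X0.ι)) : HasLocalData φ := by
  intro Ω _ _ p
  obtain ⟨U, l, σ⟩ := p
  obtain ⟨_, ⟨X0, hX0, rfl⟩, hx0, -⟩ := X.isBasis_affineOpens.exists_subset_of_mem_open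
    (Set.mem_univ (((l ≫ U.hom) ≫ f).base default)) isOpen_univ
  let X0 : X.Opens := X0
  let q : U.left ⟶ X := U.hom ≫ f
  obtain ⟨_, ⟨T0', hT0, rfl⟩, ht0, hT0X⟩ := U.left.isBasis_affineOpens.exists_subset_of_mem_open
    (show l.base default ∈ (q.base ⁻¹' (X0 : Set X)) from by
      show q.base (l.base default) ∈ X0
      rw [← Scheme.Hom.comp_apply, show l ≫ q = (l ≫ U.hom) ≫ f from (Category.assoc _ _ _).symm]
      exact hx0) (X0.isOpen.preimage q.continuous)
  let T0 : U.left.Opens := T0'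
  haveI : IsAffine T0.toScheme := hT0
  haveI : IsAffine X0.toScheme := hX0
  haveI : Etale U.hom := U.prop
  let g0 := q.resLE X0 T0 hT0X
  have hg0 : g0 ≫ X0.ι = T0.ι ≫ U.hom ≫ f := Scheme.Hom.resLE_comp_ι _ _
  let k0 : T0.toScheme ⟶ pullback f X0.ι := pullback.lift (T0.ι ≫ U.hom) g0
    ((Category.assoc _ _ _).trans hg0.symm)
  haveI : Etale (k0 ≫ pullback.fst f X0.ι) := by
    rw [show k0 ≫ pullback.fst f X0.ι = T0.ι ≫ U.hom from pullback.lift_fst _ _ _]; infer_instance
  haveI : Etale k0 := Etale.of_comp k0 (pullback.fst f X0.ι)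
  have hlr : Set.range l.base ⊆ Set.range T0.ι.base := by
    rintro _ ⟨q, rfl⟩
    rw [Subsingleton.elim q default, Scheme.Opens.range_ι]
    exact ht0
  let l0 := IsOpenImmersion.lift T0.ι l hlr
  have hl0 : l0 ≫ T0.ι = l := IsOpenImmersion.lift_fac _ _ _
  let f0 := pullback.snd f X0.ι
  let g := k0 ≫ f0
  haveI := ho
  haveI : UniversallyOpen f0 := MorphismProperty.pullback_snd _ _ ho
  haveI : UniversallyOpen g := inferInstanceAs (UniversallyOpen (k0 ≫ f0))
  have w : (T0.ι ≫ U.hom) ≫ f = g ≫ X0.ι := by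
    rw [show g = g0 from pullback.lift_snd _ _ _, hg0, Category.assoc]
  obtain ⟨W, O, z, hzO, hz, hrel⟩ := exists_open_rel (φ := φ) hφ g X0.ι σ T0.ι w l0 (η := (l0 ≫ k0) ≫ f0)
    (pullback.lift (Spec.map (valueHom ((l0 ≫ k0) ≫ f0))) l0
      ((Nbhd.valueHom_toBase _).trans (Category.assoc _ _ _)))
    (pullback.lift_snd _ _ _)
    (fun Ω' _ _ t t' h ht ht' => rel_of_generalization hφ k0 f0 (H X0) X0.ι σ T0.ι w l0 _
      (pullback.lift_fst _ _ _) (pullback.lift_snd _ _ _) t t' h ht ht')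
  haveI : Etale W.hom := W.prop
  let π := pullback.fst W.hom g
  haveI : UniversallyOpen π := MorphismProperty.pullback_fst _ _ ‹UniversallyOpen g›
  let V' : W.left.Opens := ⟨π.base '' O, π.isOpenMap _ O.2⟩
  have hOV : O ≤ π ⁻¹ᵁ V' := fun x hx => ⟨x, hx, rfl⟩
  let h := π.resLE V' O hOV
  haveI : UniversallyOpen h := by
    show UniversallyOpen ((pullback W.hom g).homOfLE hOV ≫ π ∣_ V')
    haveI : UniversallyOpen (π ∣_ V') := IsZariskiLocalAtTarget.restrict ‹UniversallyOpen π› V'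
    infer_instance
  haveI : Surjective h := ⟨fun v => by
    obtain ⟨x, hx, hxv⟩ := v.2
    refine ⟨⟨x, hx⟩, Subtype.ext ?_⟩
    exact (congrArg (fun q : O.toScheme ⟶ W.left => q.base ⟨x, hx⟩) (Scheme.Hom.resLE_comp_ι π hOV)).trans hxv⟩
  have hzr : Set.range z.base ⊆ Set.range O.ι.base := by
    rintro _ ⟨q, rfl⟩
    rw [Subsingleton.elim q default, Scheme.Opens.range_ι]
    exact hzO
  let zs := IsOpenImmersion.lift O.ι z hzr
  have hzs : zs ≫ O.ι = z := IsOpenImmersion.lift_fac _ _ _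
  let V : X.Etale := Scheme.Etale.mk (V'.ι ≫ W.hom ≫ X0.ι)
  let a : O.toScheme ⟶ U.left := (O.ι ≫ pullback.snd W.hom g) ≫ T0.ι
  have hc : (a ≫ U.hom) ≫ f = h ≫ V.hom := by
    show ((((O.ι ≫ pullback.snd W.hom g) ≫ T0.ι) ≫ U.hom) ≫ f) = h ≫ V'.ι ≫ W.hom ≫ X0.ι
    simp only [Category.assoc] at w ⊢
    rw [w, Scheme.Hom.resLE_comp_ι_assoc, pullback.condition_assoc]
  have hzl : zs ≫ a = l := by
    show zs ≫ (O.ι ≫ pullback.snd W.hom g) ≫ T0.ι = l
    rw [← Category.assoc, ← Category.assoc zs, hzs, hz, hl0]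
  refine ⟨V, zs ≫ h, ?_, O.toScheme, h, inferInstance, inferInstance, U, σ, a, hc,
    fun Ω' _ _ y y' hyy => ?_, Ω, inferInstance, inferInstance, 𝟙 _, zs, (Category.id_comp _).symm, ?_⟩
  · show (zs ≫ h) ≫ V.hom = (l ≫ U.hom) ≫ f
    refine (Category.assoc _ _ _).trans ((congrArg (zs ≫ ·) hc).symm.trans ?_)
    simp only [← Category.assoc]
    rw [hzl]
  · have m : ∀ q : Spec (CommRingCat.of Ω') ⟶ O.toScheme, (q ≫ O.ι).base default ∈ O := fun q => by
      rw [Scheme.Hom.comp_apply]; exact (q.base default).2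
    have r := hrel Ω' (y ≫ O.ι) (y' ≫ O.ι) (m y) (m y') (by
      simp only [Category.assoc, show O.ι ≫ pullback.fst W.hom g = h ≫ V'.ι from
        (Scheme.Hom.resLE_comp_ι π hOV).symm, reassoc_of% hyy])
    simpa [a] using r
  · show Rel φ (⟨U, zs ≫ a, σ⟩ : PS F' Ω) ⟨U, 𝟙 _ ≫ l, σ⟩
    rw [hzl, Category.id_comp]
    exact rel_refl hφ _

end Groth.Agent.H11SetBC.SubDesc
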