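import Groth.Agent.H11SetBC.FlatBC
import Groth.Agent.H18PBC.AbCompare
import Groth.Agent.H18Et.PushClosed
import Groth.Agent.H13AlgSp.EtaleLocally
import Groth.Agent.S1361

/-!
# Inverse images along flat maps with geometrically connected local factorizations preserve products
-/

set_option autoImplicit false
set_option linter.style.haveILetI false
set_option linter.unusedSectionVars false
set_option backward.isDefEq.respectTransparency false
set_option backward.isDefEq.respectTransparency.types false

universe u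

open CategoryTheory CategoryTheory.Limits AlgebraicGeometry Opposite
open scoped Groth.Agent.H18Et

namespace Groth.Agent.H11SetBC.Products

open H15Site.SetDescent H18Et H18PBC

variable {X S : Scheme.{u}} (f : X ⟶ S) [EtCoh.BCCont f] {B : S.Etale} {D : X.Etale}
  (μ : D ⟶ (EtCoh.bc f).obj B)

/-- Pullback of sections to an object over an étale object. -/
noncomputable def rel (G : EtCoh.Ab S) :
    G.obj.obj (op B) ⟶ ((EtCoh.pull f).obj G).obj.obj (op D) :=
  ((EtCoh.pullPushAdj f).unit.app G).hom.app (op B) ≫ ((EtCoh.pull f).obj G).obj.map μ.op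

theorem rel_natural {G G' : EtCoh.Ab S} (φ : G ⟶ G') (s : G.obj.obj (op B)) :
    ((EtCoh.pull f).map φ).hom.app (op D) (rel f μ G s) = rel f μ G' (φ.hom.app (op B) s) := by
  have h := congrArg (fun q : G ⟶ (EtCoh.push f).obj ((EtCoh.pull f).obj G') => q.hom.app (op B))
    ((EtCoh.pullPushAdj f).unit.naturality φ)
  refine (NatTrans.naturality_apply ((EtCoh.pull f).map φ).hom μ.op _).trans ?_
  exact congrArg (((EtCoh.pull f).obj G').obj.map μ.op) (ConcreteCategory.congr_hom h s).symm

theorem rel_bijective (G : EtCoh.Ab S) [GeometricallyConnected (μ.left ≫ pullback.fst B.hom f)]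
    (hsub : EtDesc.IsUnivSubmersive (μ.left ≫ pullback.fst B.hom f)) : Function.Bijective (rel f μ G) := by
  haveI := isIso_pullCmp f G
  have hc : Function.Bijective ((pullCmp f G).hom.app (op D)) :=
    (isIso_iff_bijective _).1 (inferInstance :
      IsIso (((sheafToPresheaf _ _).map (pullCmp f G)).app (op D)))
  have e : (rel f μ G : _ → _) = (pullCmp f G).hom.app (op D) ∘
      fun s => ((EtDesc.pullSh f).obj (und G)).obj.map μ.op (pullSect f (und G) s) := by
    funext s
    refine Eq.trans ?_ (NatTrans.naturality_apply (pullCmp f G).hom μ.op _).symm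
    exact congrArg (((EtCoh.pull f).obj G).obj.map μ.op) (pullCmp_pullSect f G s).symm
  rw [e]
  exact hc.comp (bijective_pullSect_rel f B D μ (und G) hsub)

theorem piComparison_app_bijective {ι : Type u} (F : ι → EtCoh.Ab S) (hrel : ∀ G, Function.Bijective (rel f μ G)) :
    Function.Bijective ((piComparison (EtCoh.pull f) F).hom.app (op D)) := by
  have pe : ∀ {Z : Scheme.{u}} (E : ι → EtCoh.Ab Z) (W : Z.Etale),
      IsLimit ((sheafToPresheaf Z.smallEtaleTopology AddCommGrpCat.{u + 1} ⋙
        (evaluation _ _).obj (op W)).mapCone (limit.cone (Discrete.functor E))) := fun E W =>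
    isLimitOfPreserves _ (limit.isLimit _)
  have pe' : ∀ {Z : Scheme.{u}} (E : ι → EtCoh.Ab Z) (W : Z.Etale),
      Function.Bijective (fun (x : (∏ᶜ E).obj.obj (op W)) (i : ι) => (Pi.π E i).hom.app (op W) x) := by
    intro Z E W
    have h := isLimitOfPreserves (forget AddCommGrpCat.{u + 1}) (pe E W)
    have hb := (Types.isLimit_iff_bijective_sectionOfCone _).1 ⟨h⟩
    refine ⟨fun x y hxy => hb.1 (Subtype.ext (funext fun j => congrFun hxy j.as)), fun v => ?_⟩
    obtain ⟨x, hx⟩ := hb.2 ⟨fun j => v j.as, fun {a b} g => by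
      obtain ⟨rfl⟩ := Discrete.eq_of_hom g |> fun e => (Discrete.ext e : a = b)
      simp⟩
    exact ⟨x, funext fun i => congrFun (congrArg Subtype.val hx) ⟨i⟩⟩
  refine (Function.Bijective.of_comp_iff' (pe' (fun i => (EtCoh.pull f).obj (F i)) D) _).1 ?_
  refine (Function.Bijective.of_comp_iff _ (hrel (∏ᶜ F))).1 ?_
  have e : ((fun x i => (Pi.π (fun i => (EtCoh.pull f).obj (F i)) i).hom.app (op D) x) ∘
      (piComparison (EtCoh.pull f) F).hom.app (op D)) ∘ rel f μ (∏ᶜ F) =
      (fun v : ∀ i, (F i).obj.obj (op B) => fun i => rel f μ (F i) (v i)) ∘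
        fun s i => (Pi.π F i).hom.app (op B) s := by
    funext s i
    refine Eq.trans ?_ (rel_natural f μ (Pi.π F i) s)
    exact ConcreteCategory.congr_hom (congrArg (fun q : _ ⟶ (EtCoh.pull f).obj (F i) => q.hom.app (op D))
      (piComparison_comp_π (EtCoh.pull f) F i)) (rel f μ (∏ᶜ F) s)
  rw [e]
  exact (Function.Bijective.piMap fun i => hrel (F i)).comp (pe' F B)

/-- Inverse image preserves products along flat maps with geometrically connected local factorizations. -/
theorem preservesLimitsOfShape_pull [Flat f]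
    (hcov : ∀ (U : X.Etale) (u : U.left), ∃ (U' : X.Etale) (q : U' ⟶ U) (V : S.Etale) (a : U'.left ⟶ V.left),
      u ∈ Set.range q.left.base ∧ a ≫ V.hom = U'.hom ≫ f ∧ QuasiCompact a ∧ GeometricallyConnected a)
    (ι : Type u) : PreservesLimitsOfShape (Discrete ι) (EtCoh.pull f) := by
  suffices h : ∀ F : ι → EtCoh.Ab S, PreservesLimit (Discrete.functor F) (EtCoh.pull f) from
    ⟨fun {K} => by
      haveI := h (fun i => K.obj ⟨i⟩)
      exact preservesLimit_of_iso_diagram _ (Discrete.natIsoFunctor (F := K)).symm⟩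
  intro F
  haveI : IsIso (piComparison (EtCoh.pull f) F) := by
    refine isIso_of_stalk _ fun x => ?_
    refine ⟨_, _, SeparableClosure.isSepClosed _, geomPt x, geomPt_base x, ?_⟩
    haveI : IsSepClosed (SeparableClosure (X.residueField x)) := SeparableClosure.isSepClosed _
    let η := geomPt x
    let φ := piComparison (EtCoh.pull f) F
    have hb : ∀ (U : X.Etale) (z : (Scheme.pointSmallEtale η).fiber.obj U),
        ∃ (U' : X.Etale) (q : U' ⟶ U) (z' : (Scheme.pointSmallEtale η).fiber.obj U'),
          (Scheme.pointSmallEtale η).fiber.map q z' = z ∧ Function.Bijective (φ.hom.app (op U')) := by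
      intro U z
      obtain ⟨U', q, V, a, ⟨v, hv⟩, hav, hqc, hgc⟩ := hcov U (ptOf z)
      obtain ⟨z', hz'⟩ := exists_fiber_lift q z v hv
      haveI := hqc
      haveI := hgc
      haveI := V.prop
      haveI := U'.prop
      haveI : Flat (a ≫ V.hom) := hav ▸ inferInstance
      haveI : Flat a := flat_of_comp_etale a V.hom
      let β : U' ⟶ (EtCoh.bc f).obj V :=
        MorphismProperty.Over.homMk (pullback.lift a U'.hom hav) (pullback.lift_snd _ _ _) trivial
      have hβ : β.left ≫ pullback.fst V.hom f = a := pullback.lift_fst _ _ _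
      haveI : Flat (β.left ≫ pullback.fst V.hom f) := hβ ▸ inferInstance
      haveI : QuasiCompact (β.left ≫ pullback.fst V.hom f) := hβ ▸ inferInstance
      haveI : GeometricallyConnected (β.left ≫ pullback.fst V.hom f) := hβ ▸ inferInstance
      exact ⟨U', q, z', hz', piComparison_app_bijective f β F fun G =>
        rel_bijective f β G (isUnivSubmersive_of_flat _)⟩
    let P := (EtCoh.pull f).obj (∏ᶜ F)
    let Q := (∏ᶜ fun i => (EtCoh.pull f).obj (F i) : EtCoh.Ab X)
    have gm : ∀ {U U' : X.Etale} (q : U' ⟶ U) (z' : (Scheme.pointSmallEtale η).fiber.obj U')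
        (s : P.obj.obj (op U)), germ η P U' z' (P.obj.map q.op s) =
          germ η P U ((Scheme.pointSmallEtale η).fiber.map q z') s := fun q z' s =>
      (Scheme.pointSmallEtale η).toPresheafFiber_w_apply q z' P.obj s
    have gmQ : ∀ {U U' : X.Etale} (q : U' ⟶ U) (z' : (Scheme.pointSmallEtale η).fiber.obj U')
        (s : Q.obj.obj (op U)), germ η Q U' z' (Q.obj.map q.op s) =
          germ η Q U ((Scheme.pointSmallEtale η).fiber.map q z') s := fun q z' s =>
      (Scheme.pointSmallEtale η).toPresheafFiber_w_apply q z' Q.obj s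
    have gn : ∀ (U : X.Etale) (z : (Scheme.pointSmallEtale η).fiber.obj U) (s : P.obj.obj (op U)),
        (EtCoh.stalk η).map φ (germ η P U z s) = germ η Q U z (φ.hom.app (op U) s) := fun U z s =>
      germ_naturality η φ U z s
    refine ⟨fun p p' e => ?_, fun p => ?_⟩
    · obtain ⟨W₁, z₁, s₁, rfl⟩ := germ_surjective η P p
      obtain ⟨W₂, z₂, s₂, rfl⟩ := germ_surjective η P p'
      obtain ⟨⟨W, z⟩, ⟨k₁, hk₁⟩, ⟨k₂, hk₂⟩, -⟩ := IsCofilteredOrEmpty.cone_objs
        (C := (Scheme.pointSmallEtale η).fiber.Elements) ⟨W₁, z₁⟩ ⟨W₂, z₂⟩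
      dsimp at k₁ k₂ hk₁ hk₂
      refine (congrArg (fun z => germ η P W₁ z s₁) hk₁).symm.trans ((gm k₁ z s₁).symm.trans
        (Eq.trans ?_ ((gm k₂ z s₂).trans (congrArg (fun z => germ η P W₂ z s₂) hk₂))))
      have e' : germ η Q W z (φ.hom.app (op W) (P.obj.map k₁.op s₁)) =
          germ η Q W z (φ.hom.app (op W) (P.obj.map k₂.op s₂)) := by
        rw [← gn, ← gn, gm, gm, hk₁, hk₂]
        exact e
      obtain ⟨C, α, y, hy, hC⟩ := (germ_eq_iff η Q W z _ _).1 e'
      obtain ⟨U', q, z', hz', hbij⟩ := hb C y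
      subst hy
      subst hz'
      rw [← gm α ((Scheme.pointSmallEtale η).fiber.map q z'), ← gm α ((Scheme.pointSmallEtale η).fiber.map q z'),
        ← gm q z', ← gm q z']
      refine congrArg _ (hbij.1 ?_)
      rw [NatTrans.naturality_apply φ.hom q.op, NatTrans.naturality_apply φ.hom q.op,
        NatTrans.naturality_apply φ.hom α.op, NatTrans.naturality_apply φ.hom α.op]
      exact congrArg (Q.obj.map q.op) hC
    · obtain ⟨U, z, σ, rfl⟩ := germ_surjective η Q p
      obtain ⟨U', q, z', hz', hbij⟩ := hb U z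
      obtain ⟨s, hs⟩ := hbij.2 (Q.obj.map q.op σ)
      refine ⟨germ η P U' z' s, (gn U' z' s).trans ?_⟩
      rw [hs, gmQ q z' σ, hz']
  exact PreservesProduct.of_iso_comparison (EtCoh.pull f) F

theorem geometricallyReduced_etale_comp {U : Scheme.{u}} (e : U ⟶ X) [Etale e] [GeometricallyReduced f] :
    GeometricallyReduced (e ≫ f) := by
  refine ⟨fun K _ y P fst snd sq => ?_⟩
  haveI : IsReduced (pullback f y) :=
    GeometricallyReduced.geometrically_isReduced _ _ _ (IsPullback.of_hasPullback f y)
  let t : P ⟶ pullback f y := pullback.lift (fst ≫ e) snd (by rw [Category.assoc]; exact sq.w)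
  have ht : IsPullback fst t e (pullback.fst f y) := by
    refine IsPullback.of_bot ?_ (pullback.lift_fst _ _ _).symm (IsPullback.of_hasPullback f y)
    rw [pullback.lift_snd]
    exact sq
  haveI : Etale t := MorphismProperty.of_isPullback (P := @Etale) ht inferInstance
  exact Groth.Agent.H13AlgSp.isReduced_of_smooth_mor t

end Groth.Agent.H11SetBC.Products
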