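import Groth.Agent.H11SetBC.GeomConnEt
import Groth.Agent.H15Site.LocAcyclic.Alg
import Groth.Agent.H9Hens.TensorHensFinite
import Groth.Agent.H9Hens.StrictTensor
import Groth.Agent.H7Flat.FlatTransfer
import Groth.Agent.H18Et.ConstSheaf
import Groth.Agent.H8Props.WeakEtaleScheme
import Groth.Agent.H06GRConn.Henselian
import Groth.Agent.H26ProEt.Weakly
import Groth.Agent.S3473
import Groth.Prelude.Def_EtAcyc
import Groth.Prelude.Def_Hens2

/-!
# Universally locally 0-acyclic morphisms
-/

set_option autoImplicit false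
set_option linter.style.haveILetI false
set_option linter.unusedSectionVars false
set_option backward.isDefEq.respectTransparency false
set_option backward.isDefEq.respectTransparency.types false

universe u

open CategoryTheory CategoryTheory.Limits AlgebraicGeometry Opposite IsLocalRing TopologicalSpace
open scoped TensorProduct Groth.Agent.H18Et

namespace Groth.Agent.H11SetBC

variable {X Y : Scheme.{u}}

theorem isMinusOneAcyclic_of_isZeroAcyclic {f : X ⟶ Y} (h : EtAcyc.IsZeroAcyclic f) :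
    EtAcyc.IsMinusOneAcyclic f := fun V F => by haveI := h V F; infer_instance

/-- A strict localization of a map at a point. -/
theorem exists_strictLoc (g : X ⟶ Y) (x : X) :
    ∃ (RY RX : Type u) (_ : CommRing RY) (_ : CommRing RX) (_ : IsLocalRing RY) (_ : IsLocalRing RX)
      (_ : Algebra (Y.presheaf.stalk (g.base x)) RY)
      (_ : IsLocalHom (algebraMap (Y.presheaf.stalk (g.base x)) RY))
      (_ : Hensel.IsStrictHenselization (Y.presheaf.stalk (g.base x)) RY)
      (_ : Algebra (X.presheaf.stalk x) RX) (_ : IsLocalHom (algebraMap (X.presheaf.stalk x) RX))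
      (_ : Hensel.IsStrictHenselization (X.presheaf.stalk x) RX) (ψ : RY →+* RX) (_ : IsLocalHom ψ),
      ψ.comp (algebraMap (Y.presheaf.stalk (g.base x)) RY) =
        (algebraMap (X.presheaf.stalk x) RX).comp (g.stalkMap x).hom := by
  obtain ⟨_, _, _, _, _, _, RY, _, _, _, _, _, -, hRY⟩ :=
    H9Hens.exists_isStrictHenselization_colim (Y.presheaf.stalk (g.base x))
  obtain ⟨_, _, _, _, _, _, RX, _, _, _, _, _, -, hRX⟩ :=
    H9Hens.exists_isStrictHenselization_colim (X.presheaf.stalk x)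
  haveI := hRY
  haveI := hRY.isSepClosure.separable
  haveI : IsSepClosed (ResidueField RX) := hRX.isSepClosure.sep_closed
  haveI : IsLocalHom (g.stalkMap x).hom := inferInstance
  obtain ⟨τ, hτ⟩ := H15Site.LocAcyclic.exists_residue_lift (ks := ResidueField RY)
    (ResidueField.map ((algebraMap (X.presheaf.stalk x) RX).comp (g.stalkMap x).hom))
  obtain ⟨σ, hσl, hσ, -⟩ := H15Site.LocAcyclic.exists_strictHens_map hRX.henselian (g.stalkMap x).hom τ hτ
  exact ⟨RY, RX, inferInstance, inferInstance, inferInstance, inferInstance, inferInstance, inferInstance, hRY,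
    inferInstance, inferInstance, hRX, σ, hσl, hσ⟩

/-- Generalizations lift along locally 0-acyclic maps. -/
theorem generalizingMap_of_isLocZeroAcyclic (g : X ⟶ Y) (h : EtAcyc.IsLocZeroAcyclic g) :
    GeneralizingMap g.base := by
  intro x y' hy'
  obtain ⟨RY, RX, _, _, _, _, _, _, hRY, _, _, hRX, ψ, hψl, hψ⟩ := exists_strictLoc g x
  letI := ψ.toAlgebra
  haveI : IsLocalHom (algebraMap RY RX) := hψl
  have hP := h x RY RX hψ
  have hsurj := S3473.not_minusOne_of_not_surjective _ (isMinusOneAcyclic_of_isZeroAcyclic hP)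
  obtain ⟨q, hq⟩ : y' ∈ Set.range (Y.fromSpecStalk (g.base x)).base := by
    rw [Scheme.range_fromSpecStalk]; exact hy'
  obtain ⟨k, _, _, _, _, _, π, hπ⟩ := H9Hens.exists_isPtColim_of_isStrictHenselization
    (R := Y.presheaf.stalk (g.base x)) RY
  haveI := hπ.faithfullyFlat H9Hens.ker_algebraMap_of_tower
  obtain ⟨q', hq'⟩ := PrimeSpectrum.comap_surjective_of_faithfullyFlat (B := RY) q
  obtain ⟨r, hr⟩ := hsurj q'
  refine ⟨(X.fromSpecStalk x).base (PrimeSpectrum.comap (algebraMap (X.presheaf.stalk x) RX) r), ?_, ?_⟩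
  · have : (X.fromSpecStalk x).base (PrimeSpectrum.comap (algebraMap (X.presheaf.stalk x) RX) r) ∈
        Set.range (X.fromSpecStalk x).base := ⟨_, rfl⟩
    rw [Scheme.range_fromSpecStalk] at this
    exact this
  · rw [← Scheme.Hom.comp_apply, ← Scheme.SpecMap_stalkMap_fromSpecStalk (f := g) (x := x),
      Scheme.Hom.comp_apply, ← hq, ← hq', ← hr]
    show (Y.fromSpecStalk (g.base x)).base (PrimeSpectrum.comap (g.stalkMap x).hom
        (PrimeSpectrum.comap (algebraMap (X.presheaf.stalk x) RX) r)) =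
      (Y.fromSpecStalk (g.base x)).base (PrimeSpectrum.comap (algebraMap (Y.presheaf.stalk (g.base x)) RY)
        (PrimeSpectrum.comap ψ r))
    rw [← PrimeSpectrum.comap_comp_apply, ← PrimeSpectrum.comap_comp_apply, hψ]

/-- A qc surjective generalizing morphism is a quotient map. -/
theorem isQuotientMap_of_generalizing (f : X ⟶ Y) [QuasiCompact f] [Surjective f] (hgen : GeneralizingMap f.base) :
    Topology.IsQuotientMap f.base := by
  rw [Topology.isQuotientMap_iff]
  refine ⟨.of_isOpen_preimage_iff_isOpen fun s ↦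
    ⟨fun hs ↦ ?_, fun hs ↦ hs.preimage f.continuous⟩, f.surjective⟩
  wlog hY : ∃ R, Y = Spec R
  · let 𝒰 := Y.affineCover
    rw [𝒰.isOpenCover_opensRange.isOpen_iff_inter]
    intro i
    rw [Scheme.Hom.coe_opensRange, ← Set.image_preimage_eq_inter_range]
    apply (𝒰.f i).isOpenEmbedding.isOpenMap
    have hg : GeneralizingMap (pullback.fst (𝒰.f i) f).base := by
      intro p z hz
      have hp : f ((pullback.snd (𝒰.f i) f) p) = 𝒰.f i ((pullback.fst (𝒰.f i) f) p) :=
        (congrArg (fun k : pullback (𝒰.f i) f ⟶ Y => k p) pullback.condition).symm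
      obtain ⟨w, hw, hwz⟩ := hgen (a := (pullback.snd (𝒰.f i) f) p) (b := 𝒰.f i z)
        (hp ▸ hz.map (𝒰.f i).continuous)
      obtain ⟨p', hp'⟩ : w ∈ Set.range (pullback.snd (𝒰.f i) f) := by
        rw [Scheme.Pullback.range_snd]; exact ⟨z, hwz.symm⟩
      refine ⟨p', (pullback.snd (𝒰.f i) f).isOpenEmbedding.toIsInducing.specializes_iff.1 (hp' ▸ hw),
        (𝒰.f i).isOpenEmbedding.injective ?_⟩
      rw [← hwz, ← hp']
      exact congrArg (fun k : pullback (𝒰.f i) f ⟶ Y => k p') pullback.condition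
    refine this (f := pullback.fst (𝒰.f i) f) hg _ ?_ ⟨_, rfl⟩
    rw [← Set.preimage_comp, ← TopCat.coe_comp, ← Scheme.Hom.comp_base, pullback.condition,
      Scheme.Hom.comp_base, TopCat.coe_comp, Set.preimage_comp]
    exact hs.preimage (Scheme.Hom.continuous _)
  obtain ⟨R, rfl⟩ := hY
  wlog hX : ∃ S, X = Spec S
  · have _ : CompactSpace X := QuasiCompact.compactSpace_of_compactSpace f
    let 𝒰 := X.affineCover.finiteSubcover
    let p : ∐ (fun i : 𝒰.I₀ ↦ 𝒰.X i) ⟶ X := Sigma.desc (fun i ↦ 𝒰.f i)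
    have hflat : Flat p := inferInstance
    have hp : GeneralizingMap p.base := Flat.generalizingMap p
    refine this (X := X) (Y := Spec R) R ((∐ (fun i : 𝒰.I₀ ↦ 𝒰.X i)).isoSpec.inv ≫ p ≫ f) ?_ s ?_ ⟨_, rfl⟩
    · simp only [Scheme.Hom.comp_base, TopCat.coe_comp]
      exact ((Flat.generalizingMap (∐ (fun i : 𝒰.I₀ ↦ 𝒰.X i)).isoSpec.inv).comp hp).comp hgen
    · rw [← Category.assoc, Scheme.Hom.comp_base, TopCat.coe_comp, Set.preimage_comp]
      exact hs.preimage (_ ≫ p).continuous
  obtain ⟨S, rfl⟩ := hX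
  obtain ⟨φ, rfl⟩ := Spec.map_surjective f
  exact ((PrimeSpectrum.isQuotientMap_of_generalizingMap ((surjective_iff (Spec.map φ)).mp inferInstance)
    hgen).isOpen_preimage).mp hs

theorem weaklyEtale_fromSpecStalk (Z : Scheme.{u}) (z : Z) : WeaklyEtale (Z.fromSpecStalk z) := by
  obtain ⟨U, hU, hzU, -⟩ := TopologicalSpace.Opens.isBasis_iff_nbhd.1 Z.isBasis_affineOpens
    (TopologicalSpace.Opens.mem_top z)
  letI := TopCat.Presheaf.algebra_section_stalk Z.presheaf (⟨z, hzU⟩ : U)
  haveI : IsLocalization.AtPrime (Z.presheaf.stalk z) (hU.primeIdealOf ⟨z, hzU⟩).asIdeal :=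
    hU.isLocalization_stalk ⟨z, hzU⟩
  haveI : Flat (Spec.map (Z.presheaf.germ U z hzU)) :=
    Flat.SpecMap_iff.2 ((RingHom.flat_algebraMap_iff (R := Γ(Z, U)) (S := Z.presheaf.stalk z)).2
      (IsLocalization.flat _ (hU.primeIdealOf ⟨z, hzU⟩).asIdeal.primeCompl))
  haveI : Flat (Z.fromSpecStalk z) := by
    rw [← hU.fromSpecStalk_eq_fromSpecStalk hzU]; unfold IsAffineOpen.fromSpecStalk; infer_instance
  exact { flat_diagonal := inferInstance }

theorem weaklyEtale_specOf (Z : Scheme.{u}) (z : Z) (R : Type u) [CommRing R] [IsLocalRing R]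
    [Algebra (Z.presheaf.stalk z) R] [IsLocalHom (algebraMap (Z.presheaf.stalk z) R)]
    [Hensel.IsStrictHenselization (Z.presheaf.stalk z) R] : WeaklyEtale (Hens2.specOf Z z R) := by
  obtain ⟨k, _, _, _, _, _, π, hπ⟩ := H9Hens.exists_isPtColim_of_isStrictHenselization
    (R := Z.presheaf.stalk z) R
  haveI := H26ProEt.weaklyEtale hπ
  haveI := weaklyEtale_fromSpecStalk Z z
  haveI : WeaklyEtale (Spec.map (CommRingCat.ofHom (algebraMap (Z.presheaf.stalk z) R))) :=
    (H8Props.WeakEtaleScheme.weaklyEtale_SpecMap_algebraMap _ _).2 inferInstance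
  exact inferInstanceAs (WeaklyEtale (_ ≫ _))

section Strict

variable {S : Scheme.{u}} (a : X ⟶ S) (x : X) (RS RX : Type u) [CommRing RS] [IsLocalRing RS]
  [Algebra (S.presheaf.stalk (a.base x)) RS] [IsLocalHom (algebraMap (S.presheaf.stalk (a.base x)) RS)]
  [Hensel.IsStrictHenselization (S.presheaf.stalk (a.base x)) RS]
  [CommRing RX] [IsLocalRing RX] [Algebra (X.presheaf.stalk x) RX]
  [IsLocalHom (algebraMap (X.presheaf.stalk x) RX)] [Hensel.IsStrictHenselization (X.presheaf.stalk x) RX]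
  (ψ : RS →+* RX) [IsLocalHom ψ]
  (hψ : ψ.comp (algebraMap (S.presheaf.stalk (a.base x)) RS) =
    (algebraMap (X.presheaf.stalk x) RX).comp (a.stalkMap x).hom)

include hψ in
theorem specMap_specOf :
    Spec.map (CommRingCat.ofHom ψ) ≫ Hens2.specOf S (a.base x) RS = Hens2.specOf X x RX ≫ a := by
  show _ ≫ Spec.map _ ≫ _ = (Spec.map _ ≫ _) ≫ a
  rw [← Category.assoc, ← Spec.map_comp, ← CommRingCat.ofHom_comp, hψ, CommRingCat.ofHom_comp,
    Spec.map_comp, Category.assoc, Category.assoc]
  exact congrArg (Spec.map _ ≫ ·) (Scheme.SpecMap_stalkMap_fromSpecStalk a)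

include hψ in
theorem isUnivSubmersive_strictLoc (ha : EtAcyc.IsULocZeroAcyclic a) :
    EtDesc.IsUnivSubmersive (Spec.map (CommRingCat.ofHom ψ)) := by
  intro T j
  let φ := Spec.map (CommRingCat.ofHom ψ)
  have hloc : EtAcyc.IsLocZeroAcyclic a := ha a (𝟙 X) (𝟙 S) (IsPullback.of_horiz_isIso ⟨by simp⟩)
  letI := ψ.toAlgebra
  haveI : IsLocalHom (algebraMap RS RX) := ‹IsLocalHom ψ›
  haveI : Surjective φ :=
    ⟨S3473.not_minusOne_of_not_surjective _ (isMinusOneAcyclic_of_isZeroAcyclic (hloc x RS RX hψ))⟩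
  let p₁ := pullback.fst a (Hens2.specOf S (a.base x) RS)
  let k : Spec (CommRingCat.of RX) ⟶ pullback a (Hens2.specOf S (a.base x) RS) :=
    pullback.lift (Hens2.specOf X x RX) φ (specMap_specOf a x RS RX ψ hψ).symm
  haveI := weaklyEtale_specOf S (a.base x) RS
  haveI := weaklyEtale_specOf X x RX
  haveI : WeaklyEtale p₁ := inferInstance
  haveI : WeaklyEtale (k ≫ p₁) := by rw [show k ≫ p₁ = Hens2.specOf X x RX from pullback.lift_fst _ _ _]; infer_instance
  haveI : WeaklyEtale k := WeaklyEtale.of_comp k p₁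
  let P' := pullback (pullback.snd a (Hens2.specOf S (a.base x) RS)) j
  let k' : pullback φ j ⟶ P' := pullback.map φ j (pullback.snd a (Hens2.specOf S (a.base x) RS)) j k (𝟙 _) (𝟙 _)
    (by rw [Category.comp_id]; exact (pullback.lift_snd _ _ _).symm) (by simp)
  have hsnd : k' ≫ pullback.snd _ j = pullback.snd φ j := (pullback.lift_snd _ _ _).trans (Category.comp_id _)
  have hbase : IsPullback k' (pullback.fst φ j) (pullback.fst (pullback.snd a (Hens2.specOf S (a.base x) RS)) j) k := by
    refine IsPullback.of_right (h₁₂ := pullback.snd (pullback.snd a (Hens2.specOf S (a.base x) RS)) j) (v₁₃ := j)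
      (h₂₂ := pullback.snd a (Hens2.specOf S (a.base x) RS)) ?_ (pullback.lift_fst _ _ _)
      (IsPullback.of_hasPullback _ _).flip
    rw [hsnd, show k ≫ pullback.snd a (Hens2.specOf S (a.base x) RS) = φ from pullback.lift_snd _ _ _]
    exact (IsPullback.of_hasPullback _ _).flip
  haveI : Flat k' := MorphismProperty.of_isPullback (P := @Flat) hbase.flip inferInstance
  have hgen1 : GeneralizingMap (pullback.snd (pullback.snd a (Hens2.specOf S (a.base x) RS)) j).base :=
    generalizingMap_of_isLocZeroAcyclic _ (ha _ _ _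
      ((IsPullback.of_hasPullback (pullback.snd a (Hens2.specOf S (a.base x) RS)) j).paste_horiz
        (IsPullback.of_hasPullback a (Hens2.specOf S (a.base x) RS))))
  haveI : Surjective (pullback.snd φ j) := inferInstance
  haveI : QuasiCompact (pullback.snd φ j) := inferInstance
  refine ⟨(pullback.snd φ j).surjective, isQuotientMap_of_generalizing _ ?_⟩
  rw [← hsnd, Scheme.Hom.comp_base, TopCat.coe_comp]
  exact (Flat.generalizingMap k').comp hgen1

end Strict

section Clopen

open H15Site.SetDescent H18Et H18PBC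

/-- If sections of all sheaves of sets do not change, a connected base has connected source. -/
theorem connectedSpace_of_bijective_pullSect {P V : Scheme.{u}} (f : P ⟶ V) [ConnectedSpace V]
    (hb : ∀ F : EtDesc.Sh V, Function.Bijective (pullSect f F (U := EtCoh.top V))) :
    ConnectedSpace P := by
  classical
  let M : Type (u + 1) := ULift Bool
  let F : EtDesc.Sh V := (constantSheaf V.smallEtaleTopology (Type (u + 1))).obj M
  have hc : ConstSheaf.IsConstant F (ConstSheaf.unitTop (X := V) M) := ConstSheaf.isConstant_unitTop M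
  let c : M → F.obj.obj (op (EtCoh.top V)) := ConstSheaf.unitTop (X := V) M
  have hne : ∀ u : V, ∀ m m' : M, u ∈ agree F (U := EtCoh.top V) (c m) (c m') → m = m' := by
    rintro u m m' ⟨W, g, v, -, e⟩
    refine ConstSheaf.eq_of_rest_eq hc (U := W) v ?_
    rw [ConstSheaf.rest, ConstSheaf.rest, (EtCore.topIsTerminal V).hom_ext ((EtCore.topIsTerminal V).from W) g]
    exact e
  let Pt := (EtCoh.bc f).obj (EtCoh.top V)
  let G := (EtDesc.pullSh f).obj F
  haveI : IsIso Pt.hom := inferInstanceAs (IsIso (pullback.snd (𝟙 V) f))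
  have key : ∀ C : Set Pt.left, IsClopen C → C = ∅ ∨ C = Set.univ := by
    intro C hC
    let O : M → Pt.left.Opens := fun m => if m.down then ⟨C, hC.isOpen⟩ else ⟨Cᶜ, hC.compl.isOpen⟩
    have hdisj : ∀ m m' : M, ∀ z, z ∈ O m → z ∈ O m' → m = m' := by
      rintro ⟨m⟩ ⟨m'⟩ z h h'
      cases m <;> cases m' <;> simp only [O, Bool.false_eq_true, if_false, if_true] at h h' ⊢
      · exact (h h').elim
      · exact (h' h).elim
    have hcover : ∀ z, ∃ m, z ∈ O m := fun z => by
      by_cases hz : z ∈ C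
      · exact ⟨⟨true⟩, by simpa [O] using hz⟩
      · exact ⟨⟨false⟩, by simp only [O, Bool.false_eq_true, if_false]; exact hz⟩
    let Q := fun (W : P.Etale) (g : W ⟶ Pt) (t : G.obj.obj (op W)) =>
      ∃ m : M, (∀ w : W.left, g.left.base w ∈ O m) ∧ t = G.obj.map g.op (pullSect f F (c m))
    have huniq : ∀ {W : P.Etale} (g : W ⟶ Pt) (t t' : G.obj.obj (op W)), Q W g t → Q W g t' → t = t' := by
      rintro W g _ _ ⟨m, hm, rfl⟩ ⟨m', hm', rfl⟩
      refine eq_of_agree_eq_univ _ _ _ fun w => ?_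
      obtain rfl : m = m' := hdisj m m' _ (hm w) (hm' w)
      exact ⟨W, 𝟙 W, w, rfl, rfl⟩
    have hmap : ∀ {W W' : P.Etale} (g : W ⟶ Pt) (e : W' ⟶ W) (t : G.obj.obj (op W)), Q W g t →
        Q W' (e ≫ g) (G.obj.map e.op t) := by
      rintro W W' g e _ ⟨m, hm, rfl⟩
      exact ⟨m, fun w => hm (e.left.base w), by rw [op_comp, Functor.map_comp_apply]⟩
    let R : Sieve Pt :=
      { arrows := fun W g => ∃ t, Q W g t
        downward_closed := fun {W W'} g ⟨t, ht⟩ e => ⟨_, hmap g e t ht⟩ }
    have hR : R ∈ P.smallEtaleTopology Pt := by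
      refine mem_topology_of_forall_point _ fun z => ?_
      obtain ⟨m, hm⟩ := hcover z
      exact ⟨openObj (O m), openHom (O m), ⟨z, hm⟩, ⟨_, m, fun w => w.2, rfl⟩, rfl⟩
    have hG : Presieve.IsSheafFor G.obj R.arrows := (isSheaf_iff_isSheaf_of_type _ _).1 G.property R hR
    let fam : Presieve.FamilyOfElements G.obj R.arrows := fun W g hg => hg.choose
    have hfam : fam.Compatible := fun W₁ W₂ Z g₁ g₂ f₁ f₂ h₁ h₂ hcomp => by
      refine huniq (g₁ ≫ f₁) _ _ (hmap f₁ g₁ _ h₁.choose_spec) ?_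
      rw [hcomp]
      exact hmap f₂ g₂ _ h₂.choose_spec
    obtain ⟨t, ht⟩ := (hb F).2 (hG.amalgamate fam hfam)
    obtain ⟨m₀, hm₀⟩ : ∃ m₀, t = c m₀ := by
      obtain ⟨u⟩ := (inferInstance : Nonempty V)
      obtain ⟨m₀, hu⟩ := ConstSheaf.exists_mem_locus hc t (show (EtCoh.top V).left from u)
      refine ⟨m₀, ?_⟩
      haveI : ConnectedSpace (EtCoh.top V).left := ‹ConnectedSpace V›
      have hall := ConstSheaf.eq_rest hc t m₀ fun z =>
        Set.eq_univ_iff_forall.1 ((ConstSheaf.isClopen_locus hc t m₀).eq_univ ⟨_, hu⟩) z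
      rw [hall, ConstSheaf.rest, (EtCore.topIsTerminal V).hom_ext ((EtCore.topIsTerminal V).from _) (𝟙 _)]
      simp
      rfl
    subst hm₀
    have hcase : ∀ m z, z ∈ O m → m₀ = m := by
      intro m z hz
      have hval := hG.valid_glue hfam (openHom (O m)) ⟨_, m, fun w => w.2, rfl⟩
      rw [← ht] at hval
      obtain ⟨m', hm', e'⟩ := (Exists.choose_spec (⟨_, m, fun w => w.2, rfl⟩ : ∃ t, Q _ (openHom (O m)) t))
      obtain rfl : m' = m := hdisj m' m z (hm' ⟨z, hz⟩) hz
      have h1 := hval.trans e'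
      have h2 : z ∈ agree G (pullSect f F (c m₀)) (pullSect f F (c m')) :=
        ⟨openObj (O m'), openHom (O m'), ⟨z, hz⟩, rfl, h1⟩
      rw [mem_agree_pullSect] at h2
      exact hne _ _ _ h2
    rcases Bool.eq_false_or_eq_true m₀.down with h | h
    · refine Or.inr (Set.eq_univ_iff_forall.2 fun z => by_contra fun hz => ?_)
      have := hcase ⟨false⟩ z (by simp only [O, Bool.false_eq_true, if_false]; exact hz)
      rw [this] at h
      exact Bool.false_ne_true h
    · refine Or.inl (Set.eq_empty_iff_forall_notMem.2 fun z hz => ?_)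
      have := hcase ⟨true⟩ z (by simpa [O] using hz)
      rw [this] at h
      exact Bool.false_ne_true h.symm
  haveI : Nonempty Pt.left := by
    by_contra hempty
    have h1 : pullSect f F (c ⟨true⟩) = pullSect f F (c ⟨false⟩) :=
      eq_of_agree_eq_univ _ _ _ fun z => (hempty ⟨z⟩).elim
    obtain ⟨u⟩ := (inferInstance : Nonempty V)
    have := hne u ⟨true⟩ ⟨false⟩ (((hb F).1 h1) ▸ ⟨_, 𝟙 _, u, rfl, rfl⟩)
    exact Bool.false_ne_true (congrArg ULift.down this).symm
  haveI hpre : PreconnectedSpace Pt.left := preconnectedSpace_iff_clopen.2 key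
  haveI : ConnectedSpace ↥((𝟭 Scheme.{u}).obj Pt.left) :=
    @ConnectedSpace.mk _ _ hpre ‹Nonempty Pt.left›
  exact Pt.hom.homeomorph.surjective.connectedSpace Pt.hom.homeomorph.continuous

end Clopen

end Groth.Agent.H11SetBC
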