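import Groth.Agent.H11SetBC.ZeroAcyclic
import Groth.Agent.H11SetBC.GeomRed
import Groth.Agent.H12AlgSp.EtLocalRing
import Groth.Agent.H9Hens.BranchNormal
import Groth.Agent.H02CA.GeomIrred

/-!
# Geometric fibres of strict localizations of universally locally 0-acyclic morphisms
-/

set_option autoImplicit false
set_option linter.style.haveILetI false
set_option linter.unusedSectionVars false
set_option backward.isDefEq.respectTransparency false
set_option backward.isDefEq.respectTransparency.types false

universe u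

open CategoryTheory CategoryTheory.Limits AlgebraicGeometry Opposite IsLocalRing TopologicalSpace
open scoped TensorProduct Groth.Agent.H18Et

namespace Groth.Agent.H11SetBC

open H15Site.SetDescent

variable {X : Scheme.{u}}

/-- A morphism out of the spectrum of a local ring factors through the stalk. -/
theorem exists_stalk_factor {A : Type u} [CommRing A] [IsLocalRing A] (q : Spec (CommRingCat.of A) ⟶ X) (x : X)
    (hx : q (closedPoint A) = x) :
    ∃ h : ↥(X.presheaf.stalk x) →+* A, IsLocalHom h ∧
      Spec.map (CommRingCat.ofHom h) ≫ X.fromSpecStalk x = q := by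
  subst hx
  exact ⟨(Scheme.stalkClosedPointTo q).hom, inferInstance, Scheme.Spec_stalkClosedPointTo_fromSpecStalk q⟩

theorem ringHom_eq_of_fromSpecStalk {A : Type u} [CommRing A] {x : X} {h h' : ↥(X.presheaf.stalk x) →+* A}
    (e : Spec.map (CommRingCat.ofHom h) ≫ X.fromSpecStalk x = Spec.map (CommRingCat.ofHom h') ≫ X.fromSpecStalk x) :
    h = h' :=
  congrArg CommRingCat.Hom.hom (Spec.map_injective ((cancel_mono _).1 e))

section Strict

variable {S : Scheme.{u}} (a : X ⟶ S) (x : X) (RS RX : Type u) [CommRing RS] [IsLocalRing RS]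
  [Algebra (S.presheaf.stalk (a.base x)) RS] [IsLocalHom (algebraMap (S.presheaf.stalk (a.base x)) RS)]
  [Hensel.IsStrictHenselization (S.presheaf.stalk (a.base x)) RS]
  [CommRing RX] [IsLocalRing RX] [Algebra (X.presheaf.stalk x) RX]
  [IsLocalHom (algebraMap (X.presheaf.stalk x) RX)] [Hensel.IsStrictHenselization (X.presheaf.stalk x) RX]
  [Algebra RS RX] [IsLocalHom (algebraMap RS RX)]
  (hψ : (algebraMap RS RX).comp (algebraMap (S.presheaf.stalk (a.base x)) RS) =
    (algebraMap (X.presheaf.stalk x) RX).comp (a.stalkMap x).hom)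

include hψ in
/-- Base change to an integral strictly henselian local domain: the strict henselization of the base change retracts
onto the tensor product, and its localizations at elements of the base are connected. -/
theorem exists_retract (ha : EtAcyc.IsULocZeroAcyclic a) (R' : Type u) [CommRing R'] [IsDomain R']
    [IsLocalRing R'] [HenselianLocalRing R'] [IsSepClosed (ResidueField R')] [Algebra RS R']
    [IsLocalHom (algebraMap RS R')] [Algebra.IsIntegral RS R'] :
    ∃ (RX'' : Type u) (_ : CommRing RX'') (iR : R' →+* RX'') (ρ : RX'' →+* R' ⊗[RS] RX)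
      (ι : R' ⊗[RS] RX →+* RX''), ρ.comp ι = RingHom.id _ ∧ (∀ r, ι (r ⊗ₜ 1) = iR r) ∧
      ∀ c : R', c ≠ 0 → ∀ e : Localization.Away (iR c), IsIdempotentElem e → e = 0 ∨ e = 1 := by
  haveI : HenselianLocalRing RS := Hensel.IsStrictHenselization.henselian (R := S.presheaf.stalk (a.base x))
  haveI : HenselianLocalRing RX := Hensel.IsStrictHenselization.henselian (R := X.presheaf.stalk x)
  haveI : IsSepClosed (ResidueField RS) :=
    (Hensel.IsStrictHenselization.isSepClosure (R := S.presheaf.stalk (a.base x)) (S := RS)).sep_closed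
  haveI : IsSepClosed (ResidueField RX) :=
    (Hensel.IsStrictHenselization.isSepClosure (R := X.presheaf.stalk x) (S := RX)).sep_closed
  haveI : Algebra.IsAlgebraic (ResidueField RS) (ResidueField R') := (H9Hens.henselian_of_isIntegral (R := RS) (T := R')).2
  haveI : IsPurelyInseparable (ResidueField RS) (ResidueField R') := inferInstance
  -- the tensor product is strictly henselian
  obtain ⟨hloc, hlocX, -⟩ := H9Hens.exists_isLocalRing_tensor RS R' RX
  let T := R' ⊗[RS] RX
  let iT : RX →+* T := (Algebra.TensorProduct.includeRight : RX →ₐ[RS] T).toRingHom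
  let iA : R' →+* T := Algebra.TensorProduct.includeLeftRingHom
  letI : Algebra RX T := Algebra.TensorProduct.rightAlgebra
  haveI : IsLocalHom (algebraMap RX T) := hlocX
  haveI : IsLocalHom iT := hlocX
  haveI : Algebra.IsIntegral RX T := ⟨H9Hens.includeRight_integral RS R' RX⟩
  obtain ⟨hT, halg⟩ := H9Hens.henselian_of_isIntegral (R := RX) (T := T)
  haveI : IsSepClosed (ResidueField T) := H9Hens.isSepClosed_of_isAlgebraic (ResidueField RX)
  haveI hiA : IsLocalHom iA := ⟨fun r hr => by
    by_contra hru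
    refine (mem_maximalIdeal _).mp ?_ hr
    exact (H9Hens.comap_maximalIdeal RS R' RX (maximalIdeal _)).2.ge ((mem_maximalIdeal r).mpr hru)⟩
  have hcomm : iT.comp (algebraMap RS RX) = iA.comp (algebraMap RS R') :=
    RingHom.ext fun r => (Algebra.TensorProduct.includeRight : RX →ₐ[RS] T).commutes r
  -- the base change
  let Y' : Scheme.{u} := Spec (CommRingCat.of R')
  let b : Y' ⟶ S := Spec.map (CommRingCat.ofHom (algebraMap RS R')) ≫ Hens2.specOf S (a.base x) RS
  let X' := pullback a b
  let a' : X' ⟶ Y' := pullback.snd a b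
  let t : Spec (CommRingCat.of T) ⟶ X' :=
    pullback.lift (Spec.map (CommRingCat.ofHom iT) ≫ Hens2.specOf X x RX) (Spec.map (CommRingCat.ofHom iA)) (by
      rw [Category.assoc, ← specMap_specOf a x RS RX (algebraMap RS RX) hψ, ← Category.assoc, ← Spec.map_comp,
        ← CommRingCat.ofHom_comp, hcomm, CommRingCat.ofHom_comp, Spec.map_comp, Category.assoc])
  let x'' : X' := t (closedPoint T)
  let pY : Y' := a'.base x''
  have hpY : pY = closedPoint R' := by
    show (a'.base) (t.base (closedPoint T)) = _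
    rw [← Scheme.Hom.comp_apply, show t ≫ a' = Spec.map (CommRingCat.ofHom iA) from pullback.lift_snd _ _ _]
    exact comap_closedPoint iA
  -- the stalk of the base
  let st : R' →+* ↥(Y'.presheaf.stalk pY) := (StructureSheaf.toStalk R' pY).hom
  have hst : Function.Bijective st := by
    letI : Algebra R' ↥(Y'.presheaf.stalk pY) := StructureSheaf.stalkAlgebra R' pY
    haveI : IsLocalization.AtPrime ↥(Y'.presheaf.stalk pY) pY.asIdeal := StructureSheaf.IsLocalization.to_stalk R' pY
    refine (IsLocalization.atUnits R' pY.asIdeal.primeCompl (S := ↥(Y'.presheaf.stalk pY)) ?_).bijective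
    intro r hr
    by_contra h
    exact hr (by rw [hpY]; exact (mem_maximalIdeal r).2 h)
  let est : R' ≃+* ↥(Y'.presheaf.stalk pY) := RingEquiv.ofBijective st hst
  haveI : HenselianLocalRing ↥(Y'.presheaf.stalk pY) := H12AlgSp.henselianLocalRing_of_ringEquiv est
  haveI : IsSepClosed (ResidueField ↥(Y'.presheaf.stalk pY)) :=
    H9Hens.isSepClosed_of_ringEquiv (ResidueField.mapEquiv est)
  haveI : IsLocalHom (algebraMap ↥(Y'.presheaf.stalk pY) ↥(Y'.presheaf.stalk pY)) := ⟨fun _ h => h⟩
  haveI : Hensel.IsStrictHenselization ↥(Y'.presheaf.stalk pY) ↥(Y'.presheaf.stalk pY) :=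
    H9Hens.isStrictHenselization_self _
  obtain ⟨_, _, _, _, _, _, RX'', _, _, _, _, _, -, hRX''⟩ :=
    H9Hens.exists_isStrictHenselization_colim (X'.presheaf.stalk x'')
  haveI := hRX''
  haveI : HenselianLocalRing RX'' := hRX''.henselian
  haveI := hRX''.isSepClosure.separable
  let L'' := algebraMap ↥(X'.presheaf.stalk x'') RX''
  let ψ' : ↥(Y'.presheaf.stalk pY) →+* RX'' := L''.comp (a'.stalkMap x'').hom
  haveI : IsLocalHom (a'.stalkMap x'').hom := inferInstance
  haveI hψ'l : IsLocalHom ψ' := RingHom.isLocalHom_comp _ _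
  let iR : R' →+* RX'' := ψ'.comp st
  -- the map to the tensor product
  obtain ⟨uT, huTl, huT⟩ := exists_stalk_factor t x'' rfl
  haveI := huTl
  obtain ⟨τ, hτ⟩ := H15Site.LocAcyclic.exists_residue_lift (ks := ResidueField RX'')
    (ResidueField.map uT)
  obtain ⟨ρ, ⟨hρ, hρres⟩, -⟩ := hRX''.universal T uT τ hτ
  haveI hρl : IsLocalHom ρ := ⟨fun z hz => by
    by_contra hzu
    refine (residue_ne_zero_iff_isUnit (ρ z)).2 hz ?_
    rw [hρres, (residue_eq_zero_iff z).2 ((mem_maximalIdeal z).2 hzu), map_zero]⟩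
  let q'' : Spec (CommRingCat.of RX'') ⟶ X' := Hens2.specOf X' x'' RX''
  have hρq : Spec.map (CommRingCat.ofHom ρ) ≫ q'' = t := by
    refine Eq.trans ?_ huT
    show _ ≫ Spec.map _ ≫ _ = _
    rw [← Category.assoc, ← Spec.map_comp, ← CommRingCat.ofHom_comp, hρ]
  have hiR : Spec.map (CommRingCat.ofHom iR) = q'' ≫ a' := by
    show Spec.map (CommRingCat.ofHom (ψ'.comp st)) = (Spec.map _ ≫ _) ≫ a'
    rw [CommRingCat.ofHom_comp, Spec.map_comp, CommRingCat.ofHom_comp, Spec.map_comp, CommRingCat.ofHom_hom,
      Category.assoc]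
    show Spec.map _ ≫ Spec.map _ ≫ Spec.map (StructureSheaf.toStalk R' pY) = _
    rw [← Scheme.Spec_fromSpecStalk' (CommRingCat.of R') pY, Scheme.SpecMap_stalkMap_fromSpecStalk, ← Category.assoc]
  have hρiR : ρ.comp iR = iA := by
    refine congrArg CommRingCat.Hom.hom (Spec.map_injective (a₁ := CommRingCat.ofHom (ρ.comp iR))
      (a₂ := CommRingCat.ofHom iA) ?_)
    rw [CommRingCat.ofHom_comp, Spec.map_comp, hiR, ← Category.assoc, hρq]
    exact pullback.lift_snd _ _ _
  -- the lift of the strict henselization of the source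
  have hxq : (q'' ≫ pullback.fst a b) (closedPoint RX'') = x := by
    have h1 : Spec.map (CommRingCat.ofHom ρ) (closedPoint T) = closedPoint RX'' := comap_closedPoint ρ
    have h2 : (Spec.map (CommRingCat.ofHom iT) ≫ Hens2.specOf X x RX) (closedPoint T) = x := by
      show X.fromSpecStalk x (Spec.map (CommRingCat.ofHom (algebraMap (X.presheaf.stalk x) RX))
        (Spec.map (CommRingCat.ofHom iT) (closedPoint T))) = x
      rw [show Spec.map (CommRingCat.ofHom iT) (closedPoint T) = closedPoint RX from comap_closedPoint iT,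
        show Spec.map (CommRingCat.ofHom (algebraMap (X.presheaf.stalk x) RX)) (closedPoint RX) =
          closedPoint (X.presheaf.stalk x) from comap_closedPoint _]
      exact Scheme.fromSpecStalk_closedPoint
    rw [← h1, ← Scheme.Hom.comp_apply, ← Category.assoc, hρq]
    refine Eq.trans ?_ h2
    rw [show t ≫ pullback.fst a b = Spec.map (CommRingCat.ofHom iT) ≫ Hens2.specOf X x RX from pullback.lift_fst _ _ _]
  obtain ⟨hX, hXl, hhX⟩ := exists_stalk_factor (q'' ≫ pullback.fst a b) x hxq
  haveI := hXl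
  have hρhX : ρ.comp hX = iT.comp (algebraMap (X.presheaf.stalk x) RX) := by
    refine ringHom_eq_of_fromSpecStalk ?_
    rw [CommRingCat.ofHom_comp, Spec.map_comp, Category.assoc, hhX, ← Category.assoc, hρq]
    refine (pullback.lift_fst _ _ _).trans ?_
    rw [CommRingCat.ofHom_comp, Spec.map_comp, Category.assoc]
  haveI : IsLocalHom (RingHom.id T) := ⟨fun _ h => h⟩
  haveI : IsSepClosed (ResidueField RX'') := hRX''.isSepClosure.sep_closed
  obtain ⟨ιX, ⟨hιXl, hιX, hριX⟩, -⟩ := existsUnique_lift (G := RX) (L := X.presheaf.stalk x) ρ hX iT hρhX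
  haveI := hιXl
  haveI hiRl : IsLocalHom iR := by
    haveI : IsLocalHom (ρ.comp iR) := by rw [hρiR]; exact hiA
    exact isLocalHom_of_comp iR ρ
  have hcompat : iR.comp (algebraMap RS R') = ιX.comp (algebraMap RS RX) := by
    let g2 := iR.comp (algebraMap RS R')
    let g1 := ιX.comp (algebraMap RS RX)
    haveI : IsLocalHom g1 := RingHom.isLocalHom_comp _ _
    haveI : IsLocalHom g2 := RingHom.isLocalHom_comp _ _
    haveI : IsLocalHom (g1.comp (algebraMap (S.presheaf.stalk (a.base x)) RS)) := RingHom.isLocalHom_comp _ _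
    haveI : IsLocalHom (iT.comp (algebraMap RS RX)) := RingHom.isLocalHom_comp _ _
    refine (existsUnique_lift (G := RS) (L := S.presheaf.stalk (a.base x)) ρ
      (g1.comp (algebraMap (S.presheaf.stalk (a.base x)) RS)) (iT.comp (algebraMap RS RX)) (congrArg (fun q : RX →+* T => (q.comp (algebraMap RS RX)).comp (algebraMap (S.presheaf.stalk (a.base x)) RS)) hριX)).unique (y₁ := g2) (y₂ := g1) ⟨inferInstance, ?_, ?_⟩
        ⟨inferInstance, rfl, by rw [← RingHom.comp_assoc, hριX]⟩
    · refine ringHom_eq_of_fromSpecStalk ?_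
      show Spec.map (CommRingCat.ofHom ((iR.comp (algebraMap RS R')).comp _)) ≫ _ =
        Spec.map (CommRingCat.ofHom ((ιX.comp (algebraMap RS RX)).comp _)) ≫ _
      rw [show (ιX.comp (algebraMap RS RX)).comp (algebraMap (S.presheaf.stalk (a.base x)) RS) =
        hX.comp (a.stalkMap x).hom by rw [RingHom.comp_assoc, hψ, ← RingHom.comp_assoc, hιX]]
      rw [CommRingCat.ofHom_comp, CommRingCat.ofHom_comp, Spec.map_comp, Spec.map_comp, hiR,
        CommRingCat.ofHom_comp, Spec.map_comp, CommRingCat.ofHom_hom]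
      simp only [Category.assoc]
      rw [Scheme.SpecMap_stalkMap_fromSpecStalk, ← Category.assoc (Spec.map (CommRingCat.ofHom hX)), hhX]
      simp only [Category.assoc]
      exact congrArg (q'' ≫ ·) (pullback.condition (f := a) (g := b)).symm
    · rw [← RingHom.comp_assoc, hρiR, hcomm]
  let ι : T →+* RX'' := liftRing iR ιX hcompat
  refine ⟨RX'', inferInstance, iR, ρ, ι, ?_, fun r => ?_, fun c hc => ?_⟩
  · refine tensor_ringHom_ext (fun r => ?_) (fun s => ?_)
    · simp only [RingHom.comp_apply, ι, liftRing_tmul, map_one, mul_one, RingHom.id_apply]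
      exact RingHom.congr_fun hρiR r
    · simp only [RingHom.comp_apply, ι, liftRing_tmul, map_one, one_mul, RingHom.id_apply]
      exact RingHom.congr_fun hριX s
  · simp only [ι, liftRing_tmul, map_one, mul_one]
  -- connectedness
  letI := ψ'.toAlgebra
  haveI : IsLocalHom (algebraMap ↥(Y'.presheaf.stalk pY) RX'') := hψ'l
  have hP := ha a' (pullback.fst a b) b (IsPullback.of_hasPullback a b) x'' ↥(Y'.presheaf.stalk pY) RX''
    (RingHom.comp_id _)
  haveI : IsDomain ↥(Y'.presheaf.stalk pY) := est.toMulEquiv.isDomain_iff.1 inferInstance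
  have hc' : st c ≠ 0 := fun h0 => hc (hst.1 (h0.trans (map_zero st).symm))
  let Zb : Scheme.{u} := Spec (CommRingCat.of ↥(Y'.presheaf.stalk pY))
  let φ' : Spec (CommRingCat.of RX'') ⟶ Zb := Spec.map (CommRingCat.ofHom ψ')
  let D : Zb.Opens := PrimeSpectrum.basicOpen (st c)
  let V : Zb.Etale := openObj (W := EtCoh.top Zb) D
  haveI : ConnectedSpace V.left := by
    haveI : IrreducibleSpace Zb := inferInstanceAs (IrreducibleSpace (PrimeSpectrum _))
    have hne : (D : Set Zb).Nonempty := by
      rw [Set.nonempty_iff_ne_empty]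
      intro h0
      exact hc' (IsNilpotent.eq_zero ((PrimeSpectrum.basicOpen_eq_bot_iff _).1
        (SetLike.coe_injective (h0.trans TopologicalSpace.Opens.coe_bot.symm))))
    exact Subtype.connectedSpace (IsPreirreducible.open_subset (IrreducibleSpace.isIrreducible_univ Zb).2 D.isOpen
      (Set.subset_univ _) |>.isPreconnected |> fun h => ⟨hne, h⟩)
  haveI hconn : ConnectedSpace ↥(pullback V.hom φ') :=
    connectedSpace_of_bijective_pullSect (EtAcyc.prj φ' V) fun F => by
      haveI := hP V F
      exact (isIso_iff_bijective _).1 (inferInstance : IsIso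
        (((sheafToPresheaf _ _).map ((EtDesc.adjSh (EtAcyc.prj φ' V)).unit.app F)).app (op (EtCoh.top V.left))))
  have himg : _root_.IsConnected (PrimeSpectrum.basicOpen (iR c) : Set (PrimeSpectrum RX'')) := by
    have hr : Set.range (pullback.snd V.hom φ') = (φ' ⁻¹ᵁ D : Set _) := by
      rw [Scheme.Pullback.range_snd]
      show φ' ⁻¹' Set.range V.hom = φ' ⁻¹' (D : Set Zb)
      congr 1
      show Set.range (D.ι ≫ 𝟙 Zb) = _
      rw [Category.comp_id, Scheme.Opens.range_ι]
    have hb : SetLike.coe (φ' ⁻¹ᵁ D) =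
        (PrimeSpectrum.basicOpen (iR c) : Set (PrimeSpectrum RX'')) :=
      congrArg SetLike.coe (PrimeSpectrum.comap_basicOpen ψ' (st c))
    exact (hr.trans hb) ▸ isConnected_range (pullback.snd V.hom φ').continuous
  haveI : ConnectedSpace (PrimeSpectrum (Localization.Away (iR c))) := by
    haveI := Subtype.connectedSpace himg
    let e := (PrimeSpectrum.localization_away_isOpenEmbedding (Localization.Away (iR c)) (iR c)).isEmbedding.toHomeomorph
    rw [← PrimeSpectrum.localization_away_comap_range (Localization.Away (iR c)) (iR c)] at himg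
    haveI := Subtype.connectedSpace himg
    exact e.symm.surjective.connectedSpace e.symm.continuous
  exact fun e he => H9Hens.idempotent_eq_of_connectedSpace he

include hψ in
/-- The fibres over algebraic closures of residue fields are connected. -/
theorem eq_zero_or_one_fibre (ha : EtAcyc.IsULocZeroAcyclic a) (k : Type u) [Field k] [IsAlgClosed k]
    [Algebra RS k] (halg : ∀ z : k, ∃ d : RS, algebraMap RS k d ≠ 0 ∧ IsIntegral RS (algebraMap RS k d * z))
    {e : k ⊗[RS] RX} (he : IsIdempotentElem e) : e = 0 ∨ e = 1 := by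
  classical
  haveI : HenselianLocalRing RS := Hensel.IsStrictHenselization.henselian (R := S.presheaf.stalk (a.base x))
  haveI : IsSepClosed (ResidueField RS) :=
    (Hensel.IsStrictHenselization.isSepClosure (R := S.presheaf.stalk (a.base x)) (S := RS)).sep_closed
  let R' := integralClosure RS k
  haveI : IsLocalRing R' := H7Flat.FlatTransfer.isLocalRing_integralClosure RS k
  haveI : IsLocalHom (algebraMap RS R') := by
    refine ((IsLocalRing.local_hom_TFAE (algebraMap RS R')).out 4 0).1 ?_
    haveI : ((maximalIdeal R').comap (algebraMap RS R')).IsMaximal :=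
      Ideal.isMaximal_comap_of_isIntegral_of_isMaximal (R := RS) (maximalIdeal R')
    exact eq_maximalIdeal this
  obtain ⟨hH, halg'⟩ := H9Hens.henselian_of_isIntegral (R := RS) (T := R')
  haveI : IsSepClosed (ResidueField R') := H9Hens.isSepClosed_of_isAlgebraic (ResidueField RS)
  obtain ⟨RX'', _, iR, ρ, ι, hρι, hιl, hconn⟩ := exists_retract a x RS RX hψ ha R'
  let T := R' ⊗[RS] RX
  let f : T →+* k ⊗[RS] RX :=
    (Algebra.TensorProduct.map (integralClosure RS k).val (AlgHom.id RS RX)).toRingHom
  let iA : R' →+* T := Algebra.TensorProduct.includeLeftRingHom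
  let M : Submonoid R' := nonZeroDivisors R'
  have hM : ∀ c : M, (c : R').1 ≠ 0 := fun c h => nonZeroDivisors.ne_zero c.2 (Subtype.ext h)
  let L := Localization (M.map iA)
  let kL : k →+* L :=
    haveI : IsFractionRing R' k := IsFractionRing.of_field R' k fun z => by
      obtain ⟨d, hd, hint⟩ := halg z
      refine ⟨⟨_, hint⟩, algebraMap RS R' d, ?_⟩
      show z = algebraMap RS k d * z / algebraMap RS k d
      exact (mul_div_cancel_left₀ _ hd).symm
    IsLocalization.lift (M := M) (g := (algebraMap T L).comp iA) fun c =>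
      IsLocalization.map_units L (⟨_, Submonoid.mem_map_of_mem iA c.2⟩ : M.map iA)
  haveI : IsFractionRing R' k := IsFractionRing.of_field R' k fun z => by
    obtain ⟨d, hd, hint⟩ := halg z
    refine ⟨⟨_, hint⟩, algebraMap RS R' d, ?_⟩
    show z = algebraMap RS k d * z / algebraMap RS k d
    exact (mul_div_cancel_left₀ _ hd).symm
  have hkL : kL.comp (algebraMap R' k) = (algebraMap T L).comp iA := IsLocalization.lift_comp _
  let Φ : k ⊗[RS] RX →+* L := liftRing kL ((algebraMap T L).comp Algebra.TensorProduct.includeRight.toRingHom) (by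
    refine RingHom.ext fun r => ?_
    refine (RingHom.congr_fun hkL (algebraMap RS R' r)).trans ?_
    exact congrArg (algebraMap T L) ((Algebra.TensorProduct.includeRight : RX →ₐ[RS] T).commutes r).symm)
  have hu : ∀ y : M.map iA, IsUnit (f y) := by
    rintro ⟨_, c, hc, rfl⟩
    exact ((isUnit_iff_ne_zero.2 (hM ⟨c, hc⟩)).map
      (Algebra.TensorProduct.includeLeftRingHom : k →+* k ⊗[RS] RX))
  let Ψ : L →+* k ⊗[RS] RX := IsLocalization.lift (M := M.map iA) (g := f) hu
  have hΨΦ : Ψ.comp Φ = RingHom.id _ := by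
    refine tensor_ringHom_ext (fun z => ?_) (fun s => ?_)
    · simp only [RingHom.comp_apply, Φ, liftRing_tmul, map_one, mul_one, RingHom.id_apply]
      refine RingHom.congr_fun (IsLocalization.ringHom_ext M ?_ :
        Ψ.comp kL = (Algebra.TensorProduct.includeLeftRingHom : k →+* k ⊗[RS] RX)) z
      rw [RingHom.comp_assoc, hkL, ← RingHom.comp_assoc, IsLocalization.lift_comp]
      rfl
    · simp only [RingHom.comp_apply, Φ, liftRing_tmul, map_one, one_mul, RingHom.id_apply, Ψ,
        IsLocalization.lift_eq]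
      rfl
  have key : Φ e = 0 ∨ Φ e = 1 := by
    obtain ⟨z, ⟨w, c, hc, rfl⟩, hzw⟩ := IsLocalization.exists_mk'_eq (M.map iA) (Φ e)
    have hE : (algebraMap T L z) ^ 2 * algebraMap T L (iA c) = algebraMap T L z * algebraMap T L (iA c) ^ 2 := by
      have h1 : Φ e * algebraMap T L (iA c) = algebraMap T L z := by
        rw [← hzw]; exact IsLocalization.mk'_spec L z _
      rw [← h1]
      linear_combination (algebraMap T L (iA c)) ^ 3 * (he.map Φ).eq
    rw [← map_pow, ← map_pow, ← map_mul, ← map_mul, IsLocalization.eq_iff_exists (M.map iA) L] at hE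
    obtain ⟨⟨_, d, hd, rfl⟩, hd'⟩ := hE
    let cd : R' := c * d
    have hcd : cd ≠ 0 := mul_ne_zero (nonZeroDivisors.ne_zero hc) (nonZeroDivisors.ne_zero hd)
    let B := Localization.Away (iR cd)
    let jB : T →+* B := (algebraMap RX'' B).comp ι
    have hun : IsUnit (jB (iA cd)) := by
      show IsUnit (algebraMap RX'' B (ι (cd ⊗ₜ 1)))
      rw [hιl]
      exact IsLocalization.Away.algebraMap_isUnit (iR cd)
    have hσu : IsUnit ((algebraMap T L).comp ρ (iR cd)) := by
      rw [RingHom.comp_apply, ← hιl, ← RingHom.comp_apply ρ, hρι, RingHom.id_apply]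
      exact IsLocalization.map_units L (⟨_, Submonoid.mem_map_of_mem iA (mul_mem hc hd)⟩ : M.map iA)
    let σ : B →+* L := IsLocalization.Away.lift (iR cd) hσu
    have hσ : σ.comp jB = algebraMap T L := by
      show σ.comp ((algebraMap RX'' B).comp ι) = _
      rw [← RingHom.comp_assoc, IsLocalization.Away.lift_comp, RingHom.comp_assoc, hρι, RingHom.comp_id]
    have hun' : IsUnit (jB (iA c) * jB (iA d)) :=
      Eq.mp (congrArg IsUnit ((congrArg jB (map_mul iA c d)).trans (map_mul jB _ _))) hun
    have huc : IsUnit (jB (iA c)) := isUnit_of_mul_isUnit_left hun'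
    have hud : IsUnit (jB (iA d)) := isUnit_of_mul_isUnit_right hun'
    obtain ⟨v, hv⟩ := huc
    let E : B := jB z * ↑v⁻¹
    have hEid : IsIdempotentElem E := by
      have h2 := congrArg jB hd'
      simp only [map_mul, map_pow, ← hv] at h2
      have h3 := hud.mul_left_cancel h2
      show jB z * ↑v⁻¹ * (jB z * ↑v⁻¹) = jB z * ↑v⁻¹
      have hvv : (↑v : B) * ↑v⁻¹ = 1 := v.mul_inv
      linear_combination (↑v⁻¹ : B) ^ 3 * h3 - (jB z ^ 2 * (↑v⁻¹ : B) ^ 2) * hvv +
        (jB z * ↑v⁻¹ * ((↑v : B) * ↑v⁻¹ + 1)) * hvv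
    have hσE : σ E = Φ e := by
      rw [← hzw, IsLocalization.eq_mk'_iff_mul_eq]
      show σ E * algebraMap T L (iA c) = algebraMap T L z
      rw [← hσ]
      show σ E * σ (jB (iA c)) = σ (jB z)
      rw [← map_mul, ← hv, Units.inv_mul_cancel_right]
    rcases hconn cd hcd E hEid with h0 | h1
    · exact Or.inl (by rw [← hσE, h0, map_zero])
    · exact Or.inr (by rw [← hσE, h1, map_one])
  rcases key with h | h
  · left; rw [← RingHom.id_apply e, ← hΨΦ, RingHom.comp_apply, h, map_zero]
  · right; rw [← RingHom.id_apply e, ← hΨΦ, RingHom.comp_apply, h, map_one]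

end Strict

/-- Geometric fibres of strict localizations of universally locally 0-acyclic morphisms are connected. -/
theorem connectedSpace_fibre_strictLoc {S : Scheme.{u}} (a : X ⟶ S) (ha : EtAcyc.IsULocZeroAcyclic a) (x : X)
    (RS RX : Type u) [CommRing RS] [IsLocalRing RS]
    [Algebra (S.presheaf.stalk (a.base x)) RS] [IsLocalHom (algebraMap (S.presheaf.stalk (a.base x)) RS)]
    [Hensel.IsStrictHenselization (S.presheaf.stalk (a.base x)) RS]
    [CommRing RX] [IsLocalRing RX] [Algebra (X.presheaf.stalk x) RX]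
    [IsLocalHom (algebraMap (X.presheaf.stalk x) RX)] [Hensel.IsStrictHenselization (X.presheaf.stalk x) RX]
    (ψ : RS →+* RX) [IsLocalHom ψ]
    (hψ : ψ.comp (algebraMap (S.presheaf.stalk (a.base x)) RS) =
      (algebraMap (X.presheaf.stalk x) RX).comp (a.stalkMap x).hom)
    (Ω : Type u) [Field Ω] [IsAlgClosed Ω] (η : Spec (CommRingCat.of Ω) ⟶ Spec (CommRingCat.of RS)) :
    ConnectedSpace ↥(pullback (Spec.map (CommRingCat.ofHom ψ)) η) := by
  letI : Algebra RS RX := ψ.toAlgebra
  haveI : IsLocalHom (algebraMap RS RX) := ‹IsLocalHom ψ›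
  haveI := surjective_of_univSubmersive (isUnivSubmersive_strictLoc a x RS RX ψ hψ ha)
  letI : Algebra RS Ω := (Spec.preimage η).hom.toAlgebra
  let p := RingHom.ker (algebraMap RS Ω)
  haveI : p.IsPrime := RingHom.ker_isPrime _
  let κ := p.ResidueField
  letI : Algebra κ Ω := (Ideal.ResidueField.lift p (algebraMap RS Ω) le_rfl fun x hx =>
    isUnit_iff_ne_zero.mpr fun h0 => hx h0).toAlgebra
  haveI : IsScalarTower RS κ Ω :=
    .of_algebraMap_eq fun r => (Ideal.ResidueField.lift_algebraMap (I := p) (algebraMap RS Ω) le_rfl _ r).symm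
  let kb := AlgebraicClosure κ
  let j : kb →ₐ[κ] Ω := IsAlgClosed.lift
  letI : Algebra kb Ω := j.toRingHom.toAlgebra
  haveI : IsScalarTower κ kb Ω := IsScalarTower.of_algebraMap_eq fun z => (j.commutes z).symm
  haveI : IsScalarTower RS kb Ω := IsScalarTower.of_algebraMap_eq fun r => by
    rw [IsScalarTower.algebraMap_apply RS κ Ω, IsScalarTower.algebraMap_apply RS κ kb,
      ← IsScalarTower.algebraMap_apply κ kb Ω]
  have halg : ∀ z : kb, ∃ d : RS, algebraMap RS kb d ≠ 0 ∧ IsIntegral RS (algebraMap RS kb d * z) := fun z => by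
    have h1 : IsAlgebraic (RS ⧸ p) z :=
      (IsFractionRing.isAlgebraic_iff (RS ⧸ p) κ kb).2 (Algebra.IsAlgebraic.isAlgebraic z)
    obtain ⟨y, hy, hint⟩ := h1.exists_integral_multiple
    obtain ⟨d, rfl⟩ := Ideal.Quotient.mk_surjective y
    refine ⟨d, ?_, ?_⟩
    · rw [IsScalarTower.algebraMap_apply RS κ kb, ne_eq, map_eq_zero, Ideal.algebraMap_residueField_eq_zero]
      exact fun h => hy (Ideal.Quotient.eq_zero_iff_mem.2 h)
    · have := isIntegral_trans (R := RS) _ hint
      rwa [Algebra.smul_def, ← Ideal.Quotient.algebraMap_eq, ← IsScalarTower.algebraMap_apply RS (RS ⧸ p) kb] at this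
  haveI hne : Nontrivial (kb ⊗[RS] RX) := by
    have hpb : Nonempty ↥(pullback (Spec.map (CommRingCat.ofHom (algebraMap RS kb)))
        (Spec.map (CommRingCat.ofHom (algebraMap RS RX)))) := by
      obtain ⟨y, hy⟩ := (Spec.map (CommRingCat.ofHom ψ)).surjective
        (Spec.map (CommRingCat.ofHom (algebraMap RS kb)) default)
      obtain ⟨z, -⟩ := Scheme.Pullback.exists_preimage_pullback default y hy.symm
      exact ⟨z⟩
    haveI : Nonempty (PrimeSpectrum (kb ⊗[RS] RX)) :=
      hpb.map (pullbackSpecIso RS kb RX).hom.base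
    exact PrimeSpectrum.nonempty_iff_nontrivial.1 inferInstance
  haveI : ConnectedSpace (PrimeSpectrum (kb ⊗[RS] RX)) :=
    H9Hens.connectedSpace_of_idempotents fun e he => eq_zero_or_one_fibre a x RS RX hψ ha kb halg he
  haveI : ConnectedSpace (PrimeSpectrum (Ω ⊗[kb] (kb ⊗[RS] RX))) :=
    H02CA.GeomIrred.connectedSpace_of_isSepClosed (k := kb) (kb ⊗[RS] RX) Ω
  haveI : ConnectedSpace ↥(Spec (CommRingCat.of (RX ⊗[RS] Ω))) :=
    H02CA.GeomIrred.connectedSpace_of_ringEquiv
      ((Algebra.TensorProduct.comm RS RX Ω).toRingEquiv.trans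
        (Algebra.TensorProduct.cancelBaseChange RS kb Ω Ω RX).symm.toRingEquiv) inferInstance
  rw [← show Spec.map (CommRingCat.ofHom (algebraMap RS Ω)) = η from Spec.map_preimage η]
  exact (pullbackSpecIso RS RX Ω).inv.homeomorph.surjective.connectedSpace
    (pullbackSpecIso RS RX Ω).inv.homeomorph.continuous

end Groth.Agent.H11SetBC
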