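import Groth.Agent.H11SetBC.Apply
import Groth.Agent.H11SetBC.ZeroAcyclic
import Groth.Agent.H11SetBC.ZeroAcyclicConn
import Groth.Agent.H1WE.Olivier
import Groth.Agent.H14Acyc.StrictMaps

/-!
# Submersive maps of strict localizations with connected fibres; invariance under universal homeomorphisms
-/

set_option autoImplicit false
set_option linter.style.haveILetI false
set_option linter.unusedSectionVars false
set_option backward.isDefEq.respectTransparency false
set_option backward.isDefEq.respectTransparency.types false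

universe u

open CategoryTheory CategoryTheory.Limits AlgebraicGeometry Opposite IsLocalRing
open scoped TensorProduct Groth.Agent.H18Et

namespace Groth.Agent.H11SetBC

open H18PBC H15Site.SetDescent

variable {X Y : Scheme.{u}}

/-- Maps of strict localizations are universally submersive with connected geometric fibres. -/
def SubConnFibres (f : X ⟶ Y) : Prop :=
  ∀ (x : X) (RS : Type u) [CommRing RS] [IsLocalRing RS] [Algebra (Y.presheaf.stalk (f.base x)) RS]
    [IsLocalHom (algebraMap (Y.presheaf.stalk (f.base x)) RS)]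
    [Hensel.IsStrictHenselization (Y.presheaf.stalk (f.base x)) RS]
    (RX : Type u) [CommRing RX] [IsLocalRing RX] [Algebra (X.presheaf.stalk x) RX]
    [IsLocalHom (algebraMap (X.presheaf.stalk x) RX)] [Hensel.IsStrictHenselization (X.presheaf.stalk x) RX]
    (ψ : RS →+* RX) [IsLocalHom ψ],
    ψ.comp (algebraMap (Y.presheaf.stalk (f.base x)) RS) = (algebraMap (X.presheaf.stalk x) RX).comp (f.stalkMap x).hom →
    EtDesc.IsUnivSubmersive (Spec.map (CommRingCat.ofHom ψ)) ∧
      ∀ (Ω : Type u) [Field Ω] [IsAlgClosed Ω] (η : Spec (CommRingCat.of Ω) ⟶ Spec (CommRingCat.of RS)),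
      ConnectedSpace ↥(pullback (Spec.map (CommRingCat.ofHom ψ)) η)

theorem subConn_of_shConn {f : X ⟶ Y} (H : SHConnFibres f) : SubConnFibres f := by
  intro x RS _ _ _ _ _ RX _ _ _ _ _ ψ _ hψ
  obtain ⟨hfl, hc⟩ := H x RS RX ψ hψ
  letI := ψ.toAlgebra
  haveI : Module.Flat RS RX := hfl
  haveI : IsLocalHom (algebraMap RS RX) := ‹IsLocalHom ψ›
  haveI : Module.FaithfullyFlat RS RX := Module.FaithfullyFlat.of_flat_of_isLocalHom
  haveI : Flat (Spec.map (CommRingCat.ofHom ψ)) := Flat.SpecMap_iff.2 hfl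
  haveI : Surjective (Spec.map (CommRingCat.ofHom ψ)) :=
    ⟨PrimeSpectrum.comap_surjective_of_faithfullyFlat (A := RS) (B := RX)⟩
  exact ⟨isUnivSubmersive_of_flat _, hc⟩

theorem isUnivSubmersive_of_closed (f : X ⟶ Y) [UniversallyClosed f] [Surjective f] :
    EtDesc.IsUnivSubmersive f := fun _ j =>
  ⟨(pullback.snd f j).surjective,
    (pullback.snd f j).isClosedMap.isQuotientMap (pullback.snd f j).continuous (pullback.snd f j).surjective⟩

theorem isUnivSubmersive_baseChange {P T : Scheme.{u}} {f : X ⟶ Y} {p : P ⟶ X} {q : P ⟶ T} {j : T ⟶ Y}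
    (sq : IsPullback p q f j) (hf : EtDesc.IsUnivSubmersive f) : EtDesc.IsUnivSubmersive q := by
  intro W k
  let hpb := (IsPullback.of_hasPullback q k).paste_horiz sq
  obtain ⟨h1, h2⟩ := hf W (k ≫ j)
  rw [← hpb.isoPullback_hom_snd, Scheme.Hom.comp_base, TopCat.coe_comp]
  have he : Topology.IsQuotientMap hpb.isoPullback.hom.base := hpb.isoPullback.hom.homeomorph.isQuotientMap
  exact ⟨h1.comp he.surjective, h2.comp he⟩

theorem isUnivSubmersive_comp {Z : Scheme.{u}} {f : X ⟶ Y} {g : Y ⟶ Z} (hf : EtDesc.IsUnivSubmersive f)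
    (hg : EtDesc.IsUnivSubmersive g) : EtDesc.IsUnivSubmersive (f ≫ g) := by
  intro W j
  obtain ⟨a1, a2⟩ := hg W j
  obtain ⟨b1, b2⟩ := hf _ (pullback.fst g j)
  let hpb := (IsPullback.of_hasPullback f (pullback.fst g j)).paste_vert (IsPullback.of_hasPullback g j)
  have hk : hpb.isoPullback.hom ≫ pullback.snd (f ≫ g) j = pullback.snd f (pullback.fst g j) ≫ pullback.snd g j :=
    hpb.isoPullback_hom_snd
  have h3 : Topology.IsQuotientMap (pullback.snd f (pullback.fst g j) ≫ pullback.snd g j).base := by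
    rw [Scheme.Hom.comp_base, TopCat.coe_comp]; exact a2.comp b2
  rw [← hk, Scheme.Hom.comp_base, TopCat.coe_comp] at h3
  have h4 := h3.of_comp hpb.isoPullback.hom.continuous (pullback.snd (f ≫ g) j).continuous
  exact ⟨h4.surjective, h4⟩

theorem isUnivSubmersive_of_comp {Z : Scheme.{u}} {f : X ⟶ Y} {g : Y ⟶ Z} (h : EtDesc.IsUnivSubmersive (f ≫ g)) :
    EtDesc.IsUnivSubmersive g := by
  intro W j
  let k : pullback (f ≫ g) j ⟶ pullback g j :=
    pullback.map (f ≫ g) j g j f (𝟙 _) (𝟙 _) (Category.comp_id _) (by simp)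
  have hk : k ≫ pullback.snd g j = pullback.snd (f ≫ g) j := (pullback.lift_snd _ _ _).trans (Category.comp_id _)
  have h2 : Topology.IsQuotientMap (k ≫ pullback.snd g j).base := by rw [hk]; exact (h W j).2
  rw [Scheme.Hom.comp_base, TopCat.coe_comp] at h2
  have h4 := h2.of_comp k.continuous (pullback.snd g j).continuous
  exact ⟨h4.surjective, h4⟩

/-- Submersive maps of strict localizations with connected fibres give local 0-acyclicity. -/
theorem isLocZeroAcyclic_of_subConn {f : X ⟶ Y} (H : SubConnFibres f) : EtAcyc.IsLocZeroAcyclic f := by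
  intro x RY RX _ _ _ _ _ _ _ _ _ _ _ _ hcomm
  obtain ⟨hus, hc⟩ := H x RY RX (algebraMap RY RX) hcomm
  let ψ := Spec.map (CommRingCat.ofHom (algebraMap RY RX))
  haveI : GeometricallyConnected ψ := H9Et.geometricallyConnected_of_algClosed ψ hc
  intro V F
  haveI : GeometricallyConnected (EtAcyc.prj ψ V) := MorphismProperty.pullback_fst _ _ inferInstance
  exact isIso_unit_geomConn _ F (isUnivSubmersive_baseChange (IsPullback.of_hasPullback V.hom ψ).flip hus)

/-- Over the point `z` the morphism is an integral universal homeomorphism. -/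
def UHomeoNear {Z' Z : Scheme.{u}} (u : Z' ⟶ Z) (z : Z) : Prop :=
  ∀ (A : Type u) [CommRing A] [IsLocalRing A] (q : Spec (CommRingCat.of A) ⟶ Z), q (closedPoint A) = z →
    IsIntegralHom (pullback.snd u q) ∧ UniversallyInjective (pullback.snd u q) ∧ Surjective (pullback.snd u q)

section UHomeo

variable {Z' Z : Scheme.{u}} {u : Z' ⟶ Z}

theorem uHomeoNear_of_global (u : Z' ⟶ Z) [IsIntegralHom u] [UniversallyInjective u] [Surjective u] (z : Z) :
    UHomeoNear u z := fun _ _ _ q _ =>
  ⟨MorphismProperty.pullback_snd _ _ inferInstance, MorphismProperty.pullback_snd _ _ inferInstance, inferInstance⟩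

theorem uHomeoNear_comp_open {U : Scheme.{u}} (u0 : Z' ⟶ U) [IsIntegralHom u0] [UniversallyInjective u0] [Surjective u0]
    (j : U ⟶ Z) [IsOpenImmersion j] (z : Z) (hz : z ∈ Set.range j) : UHomeoNear (u0 ≫ j) z := by
  intro A _ _ q hq
  have hr : Set.range q ⊆ Set.range j := by
    rintro _ ⟨p, rfl⟩
    refine (j.isOpenEmbedding.isOpen_range).stableUnderGeneralization ?_ hz
    rw [← hq]
    exact (IsLocalRing.specializes_closedPoint p).map q.continuous
  let q0 := IsOpenImmersion.lift j q hr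
  have hfac : q0 ≫ j = q := IsOpenImmersion.lift_fac j q hr
  have h1 : IsPullback (pullback.fst (u0 ≫ j) q) (pullback.snd (u0 ≫ j) q) u0 q0 := by
    refine ⟨⟨(cancel_mono j).1 ?_⟩, ⟨PullbackCone.IsLimit.mk _ (fun s => pullback.lift s.fst s.snd ?_)
      (fun _ => pullback.lift_fst _ _ _) (fun _ => pullback.lift_snd _ _ _) (fun s m hm₁ hm₂ => ?_)⟩⟩
    · rw [Category.assoc, Category.assoc, hfac]; exact pullback.condition
    · rw [← hfac, ← Category.assoc, ← Category.assoc, s.condition]
    · exact pullback.hom_ext (hm₁.trans (pullback.lift_fst _ _ _).symm) (hm₂.trans (pullback.lift_snd _ _ _).symm)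
  exact ⟨MorphismProperty.of_isPullback (P := @IsIntegralHom) h1 inferInstance,
    MorphismProperty.of_isPullback (P := @UniversallyInjective) h1 inferInstance,
    MorphismProperty.of_isPullback (P := @Surjective) h1 inferInstance⟩

theorem UHomeoNear.baseChange {Z₁ Z₁' : Scheme.{u}} {u₁ : Z₁' ⟶ Z₁} {b' : Z₁' ⟶ Z'} {b : Z₁ ⟶ Z}
    (sq : IsPullback b' u₁ u b) (z₁ : Z₁) (h : UHomeoNear u (b z₁)) : UHomeoNear u₁ z₁ := by
  intro A _ _ q hq
  let hpb := (IsPullback.of_hasPullback u₁ q).paste_horiz sq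
  obtain ⟨h1, h2, h3⟩ := h A (q ≫ b) (by rw [Scheme.Hom.comp_apply, hq])
  rw [← hpb.isoPullback_hom_snd]
  exact ⟨inferInstance, (MorphismProperty.cancel_left_of_respectsIso @UniversallyInjective _ _).2 h2, inferInstance⟩

/-- Strict localizations along a universal homeomorphism. -/
theorem uHomeo_strictLoc (z' : Z') (z : Z) (R R' : Type u) [CommRing R] [IsLocalRing R]
    [Algebra (Z.presheaf.stalk z) R] [IsLocalHom (algebraMap (Z.presheaf.stalk z) R)]
    [Hensel.IsStrictHenselization (Z.presheaf.stalk z) R]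
    [CommRing R'] [IsLocalRing R'] [Algebra (Z'.presheaf.stalk z') R']
    [IsLocalHom (algebraMap (Z'.presheaf.stalk z') R')] [Hensel.IsStrictHenselization (Z'.presheaf.stalk z') R']
    (σ : R →+* R') [IsLocalHom σ]
    (hσ : Spec.map (CommRingCat.ofHom σ) ≫ Hens2.specOf Z z R = Hens2.specOf Z' z' R' ≫ u)
    (hu : UHomeoNear u z) :
    IsIntegralHom (Spec.map (CommRingCat.ofHom σ)) ∧ UniversallyInjective (Spec.map (CommRingCat.ofHom σ)) ∧
      Surjective (Spec.map (CommRingCat.ofHom σ)) := by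
  haveI : HenselianLocalRing R := Hensel.IsStrictHenselization.henselian (R := Z.presheaf.stalk z)
  haveI : IsSepClosed (ResidueField R) :=
    (Hensel.IsStrictHenselization.isSepClosure (R := Z.presheaf.stalk z) (S := R)).sep_closed
  have hq : Hens2.specOf Z z R (closedPoint R) = z := by
    show Z.fromSpecStalk z (Spec.map (CommRingCat.ofHom (algebraMap (Z.presheaf.stalk z) R)) (closedPoint R)) = z
    rw [show Spec.map (CommRingCat.ofHom (algebraMap (Z.presheaf.stalk z) R)) (closedPoint R) =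
      closedPoint (Z.presheaf.stalk z) from comap_closedPoint _]
    exact Scheme.fromSpecStalk_closedPoint
  obtain ⟨h1, h2, h3⟩ := hu R (Hens2.specOf Z z R) hq
  let q := Hens2.specOf Z z R
  let k : Spec (CommRingCat.of R') ⟶ pullback u q :=
    pullback.lift (Hens2.specOf Z' z' R') (Spec.map (CommRingCat.ofHom σ)) hσ.symm
  haveI := weaklyEtale_specOf Z z R
  haveI := weaklyEtale_specOf Z' z' R'
  haveI : WeaklyEtale (pullback.fst u q) := inferInstance
  haveI : WeaklyEtale (k ≫ pullback.fst u q) := by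
    rw [show k ≫ pullback.fst u q = Hens2.specOf Z' z' R' from pullback.lift_fst _ _ _]; infer_instance
  haveI : WeaklyEtale k := WeaklyEtale.of_comp k (pullback.fst u q)
  haveI : IsAffine (pullback u q) := isAffine_of_isAffineHom (pullback.snd u q)
  let T : Type u := Γ(pullback u q, ⊤)
  let sT : Spec (CommRingCat.of T) ⟶ Spec (CommRingCat.of R) := (pullback u q).isoSpec.inv ≫ pullback.snd u q
  let kT : Spec (CommRingCat.of R') ⟶ Spec (CommRingCat.of T) := k ≫ (pullback u q).isoSpec.hom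
  obtain ⟨s, hs⟩ := Spec.map_surjective sT
  obtain ⟨φ, hφ⟩ := Spec.map_surjective kT
  haveI : IsIntegralHom sT := inferInstanceAs (IsIntegralHom (_ ≫ _))
  haveI : UniversallyInjective sT := (MorphismProperty.cancel_left_of_respectsIso @UniversallyInjective _ _).2 h2
  haveI : Surjective sT := inferInstanceAs (Surjective (_ ≫ _))
  have hint : s.hom.IsIntegral := (IsIntegralHom.SpecMap_iff).1 (hs ▸ inferInstance)
  haveI : Nontrivial T := by
    obtain ⟨t, -⟩ := sT.surjective (closedPoint R)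
    exact PrimeSpectrum.nonempty_iff_nontrivial.1 ⟨t⟩
  letI : Algebra R T := s.hom.toAlgebra
  haveI : Algebra.IsIntegral R T := ⟨hint⟩
  have hpt : ∀ M : Ideal T, M.IsMaximal → M.comap s.hom = maximalIdeal R := fun M hM =>
    eq_maximalIdeal (Ideal.isMaximal_comap_of_isIntegral_of_isMaximal (R := R) M)
  have hinj : ∀ p p' : PrimeSpectrum T, p.asIdeal.comap s.hom = p'.asIdeal.comap s.hom → p = p' := fun p p' h => by
    refine sT.injective ?_
    rw [← hs]
    exact PrimeSpectrum.ext h
  haveI : IsLocalRing T := by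
    obtain ⟨M, hM⟩ := Ideal.exists_maximal T
    refine IsLocalRing.of_unique_max_ideal ⟨M, hM, fun N hN => ?_⟩
    exact congrArg PrimeSpectrum.asIdeal (hinj ⟨N, hN.isPrime⟩ ⟨M, hM.isPrime⟩ ((hpt N hN).trans (hpt M hM).symm))
  haveI : IsLocalHom (algebraMap R T) :=
    ((IsLocalRing.local_hom_TFAE (algebraMap R T)).out 4 0).1 (hpt _ (maximalIdeal.isMaximal T))
  obtain ⟨hT, halg⟩ := H9Hens.henselian_of_isIntegral (R := R) (T := T)
  haveI : IsSepClosed (ResidueField T) := H9Hens.isSepClosed_of_isAlgebraic (ResidueField R)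
  have hσφ : φ.hom.comp s.hom = σ := by
    refine congrArg CommRingCat.Hom.hom (Spec.map_injective (a₁ := s ≫ φ) (a₂ := CommRingCat.ofHom σ) ?_)
    rw [Spec.map_comp, hs, hφ]
    show (k ≫ (pullback u q).isoSpec.hom) ≫ (pullback u q).isoSpec.inv ≫ pullback.snd u q = _
    rw [Category.assoc, Iso.hom_inv_id_assoc]
    exact pullback.lift_snd _ _ _
  letI : Algebra T R' := φ.hom.toAlgebra
  haveI : IsLocalHom (algebraMap T R') := by
    refine ((IsLocalRing.local_hom_TFAE (algebraMap T R')).out 4 0).1 ?_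
    refine congrArg PrimeSpectrum.asIdeal (hinj ⟨(maximalIdeal R').comap φ.hom, Ideal.IsPrime.comap _⟩
      ⟨maximalIdeal T, (maximalIdeal.isMaximal T).isPrime⟩ ?_)
    rw [hpt _ (maximalIdeal.isMaximal T), Ideal.comap_comap, hσφ]
    exact ((IsLocalRing.local_hom_TFAE σ).out 0 4 rfl rfl).1 ‹IsLocalHom σ›
  haveI : Algebra.WeaklyEtale T R' := by
    refine (H8Props.WeakEtaleScheme.weaklyEtale_SpecMap_algebraMap T R').1 ?_
    show WeaklyEtale (Spec.map φ)
    rw [hφ]
    infer_instance
  haveI : IsIso φ := (ConcreteCategory.isIso_iff_bijective φ).2 (H1WE.bijective_of_weaklyEtale (A := T) (B := R'))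
  have e : Spec.map (CommRingCat.ofHom σ) = Spec.map φ ≫ Spec.map s := by
    rw [← Spec.map_comp, ← hσφ]; rfl
  rw [e, hs]
  exact ⟨inferInstance, (MorphismProperty.cancel_left_of_respectsIso @UniversallyInjective _ _).2 inferInstance, inferInstance⟩

end UHomeo

/-- Invariance under universal homeomorphisms near the points. -/
theorem subConn_of_square {X' Y' : Scheme.{u}} {a : X ⟶ Y} {a' : X' ⟶ Y'} {u : X' ⟶ X} {v : Y' ⟶ Y}
    (w : u ≫ a = a' ≫ v) (H : SubConnFibres a') (x : X) (hu : UHomeoNear u x) (hv : UHomeoNear v (a x))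
    (RS : Type u) [CommRing RS] [IsLocalRing RS] [Algebra (Y.presheaf.stalk (a.base x)) RS]
    [IsLocalHom (algebraMap (Y.presheaf.stalk (a.base x)) RS)]
    [Hensel.IsStrictHenselization (Y.presheaf.stalk (a.base x)) RS]
    (RX : Type u) [CommRing RX] [IsLocalRing RX] [Algebra (X.presheaf.stalk x) RX]
    [IsLocalHom (algebraMap (X.presheaf.stalk x) RX)] [Hensel.IsStrictHenselization (X.presheaf.stalk x) RX]
    (ψ : RS →+* RX) [IsLocalHom ψ]
    (hψ : ψ.comp (algebraMap (Y.presheaf.stalk (a.base x)) RS) = (algebraMap (X.presheaf.stalk x) RX).comp (a.stalkMap x).hom) :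
    EtDesc.IsUnivSubmersive (Spec.map (CommRingCat.ofHom ψ)) ∧
      ∀ (Ω : Type u) [Field Ω] [IsAlgClosed Ω] (η : Spec (CommRingCat.of Ω) ⟶ Spec (CommRingCat.of RS)),
      ConnectedSpace ↥(pullback (Spec.map (CommRingCat.ofHom ψ)) η) := by
  obtain ⟨x', rfl⟩ : ∃ x', u x' = x := by
    obtain ⟨-, -, hsu⟩ := hu (X.presheaf.stalk x) (X.fromSpecStalk x) Scheme.fromSpecStalk_closedPoint
    obtain ⟨p, hp⟩ := hsu.surj (closedPoint (X.presheaf.stalk x))
    refine ⟨pullback.fst u (X.fromSpecStalk x) p, ?_⟩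
    rw [← Scheme.Hom.comp_apply, pullback.condition, Scheme.Hom.comp_apply]
    exact (congrArg (X.fromSpecStalk x) hp).trans Scheme.fromSpecStalk_closedPoint
  obtain ⟨RS', RX', _, _, _, _, _, _, hRS', _, _, hRX', ψ', hψ'l, hψ'⟩ := exists_strictLoc a' x'
  haveI := hRS'
  haveI := hRX'
  haveI : HenselianLocalRing RS' := hRS'.henselian
  haveI : IsSepClosed (ResidueField RS') := hRS'.isSepClosure.sep_closed
  haveI : HenselianLocalRing RX' := hRX'.henselian
  haveI : IsLocalHom (u.stalkMap x').hom := inferInstance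
  obtain ⟨σX, hσXl, hσX⟩ := H14Acyc.exists_map (B' := RX) (C' := RX') (u.stalkMap x').hom
  haveI := hσXl
  have hXsq : Spec.map (CommRingCat.ofHom σX) ≫ Hens2.specOf X (u x') RX = Hens2.specOf X' x' RX' ≫ u :=
    specMap_specOf u x' RX RX' σX hσX
  let q := Hens2.specOf Y' (a' x') RS' ≫ v
  have hq : q (closedPoint RS') = a (u x') := by
    rw [show a (u x') = v (a' x') from congrArg (fun k : X' ⟶ Y => k x') w]
    refine congrArg v ?_
    show Y'.fromSpecStalk (a' x') (Spec.map (CommRingCat.ofHom (algebraMap (Y'.presheaf.stalk (a' x')) RS'))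
      (closedPoint RS')) = a' x'
    rw [show Spec.map (CommRingCat.ofHom (algebraMap (Y'.presheaf.stalk (a' x')) RS')) (closedPoint RS') =
      closedPoint (Y'.presheaf.stalk (a' x')) from comap_closedPoint _]
    exact Scheme.fromSpecStalk_closedPoint
  obtain ⟨hS, hSl, hhS⟩ := exists_stalk_factor q (a (u x')) hq
  haveI := hSl
  haveI : IsLocalHom (σX.comp ψ) := RingHom.isLocalHom_comp _ _
  have hhv : ψ'.comp hS = (σX.comp ψ).comp (algebraMap (Y.presheaf.stalk (a (u x'))) RS) := by
    refine ringHom_eq_of_fromSpecStalk ?_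
    have h2 : Spec.map (CommRingCat.ofHom ((σX.comp ψ).comp (algebraMap (Y.presheaf.stalk (a (u x'))) RS))) ≫
        Y.fromSpecStalk (a (u x')) =
        Spec.map (CommRingCat.ofHom σX) ≫ Spec.map (CommRingCat.ofHom ψ) ≫ Hens2.specOf Y (a (u x')) RS := by
      rw [CommRingCat.ofHom_comp, CommRingCat.ofHom_comp, Spec.map_comp, Spec.map_comp]
      simp only [Category.assoc]
    rw [h2, specMap_specOf a (u x') RS RX ψ hψ, ← Category.assoc, hXsq, CommRingCat.ofHom_comp, Spec.map_comp,
      Category.assoc, hhS, Category.assoc, w]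
    show _ ≫ Hens2.specOf Y' (a' x') RS' ≫ v = _
    rw [← Category.assoc, specMap_specOf a' x' RS' RX' ψ' hψ', Category.assoc]
  obtain ⟨σS, ⟨hσSl, hσS, hσSψ⟩, -⟩ :=
    existsUnique_lift (G := RS) (L := Y.presheaf.stalk (a (u x'))) ψ' hS (σX.comp ψ) hhv
  haveI := hσSl
  have hSsq : Spec.map (CommRingCat.ofHom σS) ≫ Hens2.specOf Y (a (u x')) RS = Hens2.specOf Y' (a' x') RS' ≫ v := by
    show _ ≫ Spec.map _ ≫ _ = _
    rw [← Category.assoc, ← Spec.map_comp, ← CommRingCat.ofHom_comp, hσS, hhS]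
  obtain ⟨iX, jX, sX⟩ := uHomeo_strictLoc x' (u x') RX RX' σX hXsq hu
  obtain ⟨iS, jS, sS⟩ := uHomeo_strictLoc (a' x') (a (u x')) RS RS' σS hSsq hv
  obtain ⟨hus', hc'⟩ := H x' RS' RX' ψ' hψ'
  let P := Spec.map (CommRingCat.ofHom ψ)
  let P' := Spec.map (CommRingCat.ofHom ψ')
  let sS' := Spec.map (CommRingCat.ofHom σS)
  let sX' := Spec.map (CommRingCat.ofHom σX)
  have hsq : sX' ≫ P = P' ≫ sS' := by
    simp only [sX', P, P', sS', ← Spec.map_comp, ← CommRingCat.ofHom_comp, hσSψ]
  refine ⟨isUnivSubmersive_of_comp (f := sX') ?_, fun Ω _ _ η => ?_⟩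
  · rw [hsq]
    exact isUnivSubmersive_comp hus' (isUnivSubmersive_of_closed sS')
  obtain ⟨c, -⟩ := (pullback.snd sS' η).surjective default
  let L : Type u := AlgebraicClosure ((pullback sS' η).residueField c)
  let g : Spec (CommRingCat.of L) ⟶ pullback sS' η :=
    Spec.map (CommRingCat.ofHom (algebraMap ((pullback sS' η).residueField c) L)) ≫
      (pullback sS' η).fromSpecResidueField c
  let η' := g ≫ pullback.fst sS' η
  let τ := g ≫ pullback.snd sS' η
  have hη' : η' ≫ sS' = τ ≫ η := by simp only [η', τ, Category.assoc, pullback.condition]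
  haveI := hc' L η'
  haveI : Surjective τ := ⟨fun z => ⟨default, Subsingleton.elim _ _⟩⟩
  -- compare the fibres
  let m₁ : pullback P' η' ⟶ pullback (P' ≫ sS') (η' ≫ sS') :=
    pullback.map P' η' (P' ≫ sS') (η' ≫ sS') (𝟙 _) (𝟙 _) sS' (by simp) (by simp)
  haveI : Surjective (pullback.diagonal sS') :=
    ((tfae_universallyInjective sS').out 0 3 rfl rfl).1 jS
  haveI : Surjective m₁ :=
    MorphismProperty.of_isPullback (P := @Surjective) (pullback_map_diagonal_isPullback P' η' sS') inferInstance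
  let m₂ : pullback (P' ≫ sS') (η' ≫ sS') ⟶ pullback P η :=
    pullback.map (P' ≫ sS') (η' ≫ sS') P η sX' τ (𝟙 _) (by rw [Category.comp_id, hsq])
      (by rw [Category.comp_id, hη'])
  haveI : Surjective m₂ := ⟨fun z => by
    obtain ⟨r, hr⟩ := sX'.surjective (pullback.fst P η z)
    have : (P' ≫ sS') r = (η' ≫ sS') default := by
      rw [← hsq, hη', Scheme.Hom.comp_apply, hr, ← Scheme.Hom.comp_apply, pullback.condition, Scheme.Hom.comp_apply,
        Scheme.Hom.comp_apply]
      exact congrArg η (Subsingleton.elim _ _)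
    obtain ⟨t, ht⟩ := (Scheme.Pullback.range_map (f := P' ≫ sS') (g := η' ≫ sS') (f' := P) (g' := η)
      (i₁ := sX') (i₂ := τ) (e₁ := by rw [Category.comp_id, hsq]) (e₂ := by rw [Category.comp_id, hη'])).ge
      (show z ∈ pullback.fst P η ⁻¹' Set.range sX' ∩ pullback.snd P η ⁻¹' Set.range τ from
        ⟨⟨r, hr⟩, τ.surjective _⟩)
    exact ⟨t, ht⟩⟩
  haveI : Surjective (m₁ ≫ m₂) := inferInstance
  exact (m₁ ≫ m₂).surjective.connectedSpace (m₁ ≫ m₂).continuous

end Groth.Agent.H11SetBC
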