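import Groth.Agent.H11SetBC.SubDesc
import Groth.Agent.H11SetBC.SubConn
import Groth.Agent.H11SetBC.EtaleLocal
import Groth.Agent.H11SetBC.Main
import Groth.Agent.H05EGA4.Topo
import Groth.Agent.H15Site.EffDesc.RelLocus

/-!
# Local descent data along flat quasi-compact quasi-separated morphisms with connected fibres of strict localizations
-/

set_option autoImplicit false
set_option linter.style.haveILetI false
set_option linter.unusedSectionVars false
set_option backward.isDefEq.respectTransparency false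
set_option backward.isDefEq.respectTransparency.types false

universe u

open CategoryTheory CategoryTheory.Limits AlgebraicGeometry Opposite TopologicalSpace
open scoped Groth.Agent.H18Et

namespace Groth.Agent.H11SetBC.SubDesc

open H15Site.SetDescent H18Et H15Site.EffDesc H18PBC H18PBC.Fibre H18PBC.DegZero

variable {X' X : Scheme.{u}} {f : X' ⟶ X} {F' : EtDesc.Sh X'}
  {φ : (EtDesc.pullSh (pullback.fst f f)).obj F' ≅ (EtDesc.pullSh (pullback.snd f f)).obj F'}
  (hφ : EtDesc.IsCocycle F' φ)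

variable (φ) in
set_option maxHeartbeats 1600000 in
/-- A pointed section is related on a neighbourhood to a section over the inverse image of a neighbourhood. -/
theorem exists_pushSect_rel [QuasiCompact f] [QuasiSeparated f] (H : SubConnFibres f) {Ω : Type u} [Field Ω]
    [IsAlgClosed Ω] (U : X'.Etale) (l : Spec (CommRingCat.of Ω) ⟶ U.left) (σ : F'.obj.obj (op U)) :
    ∃ (W : X.Etale) (zW : Spec (CommRingCat.of Ω) ⟶ W.left) (_ : zW ≫ W.hom = (l ≫ U.hom) ≫ f)
      (s : F'.obj.obj (op ((EtCoh.bc f).obj W))) (C : X'.Etale) (a : C ⟶ (EtCoh.bc f).obj W) (b : C ⟶ U)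
      (zc : Spec (CommRingCat.of Ω) ⟶ C.left), zc ≫ a.left ≫ pullback.fst W.hom f = zW ∧ zc ≫ b.left = l ∧
      ∀ (L : Type u) [Field L] [IsSepClosed L] (c : Spec (CommRingCat.of L) ⟶ C.left)
        (y : Spec (CommRingCat.of L) ⟶ ((EtCoh.bc f).obj W).left),
        c ≫ a.left ≫ pullback.fst W.hom f = y ≫ pullback.fst W.hom f →
          Rel φ (⟨(EtCoh.bc f).obj W, y, s⟩ : PS F' L) ⟨U, c ≫ b.left, σ⟩ := by
  let ξ := l ≫ U.hom
  let p₁ := pullback.fst f f
  let p₂ := pullback.snd f f
  have c0 : IsPullback p₁ p₂ f f := IsPullback.of_hasPullback f f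
  haveI : IsIso (EtBC.baseChange0Sh f f p₂ p₁ c0.w F') := isIso_baseChange0Sh_of_submersive f H f p₂ p₁ c0 F'
  let F2 := (EtDesc.pullSh p₁).obj F'
  let t0 : F2.obj.obj (op ((EtCoh.bc p₂).obj U)) := φ.inv.hom.app _ (pullSect p₂ F' σ)
  obtain ⟨q, hq⟩ := (bijective_stalkBC f f p₂ p₁ c0.w F' ξ (ξ ≫ f) rfl).2
    (germ ξ ((EtDesc.pushSh p₂).obj F2) U (ptMk l rfl) t0)
  obtain ⟨W, zW, s, rfl⟩ := germ_surjective (ξ ≫ f) ((EtDesc.pushSh f).obj F') q
  let yl : Spec (CommRingCat.of Ω) ⟶ ((EtCoh.bc f).obj W).left := pullback.lift zW.left ξ (Over.w zW)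
  let y : (Scheme.pointSmallEtale ξ).fiber.obj ((EtCoh.bc f).obj W) := ptMk yl (pullback.lift_snd _ _ _)
  rw [stalkBC_germ f f p₂ p₁ c0.w F' ξ (ξ ≫ f) rfl zW y (pullback.lift_fst _ _ _) s] at hq
  obtain ⟨C, a, b, zc, hza, hzb, heq⟩ := exists_germ_common_sh ξ ((EtDesc.pushSh p₂).obj F2) _ _ _ _ hq
  have hza' : (show Spec (CommRingCat.of Ω) ⟶ C.left from zc.left) ≫ a.left = yl := congrArg (fun z => z.left) hza
  have hzb' : (show Spec (CommRingCat.of Ω) ⟶ C.left from zc.left) ≫ b.left = l := congrArg (fun z => z.left) hzb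
  refine ⟨W, zW.left, Over.w zW, s, C, a, b, zc.left, ?_, hzb', fun L _ _ c yW hc => ?_⟩
  · exact (Category.assoc _ _ _).symm.trans ((congrArg (· ≫ _) hza').trans (pullback.lift_fst _ _ _))
  let ka : (EtCoh.bc p₂).obj C ⟶ (EtCoh.bc p₁).obj ((EtCoh.bc f).obj W) :=
    (EtCoh.bc p₂).map a ≫ cMap f f p₂ p₁ c0.w W
  let kb : (EtCoh.bc p₂).obj C ⟶ (EtCoh.bc p₂).obj U := (EtCoh.bc p₂).map b
  let G2 := (EtDesc.pullSh p₂).obj F'
  have hsec : G2.obj.map ka.op (φ.hom.hom.app _ (pullSect p₁ F' s)) = G2.obj.map kb.op (pullSect p₂ F' σ) := by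
    have h1 : F2.obj.map ka.op (pullSect p₁ F' s) = F2.obj.map kb.op t0 := by
      show F2.obj.map ((EtCoh.bc p₂).map a ≫ cMap f f p₂ p₁ c0.w W).op _ = _
      rw [op_comp, Functor.map_comp_apply]
      exact heq
    have h2 := congrArg (fun r => φ.hom.hom.app (op ((EtCoh.bc p₂).obj C)) r) h1
    refine ((NatTrans.naturality_apply φ.hom.hom ka.op _).symm.trans h2).trans
      ((NatTrans.naturality_apply φ.hom.hom kb.op _).trans ?_)
    exact congrArg (G2.obj.map kb.op) (iso_app φ _ _)
  let w : Spec (CommRingCat.of L) ⟶ EtDesc.X2 f := pullback.lift (yW ≫ ((EtCoh.bc f).obj W).hom) (c ≫ C.hom) (by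
    show (yW ≫ pullback.snd W.hom f) ≫ f = _
    rw [show C.hom = a.left ≫ pullback.snd W.hom f from (Over.w a.hom).symm]
    simp only [Category.assoc, ← pullback.condition]
    exact (Category.assoc _ _ _).symm.trans ((congrArg (· ≫ W.hom) hc.symm).trans (by simp)))
  let yC : Spec (CommRingCat.of L) ⟶ ((EtCoh.bc p₂).obj C).left :=
    pullback.lift c w (pullback.lift_snd _ _ _).symm
  have e2 : yC ≫ kb.left ≫ pullback.fst U.hom p₂ = c ≫ b.left := by
    refine (congrArg (yC ≫ ·) (bc_map_fst p₂ b)).trans ?_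
    exact (Category.assoc _ _ _).symm.trans (congrArg (· ≫ b.left) (pullback.lift_fst _ _ _))
  have e1 : yC ≫ ka.left ≫ pullback.fst ((EtCoh.bc f).obj W).hom p₁ = yW := by
    refine pullback.hom_ext ?_ ?_
    · refine Eq.trans ?_ hc
      refine (Category.assoc _ _ _).trans ((congrArg (yC ≫ ·) ((Category.assoc _ _ _).trans
        ((Category.assoc _ _ _).trans (congrArg (((EtCoh.bc p₂).map a).left ≫ ·) (cMap_fst_fst f f p₂ p₁ c0.w W))))).trans ?_)
      refine (congrArg (yC ≫ ·) ((Category.assoc _ _ _).symm.trans (congrArg (· ≫ _) (bc_map_fst p₂ a)))).trans ?_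
      exact (Category.assoc _ _ _).symm.trans ((congrArg (· ≫ _) ((Category.assoc _ _ _).symm.trans
        (congrArg (· ≫ a.left) (pullback.lift_fst _ _ _)))).trans (Category.assoc _ _ _))
    · refine (Category.assoc _ _ _).trans ((congrArg (yC ≫ ·) ((Category.assoc _ _ _).trans
        ((congrArg (ka.left ≫ ·) pullback.condition).trans ((Category.assoc _ _ _).symm.trans
          (congrArg (· ≫ p₁) (Over.w ka.hom)))))).trans ?_)
      refine (Category.assoc _ _ _).symm.trans ((congrArg (· ≫ p₁) (pullback.lift_snd _ _ _)).trans ?_)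
      exact pullback.lift_fst _ _ _
  have h0 := (rel_iff_mem_agree (φ := φ) s σ ka kb yC).2 ((germ_eq_iff_mem_agree G2 (ptMk yC rfl) _ _).1 (by rw [hsec]))
  rwa [e1, e2] at h0

include hφ in
set_option maxHeartbeats 1600000 in
/-- **Local data along flat quasi-compact quasi-separated morphisms with connected fibres of strict localizations.** -/
theorem hasSubmersiveData_of_subConn [Flat f] [QuasiCompact f] [QuasiSeparated f] [Surjective f]
    (H : SubConnFibres f) : HasSubmersiveData φ := by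
  intro Ω _ _ p
  obtain ⟨U, l, σ⟩ := p
  obtain ⟨W, zW, hzW, s, C, a, b, zc, hza, hzb, hrel⟩ := exists_pushSect_rel φ H U l σ
  let Y := (EtCoh.bc f).obj W
  let π := pullback.fst W.hom f
  haveI : Etale W.hom := W.prop
  haveI : QuasiCompact π := MorphismProperty.pullback_fst _ _ ‹QuasiCompact f›
  haveI : Flat π := MorphismProperty.pullback_fst _ _ ‹Flat f›
  let π' : Y.left ⟶ W.left := π
  haveI : QuasiCompact π' := ‹QuasiCompact π›
  haveI : Flat π' := ‹Flat π›
  let P := pullback π' π'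
  let q : P ⟶ W.left := pullback.fst π' π' ≫ π'
  obtain ⟨L, hL⟩ := exists_relLocus φ s s (pullback.fst π' π') (pullback.snd π' π') (by
    have e : Y.hom ≫ f = π' ≫ W.hom := pullback.condition.symm
    refine (Category.assoc _ Y.hom f).trans ((congrArg (_ ≫ ·) e).trans ?_)
    refine Eq.trans ?_ ((congrArg (_ ≫ ·) e).symm.trans (Category.assoc _ Y.hom f).symm)
    exact (Category.assoc _ _ _).symm.trans ((congrArg (· ≫ W.hom) pullback.condition).trans (Category.assoc _ _ _)))
  let K : Closeds P := ⟨(L : Set P)ᶜ, L.isOpen.isClosed_compl⟩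
  let J := Scheme.IdealSheafData.vanishingIdeal K
  haveI : QuasiCompact (J.subschemeι ≫ q) := inferInstance
  let m : C.left ⟶ W.left := a.left ≫ π'
  haveI : Etale a.left := etale_left a
  haveI : Flat m := inferInstanceAs (Flat (a.left ≫ π'))
  have hwm : m.base (zc.base default) = zW.base default :=
    (Scheme.Hom.comp_apply _ _ _).symm.trans (congrArg (fun r : Spec (CommRingCat.of Ω) ⟶ W.left => r.base default) hza)
  have hw0 : zW.base default ∉ closure (Set.range (J.subschemeι ≫ q).base) := by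
    intro hcl
    obtain ⟨x, hx⟩ := H05EGA4.exists_specializes_of_mem_closure_range _ hcl
    rw [← hwm] at hx
    obtain ⟨c', -, hc'⟩ := Flat.generalizingMap m hx
    let x' : P := J.subschemeι.base x
    have hx'L : x' ∉ L := by
      have h : x' ∈ Set.range J.subschemeι.base := ⟨x, rfl⟩
      rw [Scheme.IdealSheafData.range_subschemeι] at h
      simpa [J, K] using h
    obtain ⟨Ω₁, _, _, t, ht⟩ : ∃ (Ω₁ : Type u) (_ : Field Ω₁) (_ : IsAlgClosed Ω₁)
        (t : Spec (CommRingCat.of Ω₁) ⟶ P), t.base default = x' :=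
      ⟨AlgebraicClosure (P.residueField x'), inferInstance, inferInstance,
        Spec.map (CommRingCat.ofHom (algebraMap (P.residueField x') _)) ≫ P.fromSpecResidueField x',
        (Scheme.Hom.comp_apply _ _ _).trans (P.fromSpecResidueField_apply x' _)⟩
    obtain ⟨Ω₂, _, _, ι, c, hc, -⟩ := exists_geom_lift m (t ≫ q) c' (by
      refine hc'.trans ?_
      show (J.subschemeι ≫ q).base x = (t ≫ q).base default
      rw [Scheme.Hom.comp_apply, Scheme.Hom.comp_apply]
      exact congrArg q.base ht.symm)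
    have hc1 : c ≫ a.left ≫ π' = (ι ≫ t ≫ pullback.fst π' π') ≫ π' := by
      simpa [m, q] using hc
    have hc2 : c ≫ a.left ≫ π' = (ι ≫ t ≫ pullback.snd π' π') ≫ π' := by
      simpa [m, q, pullback.condition] using hc
    have r1 := hrel Ω₂ c (ι ≫ t ≫ pullback.fst π' π') hc1
    have r2 := hrel Ω₂ c (ι ≫ t ≫ pullback.snd π' π') hc2
    have r := Rel.trans hφ r1 (Rel.symm hφ r2)
    refine hx'L (ht ▸ (hL Ω₁ t).1 ?_)
    refine (rel_pull_iff (φ := φ) ι (p := (⟨Y, t ≫ pullback.fst π' π', s⟩ : PS F' Ω₁))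
      (q := ⟨Y, t ≫ pullback.snd π' π', s⟩) ?_).1 r
    have e : Y.hom ≫ f = π' ≫ W.hom := pullback.condition.symm
    show ((t ≫ _) ≫ Y.hom) ≫ f = ((t ≫ _) ≫ Y.hom) ≫ f
    refine (Category.assoc _ Y.hom f).trans ((congrArg (_ ≫ ·) e).trans ?_)
    refine Eq.trans ?_ ((congrArg (_ ≫ ·) e).symm.trans (Category.assoc _ Y.hom f).symm)
    simp only [Category.assoc, pullback.condition_assoc]
  let O : W.left.Opens := ⟨(closure (Set.range (J.subschemeι ≫ q).base))ᶜ, isClosed_closure.isOpen_compl⟩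
  have hzr : Set.range zW.base ⊆ Set.range O.ι.base := by
    rintro _ ⟨r, rfl⟩
    rw [Subsingleton.elim r default, Scheme.Opens.range_ι]
    exact hw0
  let v := IsOpenImmersion.lift O.ι zW hzr
  have hv : v ≫ O.ι = zW := IsOpenImmersion.lift_fac _ _ _
  let V : X.Etale := Scheme.Etale.mk (O.ι ≫ W.hom)
  let oh : V ⟶ W := MorphismProperty.Over.homMk O.ι rfl trivial
  let h := pullback.fst V.hom f
  haveI : Flat h := MorphismProperty.pullback_fst _ _ ‹Flat f›
  haveI : QuasiCompact h := MorphismProperty.pullback_fst _ _ ‹QuasiCompact f›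
  haveI : Surjective h := MorphismProperty.pullback_fst _ _ ‹Surjective f›
  have hvV : v ≫ V.hom = (l ≫ U.hom) ≫ f := ((Category.assoc _ _ _).symm.trans (congrArg (· ≫ W.hom) hv)).trans hzW
  let aZ : ((EtCoh.bc f).obj V).left ⟶ Y.left := ((EtCoh.bc f).map oh).left
  have haZ : aZ ≫ π' = h ≫ O.ι := bc_map_fst f oh
  have hbcV : (aZ ≫ Y.hom) ≫ f = h ≫ V.hom := by
    rw [show aZ ≫ Y.hom = pullback.snd V.hom f from Over.w ((EtCoh.bc f).map oh).hom]
    exact pullback.condition.symm
  refine ⟨V, v, hvV, ((EtCoh.bc f).obj V).left, h, isUnivSubmersive_of_flat h, Y, s, aZ, hbcV,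
    fun Ω' _ _ z z' hzz => ?_, Ω, inferInstance, inferInstance, 𝟙 _, pullback.lift v (l ≫ U.hom) hvV, ?_, ?_⟩
  · let t : Spec (CommRingCat.of Ω') ⟶ P := pullback.lift (z ≫ aZ) (z' ≫ aZ) (by
      simp only [Category.assoc, haZ]; rw [← Category.assoc, hzz, Category.assoc])
    have htL : t.base default ∈ L := by
      by_contra hn
      obtain ⟨x, hx⟩ : t.base default ∈ Set.range J.subschemeι.base := by
        rw [Scheme.IdealSheafData.range_subschemeι]
        simpa [J, K] using hn
      have : (t ≫ q).base default ∈ O := by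
        rw [show t ≫ q = (z ≫ h) ≫ O.ι by simp [t, q, haZ], Scheme.Hom.comp_apply]
        exact ((z ≫ h).base default).2
      refine this (subset_closure ⟨x, ?_⟩)
      exact (Scheme.Hom.comp_apply J.subschemeι q x).trans
        ((congrArg q.base hx).trans (Scheme.Hom.comp_apply t q default).symm)
    simpa [t] using (hL Ω' t).2 htL
  · exact (pullback.lift_fst _ _ _).trans (Category.id_comp _).symm
  · show Rel φ (⟨Y, pullback.lift v (l ≫ U.hom) hvV ≫ aZ, s⟩ : PS F' Ω) ⟨U, 𝟙 _ ≫ l, σ⟩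
    have h0 := hrel Ω zc (pullback.lift v (l ≫ U.hom) hvV ≫ aZ) (hza.trans ?_)
    · rw [hzb] at h0
      rwa [Category.id_comp]
    exact ((Category.assoc _ _ _).trans ((congrArg (_ ≫ ·) haZ).trans ((Category.assoc _ _ _).symm.trans
      ((congrArg (· ≫ O.ι) (pullback.lift_fst _ _ _)).trans hv)))).symm

end Groth.Agent.H11SetBC.SubDesc
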