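import Groth.Agent.H15Site.LocAcyclic.Alg
import Groth.Agent.H1DFun.SHConn
import Groth.Agent.H9Hens.PtLocalProps
import Groth.Agent.H8Props.WeakEtaleReduced
import Groth.Agent.H26ProEt.Weakly
import Groth.Agent.H9Hens.FlatEpi
import Groth.Agent.S0540

/-!
# Strict henselizations of algebras at primes below strictly henselian local rings
-/

set_option autoImplicit false
set_option linter.style.haveILetI false
set_option linter.unusedSectionVars false
set_option backward.isDefEq.respectTransparency false

universe u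

open IsLocalRing
open scoped TensorProduct

namespace Groth.Agent.H11SetBC

/-- Lifts to strictly henselian local rings of maps out of strict henselizations are unique. -/
theorem existsUnique_lift {L G T V : Type u} [CommRing L] [IsLocalRing L] [CommRing G] [IsLocalRing G]
    [Algebra L G] [IsLocalHom (algebraMap L G)] [hG : Hensel.IsStrictHenselization L G]
    [CommRing T] [HenselianLocalRing T] [IsSepClosed (ResidueField T)] [CommRing V] [HenselianLocalRing V]
    (θ : T →+* V) [IsLocalHom θ] (h : L →+* T) [IsLocalHom h] (v : G →+* V) [IsLocalHom v]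
    (hv : θ.comp h = v.comp (algebraMap L G)) :
    ∃! f : G →+* T, IsLocalHom f ∧ f.comp (algebraMap L G) = h ∧ θ.comp f = v := by
  haveI := hG.isSepClosure.separable
  obtain ⟨τ, hτ, hτh⟩ := H15Site.LocAcyclic.exists_residue_factor (k := ResidueField L)
    (ks := ResidueField G) (ResidueField.map v) (ResidueField.map θ) (ResidueField.map h)
    (RingHom.ext fun y => by
      obtain ⟨z, rfl⟩ := residue_surjective y
      exact congrArg (residue V) (RingHom.congr_fun hv z).symm)
  have hτ' : τ.comp (ResidueField.map (algebraMap L G)) = ResidueField.map h := hτh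
  obtain ⟨f, ⟨hf, hfres⟩, huniq⟩ := hG.universal T h τ hτ'
  haveI hfl : IsLocalHom f := ⟨fun x hx => by
    by_contra hxu
    refine (residue_ne_zero_iff_isUnit (f x)).2 hx ?_
    rw [hfres, (residue_eq_zero_iff x).2 ((mem_maximalIdeal x).2 hxu), map_zero]⟩
  obtain ⟨w, -, huniqV⟩ := hG.universal V (v.comp (algebraMap L G)) (ResidueField.map v)
    (RingHom.ext fun y => by obtain ⟨z, rfl⟩ := residue_surjective y; rfl)
  have h1 : θ.comp f = v := by
    refine (huniqV _ ⟨?_, fun x => ?_⟩).trans (huniqV _ ⟨rfl, fun x => rfl⟩).symm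
    · rw [RingHom.comp_assoc, hf, hv]
    · show residue V (θ (f x)) = _
      rw [← hτ, RingHom.comp_apply, ← hfres]
      rfl
  refine ⟨f, ⟨hfl, hf, h1⟩, fun f' ⟨hf'l, hf', hf'1⟩ => huniq f' ⟨hf', fun x => ?_⟩⟩
  refine (ResidueField.map θ).injective ?_
  rw [← hfres, ResidueField.map_residue, ResidueField.map_residue, ← RingHom.comp_apply θ f',
    ← RingHom.comp_apply θ f, hf'1, h1]

variable {D U : Type u} [CommRing D] [CommRing U] [IsLocalRing U] (φ : D →+* U)

/-- The prime under the maximal ideal. -/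
abbrev pr : Ideal D := (maximalIdeal U).comap φ

/-- The local ring. -/
abbrev Loc : Type u := Localization.AtPrime (pr φ)

/-- The map from the local ring. -/
noncomputable def lU : Loc φ →+* U :=
  IsLocalization.lift (M := (pr φ).primeCompl) (g := φ) fun y => by
    by_contra h
    exact y.2 (show (y : D) ∈ pr φ from (mem_maximalIdeal _).2 h)

theorem lU_algebraMap (x : D) : lU φ (algebraMap D (Loc φ) x) = φ x := IsLocalization.lift_eq _ x

theorem lU_comp : (lU φ).comp (algebraMap D (Loc φ)) = φ := RingHom.ext (lU_algebraMap φ)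

instance isLocalHom_lU : IsLocalHom (lU φ) where
  map_nonunit z hz := by
    obtain ⟨⟨a, s⟩, rfl⟩ := IsLocalization.mk'_surjective (pr φ).primeCompl z
    have ha : IsUnit (φ a) := by
      have h2 := congrArg (lU φ) (IsLocalization.mk'_spec (Loc φ) a s)
      rw [map_mul, lU_algebraMap, lU_algebraMap] at h2
      rw [← h2]
      refine hz.mul ?_
      by_contra h
      exact s.2 ((mem_maximalIdeal _).2 h)
    refine (IsLocalization.AtPrime.isUnit_mk'_iff (Loc φ) (pr φ) a s).2 ?_
    exact fun hmem => (mem_maximalIdeal _).1 (Ideal.mem_comap.1 hmem) ha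

/-- A strict henselization of the local ring. -/
structure SHData where
  /-- the ring -/
  S : Type u
  [inst : CommRing S]
  [loc : IsLocalRing S]
  [alg : Algebra (Loc φ) S]
  [hom : IsLocalHom (algebraMap (Loc φ) S)]
  hens : Hensel.IsStrictHenselization (Loc φ) S

attribute [instance] SHData.inst SHData.loc SHData.alg SHData.hom

theorem nonempty_shData : Nonempty (SHData φ) := by
  obtain ⟨k, _, _, _, _, _, S, _, _, _, _, _, -, hS⟩ := H9Hens.exists_isStrictHenselization_colim (Loc φ)
  exact ⟨⟨S, hS⟩⟩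

/-- The chosen strict henselization. -/
noncomputable def shData : SHData φ := Classical.choice (nonempty_shData φ)

/-- The strict henselization of `D` below `U`. -/
abbrev SH : Type u := (shData φ).S

instance isSH : Hensel.IsStrictHenselization (Loc φ) (SH φ) := (shData φ).hens

instance henselianSH : HenselianLocalRing (SH φ) := (isSH φ).henselian

instance isSepClosedSH : IsSepClosed (ResidueField (SH φ)) := (isSH φ).isSepClosure.sep_closed

/-- The canonical map. -/
noncomputable def toSH : D →+* SH φ := (algebraMap (Loc φ) (SH φ)).comp (algebraMap D (Loc φ))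

theorem isNoetherianRing_SH [IsNoetherianRing D] : IsNoetherianRing (SH φ) := by
  haveI : IsNoetherianRing (Loc φ) := IsLocalization.isNoetherianRing (pr φ).primeCompl _ inferInstance
  exact (Groth.Agent.S0540.result (Loc φ) (SH φ)).1 inferInstance

theorem weaklyEtale_localization (R : Type u) [CommRing R] (M : Submonoid R) :
    Algebra.WeaklyEtale R (Localization M) where
  flat := IsLocalization.flat _ M
  flat_lmul' := by
    let S := Localization M
    refine RingHom.Flat.of_bijective ⟨?_, fun x => ⟨x ⊗ₜ 1, by simp⟩⟩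
    have h : ∀ x : S ⊗[R] S, x = (Algebra.TensorProduct.lmul' R x) ⊗ₜ 1 := by
      intro x
      induction x using TensorProduct.induction_on with
      | zero => simp
      | tmul a b =>
        obtain ⟨⟨r, s⟩, rfl⟩ := IsLocalization.mk'_surjective M b
        rw [Algebra.TensorProduct.lmul'_apply_tmul]
        obtain ⟨a', rfl⟩ : ∃ a', (s : R) • a' = a :=
          ⟨IsLocalization.mk' S 1 s * a, by
            rw [← smul_mul_assoc, Algebra.smul_def, IsLocalization.mk'_spec', map_one, one_mul]⟩
        rw [TensorProduct.smul_tmul, smul_mul_assoc, ← mul_smul_comm, Algebra.smul_def,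
          IsLocalization.mk'_spec', mul_comm a' (algebraMap R S r), ← Algebra.smul_def,
          TensorProduct.smul_tmul, Algebra.smul_def, mul_one]
      | add a b ha hb => rw [map_add, TensorProduct.add_tmul, ← ha, ← hb]
    intro x y hxy
    rw [h x, h y]
    exact congrArg (fun z => z ⊗ₜ 1) hxy

theorem weaklyEtale_SH : letI := (toSH φ).toAlgebra; Algebra.WeaklyEtale D (SH φ) := by
  letI := (toSH φ).toAlgebra
  haveI : IsScalarTower D (Loc φ) (SH φ) := IsScalarTower.of_algebraMap_eq' rfl
  obtain ⟨k, _, _, _, _, _, π, hπ⟩ := H9Hens.exists_isPtColim_of_isStrictHenselization (R := Loc φ) (SH φ)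
  haveI := H26ProEt.weaklyEtale hπ
  haveI : Algebra.WeaklyEtale D (Loc φ) := weaklyEtale_localization D (pr φ).primeCompl
  exact Algebra.WeaklyEtale.trans D (Loc φ) (SH φ)

section Universal

variable {T V : Type u} [CommRing T] [HenselianLocalRing T] [IsSepClosed (ResidueField T)]
  [CommRing V] [HenselianLocalRing V]

/-- Universal property of the strict henselization of `D` below `U`. -/
theorem existsUnique_sh (θ : T →+* V) [IsLocalHom θ] (h : D →+* T) (gU : SH φ →+* V) [IsLocalHom gU]
    (hh : θ.comp h = gU.comp (toSH φ)) :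
    ∃! f : SH φ →+* T, IsLocalHom f ∧ f.comp (toSH φ) = h ∧ θ.comp f = gU := by
  have hu : ∀ y : (pr φ).primeCompl, IsUnit (h y) := fun y => by
    refine IsUnit.of_map θ _ ?_
    rw [← RingHom.comp_apply, hh]
    exact ((IsLocalization.map_units (Loc φ) y).map (algebraMap (Loc φ) (SH φ))).map gU
  let h' : Loc φ →+* T := IsLocalization.lift (M := (pr φ).primeCompl) (g := h) hu
  have hh' : θ.comp h' = gU.comp (algebraMap (Loc φ) (SH φ)) := by
    refine IsLocalization.ringHom_ext (pr φ).primeCompl ?_
    rw [RingHom.comp_assoc, IsLocalization.lift_comp, hh]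
    rfl
  haveI : IsLocalHom h' := by
    haveI : IsLocalHom (θ.comp h') := hh' ▸ inferInstance
    exact isLocalHom_of_comp h' θ
  obtain ⟨f, ⟨hf1, hf2, hf3⟩, huniq⟩ := existsUnique_lift θ h' gU hh'
  refine ⟨f, ⟨hf1, ?_, hf3⟩, fun f' ⟨h1, h2, h3⟩ => huniq f' ⟨h1, ?_, h3⟩⟩
  · rw [toSH, ← RingHom.comp_assoc, hf2, IsLocalization.lift_comp]
  · refine IsLocalization.ringHom_ext (pr φ).primeCompl ?_
    rw [IsLocalization.lift_comp, RingHom.comp_assoc]
    exact h2

end Universal

variable [HenselianLocalRing U] [hU : IsSepClosed (ResidueField U)]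

theorem exists_shU : ∃ g : SH φ →+* U, IsLocalHom g ∧ g.comp (toSH φ) = φ := by
  haveI := (isSH φ).isSepClosure.separable
  obtain ⟨τ, hτ⟩ := H15Site.LocAcyclic.exists_residue_lift (ks := ResidueField (SH φ))
    (ResidueField.map (lU φ))
  obtain ⟨g, ⟨hg, hgres⟩, -⟩ := (isSH φ).universal U (lU φ) τ hτ
  refine ⟨g, ⟨fun x hx => ?_⟩, ?_⟩
  · by_contra hxu
    refine (residue_ne_zero_iff_isUnit (g x)).2 hx ?_
    rw [hgres, (residue_eq_zero_iff x).2 ((mem_maximalIdeal x).2 hxu), map_zero]
  · rw [toSH, ← RingHom.comp_assoc, hg, lU_comp]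

/-- The map to `U`. -/
noncomputable def shU : SH φ →+* U := (exists_shU φ).choose

instance isLocalHom_shU : IsLocalHom (shU φ) := (exists_shU φ).choose_spec.1

theorem shU_comp : (shU φ).comp (toSH φ) = φ := (exists_shU φ).choose_spec.2

/-- Maps of strict henselizations over flat maps are flat. -/
theorem flat_sh {D₂ U₂ : Type u} [CommRing D₂] [CommRing U₂] [IsLocalRing U₂] (φ₂ : D₂ →+* U₂)
    (d : D →+* D₂) (hd : d.Flat) (f : SH φ →+* SH φ₂) [IsLocalHom f]
    (hpr : pr φ = (pr φ₂).comap d) (hf : f.comp (toSH φ) = (toSH φ₂).comp d) : f.Flat := by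
  refine H1DFun.flat_of_strictHenselization (Localization.localRingHom _ _ d hpr)
    (hd.localRingHom _ _ hpr) f ?_
  refine IsLocalization.ringHom_ext (pr φ).primeCompl (RingHom.ext fun x => ?_)
  refine (RingHom.congr_fun hf x).trans ?_
  show algebraMap _ _ _ = algebraMap _ _ (Localization.localRingHom _ _ d hpr _)
  rw [Localization.localRingHom_to_map]

section Reduced

variable {A' C A B : Type u} [CommRing A'] [CommRing C] [CommRing A] [CommRing B]
  [Algebra A' C] [Algebra A' A] [Algebra A' B] [Algebra C B] [Algebra A B]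
  [IsScalarTower A' C B] [IsScalarTower A' A B]

/-- Reduced fibres pass to weakly étale algebras on source and target. -/
theorem isReduced_tensor_of_weaklyEtale [Algebra.WeaklyEtale C B] [Algebra.WeaklyEtale A' A]
    (L : Type u) [Field L] [Algebra A L] [Algebra A' L] [IsScalarTower A' A L]
    (h0 : _root_.IsReduced (C ⊗[A'] L)) : _root_.IsReduced (B ⊗[A] L) := by
  haveI := h0
  haveI : _root_.IsReduced ((C ⊗[A'] L) ⊗[C] B) := H8Props.WeakEtaleReduced.isReduced_of_weaklyEtale (C ⊗[A'] L) _
  let e : (C ⊗[A'] L) ⊗[C] B ≃+* B ⊗[A'] L :=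
    (Algebra.TensorProduct.comm C (C ⊗[A'] L) B).toRingEquiv.trans
      (Algebra.TensorProduct.cancelBaseChange A' C C B L).toRingEquiv
  haveI : _root_.IsReduced (B ⊗[A'] L) := isReduced_of_injective e.symm e.symm.injective
  let g : A ⊗[A'] A →ₐ[A'] B ⊗[A'] L :=
    Algebra.TensorProduct.map (IsScalarTower.toAlgHom A' A B) (IsScalarTower.toAlgHom A' A L)
  let μ := Algebra.TensorProduct.lmul' A' (S := A)
  let J : Ideal (B ⊗[A'] L) := (RingHom.ker μ.toRingHom).map g.toRingHom
  let mk := Ideal.Quotient.mk J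
  let q : B ⊗[A'] L →ₐ[A'] B ⊗[A] L := Algebra.TensorProduct.lift
    ((Algebra.TensorProduct.includeLeft : B →ₐ[A] B ⊗[A] L).restrictScalars A')
    ((Algebra.TensorProduct.includeRight : L →ₐ[A] B ⊗[A] L).restrictScalars A') (fun _ _ => Commute.all _ _)
  have hq : ∀ b l, q (b ⊗ₜ l) = b ⊗ₜ[A] l := fun b l => by simp [q]
  have hqsurj : Function.Surjective q := fun z => by
    induction z using TensorProduct.induction_on with
    | zero => exact ⟨0, map_zero _⟩
    | tmul b l => exact ⟨b ⊗ₜ l, hq b l⟩
    | add a b ha hb =>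
      obtain ⟨x, rfl⟩ := ha
      obtain ⟨y, rfl⟩ := hb
      exact ⟨x + y, map_add _ _ _⟩
  have hJq : J ≤ RingHom.ker q.toRingHom := by
    refine Ideal.map_le_iff_le_comap.2 fun z hz => ?_
    have key : ∀ w : A ⊗[A'] A, q (g w) = algebraMap A (B ⊗[A] L) (μ w) := fun w => by
      induction w using TensorProduct.induction_on with
      | zero => simp
      | tmul a a' =>
        simp only [g, μ, Algebra.TensorProduct.map_tmul, hq, IsScalarTower.coe_toAlgHom',
          Algebra.TensorProduct.lmul'_apply_tmul]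
        rw [Algebra.TensorProduct.algebraMap_apply, map_mul, Algebra.algebraMap_eq_smul_one (A := L) a',
          ← TensorProduct.smul_tmul, Algebra.smul_def, mul_comm]
      | add a b ha hb => rw [map_add, map_add, map_add, map_add, ha, hb]
    show q (g z) = 0
    rw [key, show μ z = 0 from hz, map_zero]
  let rB : B →ₐ[A] (B ⊗[A'] L) ⧸ J :=
    { mk.comp Algebra.TensorProduct.includeLeftRingHom with commutes' := fun a => rfl }
  let rL : L →ₐ[A] (B ⊗[A'] L) ⧸ J :=
    { mk.comp (Algebra.TensorProduct.includeRight : L →ₐ[A'] B ⊗[A'] L).toRingHom with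
      commutes' := fun a => by
        refine (Ideal.Quotient.eq.2 ?_).symm
        have : algebraMap A B a ⊗ₜ[A'] (1 : L) - (1 : B) ⊗ₜ[A'] algebraMap A L a = g (a ⊗ₜ 1 - 1 ⊗ₜ a) := by
          simp [g, map_sub]
        show algebraMap A B a ⊗ₜ[A'] (1 : L) - (1 : B) ⊗ₜ[A'] algebraMap A L a ∈ J
        rw [this]
        refine Ideal.mem_map_of_mem _ ?_
        show μ _ = 0
        simp [μ] }
  let r : B ⊗[A] L →ₐ[A] (B ⊗[A'] L) ⧸ J := Algebra.TensorProduct.lift rB rL (fun _ _ => Commute.all _ _)
  have hrq : ∀ z, r (q z) = mk z := fun z => by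
    induction z using TensorProduct.induction_on with
    | zero => simp
    | tmul b l =>
      rw [hq]
      show mk (b ⊗ₜ 1) * mk (1 ⊗ₜ l) = _
      rw [← map_mul, Algebra.TensorProduct.tmul_mul_tmul, mul_one, one_mul]
    | add a b ha hb => rw [map_add, map_add, map_add, ha, hb]
  refine ⟨fun z ⟨n, hn⟩ => ?_⟩
  obtain ⟨x, rfl⟩ := hqsurj z
  have hxJ : x ^ n ∈ J := by
    rw [← Ideal.Quotient.eq_zero_iff_mem, ← hrq, map_pow, hn, map_zero]
  obtain ⟨m, c, t, ht⟩ : ∃ (m : ℕ) (c : Fin m → B ⊗[A'] L) (t : Fin m → A ⊗[A'] A),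
      (∀ i, μ (t i) = 0) ∧ x ^ n = ∑ i, c i * g (t i) := by
    obtain ⟨m, c, w, hw⟩ := (Submodule.mem_span_set' (R := B ⊗[A'] L)).1 hxJ
    choose t ht htw using fun i => (w i).2
    exact ⟨m, c, t, ht, hw.symm.trans (Finset.sum_congr rfl fun i _ => by rw [← htw i]; rfl)⟩
  obtain ⟨u, hu, hut⟩ := H9Hens.exists_mul_eq_zero_of_flat μ.toRingHom
    (fun a => ⟨a ⊗ₜ 1, by simp [μ]⟩) (Algebra.WeaklyEtale.flat_lmul' A' A) Finset.univ t (fun i _ => ht.1 i)
  have h1 : (g u * x) ^ (n + 1) = 0 := by
    have : g u * x ^ n = 0 := by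
      rw [ht.2, Finset.mul_sum]
      refine Finset.sum_eq_zero fun i hi => ?_
      rw [mul_left_comm, ← map_mul, hut i hi, map_zero, mul_zero]
    rw [show (g u * x) ^ (n + 1) = g u ^ n * x * (g u * x ^ n) by ring, this, mul_zero]
  have h2 : g u * x = 0 := IsReduced.eq_zero _ ⟨_, h1⟩
  have h3 : x ∈ J := by
    have hu1 : g (1 - u) ∈ J := Ideal.mem_map_of_mem _ (show μ (1 - u) = 0 by
      rw [map_sub, map_one, show μ u = 1 from hu, sub_self])
    have := J.mul_mem_right x hu1
    rwa [map_sub, map_one, sub_mul, one_mul, h2, sub_zero] at this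
  exact hJq h3

end Reduced

end Groth.Agent.H11SetBC
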