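import Groth.Agent.H15Site.EffDesc.OpenDesc

/-!
# Effective descent of etale sheaves of sets along universally submersive morphisms with local descent data

The arguments of `H15Site.EffDesc.OpenDesc`, with saturated open sets in place of open maps.
-/

set_option autoImplicit false
set_option linter.style.haveILetI false
set_option linter.unusedSectionVars false
set_option backward.isDefEq.respectTransparency false
set_option backward.isDefEq.respectTransparency.types false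

universe u

open CategoryTheory CategoryTheory.Limits AlgebraicGeometry Opposite
open scoped Groth.Agent.H18Et

namespace Groth.Agent.H11SetBC.SubDesc

open H15Site.SetDescent H18Et H15Site.EffDesc

variable {X' X : Scheme.{u}} {f : X' ⟶ X} {F' : EtDesc.Sh X'}
  {φ : (EtDesc.pullSh (pullback.fst f f)).obj F' ≅ (EtDesc.pullSh (pullback.snd f f)).obj F'}
  {Ω Ω' : Type u} [Field Ω] [IsSepClosed Ω] [Field Ω'] [IsSepClosed Ω']

variable (φ) in
theorem ψ_injective_submersive (ho : EtDesc.IsUnivSubmersive f) {Ω : Type u} [Field Ω] [IsAlgClosed Ω]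
    (ξ : Spec (CommRingCat.of Ω) ⟶ X') : Function.Injective ((Scheme.pointSmallEtale ξ).sheafFiber.map (ψ φ)) := by
  intro c d hcd
  obtain ⟨V₁, v₁, s₁, rfl⟩ := exists_pull_germ f ξ (descSh φ) c
  obtain ⟨V₂, v₂, s₂, rfl⟩ := exists_pull_germ f ξ (descSh φ) d
  rw [ψ_germ, ψ_germ] at hcd
  obtain ⟨⟨V, v⟩, ⟨g₁, hg₁⟩, ⟨g₂, hg₂⟩, -⟩ := IsCofilteredOrEmpty.cone_objs
    (C := (Scheme.pointSmallEtale (ξ ≫ f)).fiber.Elements) ⟨V₁, v₁⟩ ⟨V₂, v₂⟩
  dsimp at g₁ g₂ hg₁ hg₂
  have step : ∀ {V' W : X.Etale} (g : W ⟶ V') (w : (Scheme.pointSmallEtale (ξ ≫ f)).fiber.obj W)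
      (v' : (Scheme.pointSmallEtale (ξ ≫ f)).fiber.obj V')
      (_ : (Scheme.pointSmallEtale (ξ ≫ f)).fiber.map g w = v') (s : (descSh φ).obj.obj (op V')),
      germ ξ F' _ ((fiberCompIso f ξ).inv.app W w) ((descSh φ).obj.map g.op s).1 =
          germ ξ F' _ ((fiberCompIso f ξ).inv.app V' v') s.1 ∧
        germ ξ ((EtDesc.pullSh f).obj (descSh φ)) _ ((fiberCompIso f ξ).inv.app W w)
            (pullSect f (descSh φ) ((descSh φ).obj.map g.op s)) =
          germ ξ ((EtDesc.pullSh f).obj (descSh φ)) _ ((fiberCompIso f ξ).inv.app V' v')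
            (pullSect f (descSh φ) s) := by
    intro V' W g w v' hv s
    subst hv
    refine ⟨(germ_map F' ((EtCoh.bc f).map g) _ s.1).trans
      (congrArg (fun q => germ ξ F' _ q s.1) (fci_map f ξ g w)), ?_⟩
    rw [pullSect_map, germ_map, fci_map]
  obtain ⟨a₁, b₁⟩ := step g₁ v v₁ hg₁ s₁
  obtain ⟨a₂, b₂⟩ := step g₂ v v₂ hg₂ s₂
  rw [← b₁, ← b₂]
  generalize (descSh φ).obj.map g₁.op s₁ = s at a₁ b₁ ⊢
  generalize (descSh φ).obj.map g₂.op s₂ = s' at a₂ b₂ ⊢
  let p := pullback.fst V.hom f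
  have hsat : ∀ o x', p.base o = p.base x' → o ∈ agree F' s.1 s'.1 → x' ∈ agree F' s.1 s'.1 := by
    intro o x' hox ho'
    obtain ⟨Ω₀, _, _, ζ₀, z₀, hz₀⟩ := exists_fiber_geomPt (U := (EtCoh.bc f).obj V) o
    let zl : Spec (CommRingCat.of Ω₀) ⟶ ((EtCoh.bc f).obj V).left := z₀.left
    obtain ⟨Ω₁, _, _, ι, y, hy, hyx⟩ := exists_geom_lift p (zl ≫ p) x'
      (hox.symm.trans ((congrArg p.base hz₀.symm).trans (Scheme.Hom.comp_apply zl p default).symm))
    let yo : Spec (CommRingCat.of Ω₁) ⟶ ((EtCoh.bc f).obj V).left := ι ≫ zl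
    have hyo : yo.base default = o := (base_default_comp ι _).trans hz₀
    have hfst : yo ≫ pullback.fst V.hom f = y ≫ pullback.fst V.hom f := (Category.assoc _ _ _).trans hy.symm
    have e : Eqv (⟨(EtCoh.bc f).obj V, yo, s.1⟩ : PS F' Ω₁) ⟨(EtCoh.bc f).obj V, yo, s'.1⟩ :=
      eqv_of_germ _ rfl rfl ((germ_eq_iff_mem_agree F' (ptMk yo rfl) _ _).2 ((congrArg (· ∈ agree F' s.1 s'.1) hyo).mpr ho'))
    have r' : Rel φ (⟨(EtCoh.bc f).obj V, yo, s.1⟩ : PS F' Ω₁) ⟨(EtCoh.bc f).obj V, y, s'.1⟩ :=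
      (s'.2 Ω₁ yo y hfst).congr_left e.symm
    obtain ⟨_, hg⟩ := (s.2 Ω₁ yo y hfst).eqv_right r' rfl
    have hm : ptOf (ptMk y rfl : (Scheme.pointSmallEtale (y ≫ ((EtCoh.bc f).obj V).hom)).fiber.obj ((EtCoh.bc f).obj V)) ∈
        agree F' s.1 s'.1 := (germ_eq_iff_mem_agree F' _ _ _).1 hg
    have hpt : ptOf (ptMk y rfl : (Scheme.pointSmallEtale (y ≫ ((EtCoh.bc f).obj V).hom)).fiber.obj ((EtCoh.bc f).obj V)) = x' := hyx
    rw [hpt] at hm
    exact hm
  let U : V.left.Opens := ⟨p.base '' agree F' s.1 s'.1,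
    H15Site.SetDescent.isOpen_image ho V _ (isOpen_agree F' _ _) hsat⟩
  have hy₁ : ptOf ((fiberCompIso f ξ).inv.app V v) ∈ agree F' s.1 s'.1 :=
    (germ_eq_iff_mem_agree F' _ _ _).1 (a₁.trans (hcd.trans a₂.symm))
  have hv : ptOf v ∈ U := ⟨_, hy₁, fst_ptOf f ξ V v⟩
  obtain ⟨v₀, hv₀⟩ := exists_openPt U v hv
  have heq : (descSh φ).obj.map (openHom V U).op s = (descSh φ).obj.map (openHom V U).op s' := by
    refine Subtype.ext (eq_of_agree_eq_univ F' _ _ fun x =>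
      (mem_agree_map F' ((EtCoh.bc f).map (openHom V U)) _ _ x).2 ?_)
    let x' := ((EtCoh.bc f).map (openHom V U)).left.base x
    have hU : p.base x' ∈ U := by
      refine (congrArg (· ∈ U) (((Scheme.Hom.comp_apply _ _ _).symm.trans
        (congrArg (fun k : ((EtCoh.bc f).obj (openObj V U)).left ⟶ V.left => k.base x)
          (EtCoh.isPullback_bc_map f (openHom V U)).w)).trans (Scheme.Hom.comp_apply _ _ _))).mpr ?_
      exact ((pullback.fst (openObj V U).hom f).base x).2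
    obtain ⟨o, ho', hox⟩ := hU
    exact hsat o x' hox ho'
  obtain ⟨-, c₁⟩ := step (openHom V U) v₀ v hv₀ s
  obtain ⟨-, c₂⟩ := step (openHom V U) v₀ v hv₀ s'
  rw [← c₁, ← c₂, heq]

variable (hφ : EtDesc.IsCocycle F' φ)

include hφ in
/-- A local datum which is compatible on `Z ×_V Z` spreads to a compatible section on `V`. -/
theorem exists_spread_submersive {V : X.Etale} {Z : Scheme.{u}} (h : Z ⟶ V.left) (hh : EtDesc.IsUnivSubmersive h)
    (T : X'.Etale) (τ : F'.obj.obj (op T)) (a : Z ⟶ T.left) (hc : (a ≫ T.hom) ≫ f = h ≫ V.hom)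
    (hpair : ∀ (Ω : Type u) [Field Ω] [IsAlgClosed Ω] (z z' : Spec (CommRingCat.of Ω) ⟶ Z), z ≫ h = z' ≫ h →
      Rel φ (⟨T, z ≫ a, τ⟩ : PS F' Ω) ⟨T, z' ≫ a, τ⟩) :
    ∃ s : (descSh φ).obj.obj (op V), ∀ (Ω : Type u) [Field Ω] [IsAlgClosed Ω] (z : Spec (CommRingCat.of Ω) ⟶ Z)
      (y : Spec (CommRingCat.of Ω) ⟶ ((EtCoh.bc f).obj V).left), z ≫ h = y ≫ pullback.fst V.hom f →
        Rel φ (⟨T, z ≫ a, τ⟩ : PS F' Ω) ⟨(EtCoh.bc f).obj V, y, s.1⟩ := by
  haveI : Surjective h := H15Site.SetDescent.surjective_of_univSubmersive hh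
  let W := (EtCoh.bc f).obj V
  let P := fun (W' : X'.Etale) (g : W' ⟶ W) (r : F'.obj.obj (op W')) =>
    ∀ (Ω : Type u) [Field Ω] [IsAlgClosed Ω] (z : Spec (CommRingCat.of Ω) ⟶ Z)
      (y : Spec (CommRingCat.of Ω) ⟶ W'.left), z ≫ h = (y ≫ g.left) ≫ pullback.fst V.hom f →
        Rel φ (⟨T, z ≫ a, τ⟩ : PS F' Ω) ⟨W', y, r⟩
  have hmap : ∀ {W' W'' : X'.Etale} (g : W' ⟶ W) (e : W'' ⟶ W') (r : F'.obj.obj (op W')),
      P W' g r → P W'' (e ≫ g) (F'.obj.map e.op r) := fun {W' W''} g e r hr Ω _ _ z y hzy =>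
    (hr Ω z (y ≫ e.left) (hzy.trans (congrArg (· ≫ _) (Category.assoc y e.left g.left).symm))).congr_right
      (eqv_map e y r).symm
  have hover : ∀ {Ω : Type u} [Field Ω] (z : Spec (CommRingCat.of Ω) ⟶ Z)
      (y : Spec (CommRingCat.of Ω) ⟶ W.left), z ≫ h = y ≫ pullback.fst V.hom f →
      ((z ≫ a) ≫ T.hom) ≫ f = (y ≫ W.hom) ≫ f := fun z y e => by
    refine ((congrArg (· ≫ f) (Category.assoc _ _ _)).trans ((Category.assoc _ _ _).trans
      ((congrArg (z ≫ ·) hc).trans (Category.assoc _ _ _).symm))).trans ?_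
    refine (congrArg (· ≫ V.hom) e).trans ?_
    exact (Category.assoc _ _ _).trans ((congrArg (y ≫ ·) pullback.condition).trans (Category.assoc _ _ _).symm)
  have huniq : ∀ {W' : X'.Etale} (g : W' ⟶ W) (r r' : F'.obj.obj (op W')), P W' g r → P W' g r' → r = r' := by
    intro W' g r r' hr hr'
    refine eq_of_agree_eq_univ F' r r' fun u => ?_
    obtain ⟨Ω₀, _, _, ζ₀, y₀, hy₀⟩ := exists_fiber_geomPt u
    let yl : Spec (CommRingCat.of Ω₀) ⟶ W'.left := y₀.left
    obtain ⟨z₁, hz₁⟩ := h.surjective (((yl ≫ g.left) ≫ pullback.fst V.hom f).base default)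
    obtain ⟨Ω, _, _, ι, z, hz, -⟩ := exists_geom_lift h ((yl ≫ g.left) ≫ pullback.fst V.hom f) z₁ hz₁
    have e : z ≫ h = ((ι ≫ yl) ≫ g.left) ≫ pullback.fst V.hom f := by
      rw [hz]; simp only [Category.assoc]
    obtain ⟨_, hg⟩ := (hr Ω z (ι ≫ yl) e).eqv_right (hr' Ω z (ι ≫ yl) e) rfl
    exact (congrArg (· ∈ agree F' r r') ((base_default_comp ι yl).trans hy₀)).mp
      ((germ_eq_iff_mem_agree F' (ptMk (ι ≫ yl) rfl) _ _).1 hg)
  let R : Sieve W :=
    { arrows := fun W' g => ∃ r, P W' g r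
      downward_closed := fun {W' W''} g ⟨r, hr⟩ e => ⟨_, hmap g e r hr⟩ }
  have hR : R ∈ X'.smallEtaleTopology W := mem_topology_of_forall_point _ fun u => by
    obtain ⟨Ω₀, _, _, ζ₀, y₀, hy₀⟩ := exists_fiber_geomPt u
    let yl : Spec (CommRingCat.of Ω₀) ⟶ W.left := y₀.left
    obtain ⟨z₁, hz₁⟩ := h.surjective ((yl ≫ pullback.fst V.hom f).base default)
    obtain ⟨Ω, _, _, ι, z, hz, -⟩ := exists_geom_lift h (yl ≫ pullback.fst V.hom f) z₁ hz₁
    let y : Spec (CommRingCat.of Ω) ⟶ W.left := ι ≫ yl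
    have hzy : z ≫ h = y ≫ pullback.fst V.hom f := hz.trans (Category.assoc _ _ _).symm
    obtain ⟨q, hq, hrel⟩ := exists_rel φ (⟨T, z ≫ a, τ⟩ : PS F' Ω) (y ≫ W.hom) (hover z y hzy)
    let N := prodEt W q.U
    let pW := prodFst W q.U
    let pU := prodSnd W q.U
    let A := (EtCoh.bc (pullback.fst f f)).obj T
    let B := (EtCoh.bc (pullback.snd f f)).obj q.U
    let m : N.left ⟶ V.left := pW.left ≫ pullback.fst V.hom f
    let ZN := pullback h m
    let zs : ZN ⟶ Z := pullback.fst h m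
    let ns : ZN ⟶ N.left := pullback.snd h m
    let c : ZN ⟶ EtDesc.X2 f := pullback.lift ((zs ≫ a) ≫ T.hom) ((ns ≫ pU.left) ≫ q.U.hom) (by
      refine ((congrArg (· ≫ f) (Category.assoc _ _ _)).trans ((Category.assoc _ _ _).trans
        ((congrArg (zs ≫ ·) hc).trans (Category.assoc _ _ _).symm))).trans ?_
      refine (congrArg (· ≫ V.hom) pullback.condition).trans ?_
      simp only [Category.assoc]
      refine congrArg (ns ≫ ·) ?_
      show (pW.left ≫ pullback.fst V.hom f) ≫ V.hom = pU.left ≫ q.U.hom ≫ f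
      rw [Category.assoc, pullback.condition, ← Category.assoc, ← Category.assoc pU.left]
      exact congrArg (· ≫ f) ((Over.w pW.hom).trans (Over.w pU.hom).symm))
    let κ : ZN ⟶ (prodEt A B).left := pullback.lift (pullback.lift (zs ≫ a) c (pullback.lift_fst _ _ _).symm)
      (pullback.lift (ns ≫ pU.left) c (pullback.lift_snd _ _ _).symm)
      ((pullback.lift_snd _ _ _).trans (pullback.lift_snd _ _ _).symm)
    let S := agree ((EtDesc.pullSh (pullback.snd f f)).obj F')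
      (((EtDesc.pullSh (pullback.snd f f)).obj F').obj.map (prodFst A B).op
        (φ.hom.hom.app _ (pullSect (pullback.fst f f) F' τ)))
      (((EtDesc.pullSh (pullback.snd f f)).obj F').obj.map (prodSnd A B).op (pullSect (pullback.snd f f) F' q.s))
    have key : ∀ {Ω : Type u} [Field Ω] [IsSepClosed Ω] (t : Spec (CommRingCat.of Ω) ⟶ ZN),
        Rel φ (⟨T, (t ≫ zs) ≫ a, τ⟩ : PS F' Ω) ⟨q.U, (t ≫ ns) ≫ pU.left, q.s⟩ ↔
          κ.base (t.base default) ∈ S := by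
      intro Ω _ _ t
      have h0 := rel_iff_mem_agree (φ := φ) τ q.s (prodFst A B) (prodSnd A B) (t ≫ κ)
      have ea : κ ≫ (prodFst A B).left ≫ pullback.fst T.hom (pullback.fst f f) = zs ≫ a :=
        (Category.assoc _ _ _).symm.trans ((congrArg (· ≫ _) (pullback.lift_fst _ _ _)).trans
          (pullback.lift_fst _ _ _))
      have eb : κ ≫ (prodSnd A B).left ≫ pullback.fst q.U.hom (pullback.snd f f) = ns ≫ pU.left :=
        (Category.assoc _ _ _).symm.trans ((congrArg (· ≫ _) (pullback.lift_snd _ _ _)).trans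
          (pullback.lift_fst _ _ _))
      rw [Category.assoc t κ, Category.assoc t κ, ea, eb, ← Category.assoc, ← Category.assoc,
        Scheme.Hom.comp_apply] at h0
      exact h0
    have hsat : ∀ o o', ns.base o = ns.base o' → κ.base o ∈ S → κ.base o' ∈ S := by
      intro o o' hoo hoS
      obtain ⟨Ω₁, _, _, t₁, ht₁⟩ : ∃ (Ω₁ : Type u) (_ : Field Ω₁) (_ : IsAlgClosed Ω₁)
          (t₁ : Spec (CommRingCat.of Ω₁) ⟶ ZN), t₁.base default = o :=
        ⟨AlgebraicClosure (ZN.residueField o), inferInstance, inferInstance,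
          Spec.map (CommRingCat.ofHom (algebraMap (ZN.residueField o) _)) ≫ ZN.fromSpecResidueField o,
          (Scheme.Hom.comp_apply _ _ _).trans (ZN.fromSpecResidueField_apply o _)⟩
      obtain ⟨Ω₂, _, _, ι₂, t₂, ht₂, hto₂⟩ := exists_geom_lift ns (t₁ ≫ ns) o'
        (hoo.symm.trans ((congrArg ns.base ht₁.symm).trans (Scheme.Hom.comp_apply t₁ ns default).symm))
      have e₁ := (key (ι₂ ≫ t₁)).2 (((base_default_comp ι₂ t₁).trans ht₁).symm ▸ hoS)
      have hn : (ι₂ ≫ t₁) ≫ ns = t₂ ≫ ns := (Category.assoc _ _ _).trans ht₂.symm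
      rw [hn] at e₁
      have e₂ : (t₂ ≫ zs) ≫ h = ((ι₂ ≫ t₁) ≫ zs) ≫ h := by
        simp only [Category.assoc, show zs ≫ h = ns ≫ m from pullback.condition]
        rw [← Category.assoc t₂, ← hn]
        simp only [Category.assoc]
      exact hto₂ ▸ (key t₂).1 (Rel.trans hφ (hpair Ω₂ _ _ e₂) e₁)
    let O : N.left.Opens := ⟨ns.base '' (κ.base ⁻¹' S), by
      rw [← (hh N.left m).2.isOpen_preimage]
      have e : ns.base ⁻¹' (ns.base '' (κ.base ⁻¹' S)) = κ.base ⁻¹' S :=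
        Set.Subset.antisymm (fun o' ⟨o, ho, hoo⟩ => hsat o o' hoo ho) (Set.subset_preimage_image _ _)
      exact Eq.mpr (congrArg IsOpen e) ((isOpen_agree _ _ _).preimage κ.continuous)⟩
    let n : Spec (CommRingCat.of Ω) ⟶ N.left := pullback.lift y q.l hq.symm
    let t : Spec (CommRingCat.of Ω) ⟶ ZN := pullback.lift z n
      (hzy.trans ((congrArg (· ≫ pullback.fst V.hom f) (pullback.lift_fst _ _ _).symm).trans (Category.assoc _ _ _)))
    have htS : κ.base (t.base default) ∈ S := by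
      refine (key t).1 ?_
      rw [show t ≫ zs = z from pullback.lift_fst _ _ _,
        show (t ≫ ns) ≫ pU.left = q.l from
          (congrArg (· ≫ pU.left) (pullback.lift_snd _ _ _)).trans (pullback.lift_snd _ _ _)]
      exact hrel
    have hnO : n.base default ∈ O := ⟨t.base default, htS,
      (Scheme.Hom.comp_apply _ _ _).symm.trans
        (congrArg (fun k : Spec (CommRingCat.of Ω) ⟶ N.left => k.base default) (pullback.lift_snd _ _ _))⟩
    refine ⟨openObj N O, openHom N O ≫ pW, ⟨n.base default, hnO⟩,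
      ⟨F'.obj.map (openHom N O ≫ pU).op q.s, ?_⟩, ?_⟩
    · intro Ω₁ _ _ z' y' hzy'
      refine Rel.congr_right ?_ (eqv_map (openHom N O ≫ pU) y' q.s).symm
      let n' : Spec (CommRingCat.of Ω₁) ⟶ N.left := y' ≫ (openHom N O).left
      have hn' : n'.base default ∈ O := by
        show (y' ≫ (openHom N O).left).base default ∈ O
        rw [Scheme.Hom.comp_apply]
        exact (y'.base default).2
      obtain ⟨o, hoS, hon⟩ := hn'
      obtain ⟨Ω₂, _, _, ι', t', ht', hto⟩ := exists_geom_lift ns n' o hon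
      have e1 := (key t').2 (hto.symm ▸ hoS)
      rw [ht'] at e1
      have e2 : (t' ≫ zs) ≫ h = (ι' ≫ z') ≫ h := by
        rw [Category.assoc, show zs ≫ h = ns ≫ m from pullback.condition, ← Category.assoc, ht', Category.assoc ι' n',
          Category.assoc ι' z' h, hzy']
        refine congrArg (ι' ≫ ·) ?_
        show (y' ≫ (openHom N O).left) ≫ pW.left ≫ pullback.fst V.hom f =
          (y' ≫ (openHom N O).left ≫ pW.left) ≫ pullback.fst V.hom f
        simp only [Category.assoc]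
      have e3 := Rel.trans hφ (Rel.symm hφ (hpair Ω₂ _ _ e2)) e1
      have e4 : ((z' ≫ a) ≫ T.hom) ≫ f = ((y' ≫ (openHom N O ≫ pU).left) ≫ q.U.hom) ≫ f := by
        refine (hover z' (y' ≫ (openHom N O ≫ pW).left) hzy').trans (congrArg (· ≫ f) ?_)
        exact ((Category.assoc _ _ _).trans (congrArg (y' ≫ ·) (Over.w (openHom N O ≫ pW).hom))).trans
          ((Category.assoc _ _ _).trans (congrArg (y' ≫ ·) (Over.w (openHom N O ≫ pU).hom))).symm
      refine (rel_pull_iff (φ := φ) ι' (p := (⟨T, z' ≫ a, τ⟩ : PS F' Ω₁))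
        (q := ⟨q.U, y' ≫ (openHom N O ≫ pU).left, q.s⟩) e4).1 ?_
      show Rel φ (⟨T, ι' ≫ z' ≫ a, τ⟩ : PS F' Ω₂) ⟨q.U, ι' ≫ y' ≫ (openHom N O).left ≫ pU.left, q.s⟩
      rw [show ι' ≫ z' ≫ a = (ι' ≫ z') ≫ a from (Category.assoc _ _ _).symm,
        show ι' ≫ y' ≫ (openHom N O).left ≫ pU.left = (ι' ≫ n') ≫ pU.left by simp only [n', Category.assoc]]
      exact e3
    · refine ((Scheme.Hom.comp_apply _ _ _).trans ?_).trans hy₀
      refine ((Scheme.Hom.comp_apply _ _ _).symm.trans (congrArg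
        (fun k : Spec (CommRingCat.of Ω) ⟶ W.left => k.base default) (pullback.lift_fst _ _ _))).trans ?_
      exact base_default_comp ι yl
  have hG : Presieve.IsSheafFor F'.obj R.arrows := (isSheaf_iff_isSheaf_of_type _ _).1 F'.property R hR
  let fam : Presieve.FamilyOfElements F'.obj R.arrows := fun W' g hg => hg.choose
  have hfam : fam.Compatible := fun W₁ W₂ W₃ g₁ g₂ f₁ f₂ h₁ h₂ hcomp => by
    refine huniq (g₁ ≫ f₁) _ _ (hmap f₁ g₁ _ h₁.choose_spec) ?_
    rw [hcomp]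
    exact hmap f₂ g₂ _ h₂.choose_spec
  let s := hG.amalgamate fam hfam
  have hs : ∀ (Ω : Type u) [Field Ω] [IsAlgClosed Ω] (z : Spec (CommRingCat.of Ω) ⟶ Z)
      (y : Spec (CommRingCat.of Ω) ⟶ W.left), z ≫ h = y ≫ pullback.fst V.hom f →
        Rel φ (⟨T, z ≫ a, τ⟩ : PS F' Ω) ⟨W, y, s⟩ := by
    intro Ω _ _ z y hzy
    obtain ⟨W', g, v, hg, hv⟩ : ∃ (W' : X'.Etale) (g : W' ⟶ W) (v : W'.left),
        R.arrows g ∧ g.left.base v = y.base default := by
      have eY : X'.smallEtaleTopology = (X'.smallPretopology (P := EtCoh.etaleMP) (Q := EtCoh.etaleMP)).toGrothendieck :=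
        Scheme.smallGrothendieckTopology_eq_toGrothendieck_smallPretopology X' le_rfl
      have hR' := hR
      rw [eY] at hR'
      obtain ⟨W', g, v, hg, -, hv⟩ := (Scheme.mem_toGrothendieck_smallPretopology W R).1 hR' (y.base default)
      exact ⟨W', g, v, hg, hv⟩
    haveI := etale_left g
    obtain ⟨y', hy', -⟩ := Scheme.exists_fac_of_etale_of_isSepClosed g.left y v hv
    have hh := hG.valid_glue hfam g hg
    have hr : P W' g (fam g hg) := hg.choose_spec
    have := (hr Ω z y' (hzy.trans (congrArg (· ≫ pullback.fst V.hom f) hy'.symm))).congr_right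
      (q' := (⟨W, y' ≫ g.left, s⟩ : PS F' Ω)) (hh ▸ eqv_map g y' s)
    rwa [hy'] at this
  refine ⟨⟨s, ?_⟩, hs⟩
  intro Ω₁ _ _ y y' hyy
  obtain ⟨z₁, hz₁⟩ := h.surjective ((y ≫ pullback.fst V.hom f).base default)
  obtain ⟨Ω, _, _, ι, z, hz, -⟩ := exists_geom_lift h (y ≫ pullback.fst V.hom f) z₁ hz₁
  have r1 := hs Ω z (ι ≫ y) (hz.trans (Category.assoc _ _ _).symm)
  have r2 := hs Ω z (ι ≫ y') ((hz.trans (congrArg (ι ≫ ·) hyy)).trans (Category.assoc _ _ _).symm)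
  refine (rel_pull_iff (φ := φ) ι (p := (⟨W, y, s⟩ : PS F' Ω₁)) (q := ⟨W, y', s⟩) ?_).1
    (Rel.trans hφ (Rel.symm hφ r1) r2)
  have e : ∀ t : Spec (CommRingCat.of Ω₁) ⟶ W.left, (t ≫ W.hom) ≫ f = (t ≫ pullback.fst V.hom f) ≫ V.hom :=
    fun t => ((Category.assoc _ _ _).trans ((congrArg (t ≫ ·) pullback.condition.symm).trans
      (Category.assoc _ _ _).symm))
  exact (e y).trans ((congrArg (· ≫ V.hom) hyy).trans (e y').symm)

variable (φ) in
/-- A pointed section is locally given by data compatible over an etale neighbourhood. -/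
def HasSubmersiveData : Prop :=
  ∀ (Ω : Type u) [Field Ω] [IsAlgClosed Ω] (p : PS F' Ω),
    ∃ (V : X.Etale) (v : Spec (CommRingCat.of Ω) ⟶ V.left) (_ : v ≫ V.hom = p.ξ ≫ f) (Z : Scheme.{u})
      (h : Z ⟶ V.left) (_ : EtDesc.IsUnivSubmersive h) (T : X'.Etale) (τ : F'.obj.obj (op T))
      (a : Z ⟶ T.left) (_ : (a ≫ T.hom) ≫ f = h ≫ V.hom)
      (_ : ∀ (Ω : Type u) [Field Ω] [IsAlgClosed Ω] (z z' : Spec (CommRingCat.of Ω) ⟶ Z), z ≫ h = z' ≫ h →
        Rel φ (⟨T, z ≫ a, τ⟩ : PS F' Ω) ⟨T, z' ≫ a, τ⟩)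
      (Ω₂ : Type u) (_ : Field Ω₂) (_ : IsAlgClosed Ω₂)
      (ι : Spec (CommRingCat.of Ω₂) ⟶ Spec (CommRingCat.of Ω)) (z : Spec (CommRingCat.of Ω₂) ⟶ Z),
      z ≫ h = ι ≫ v ∧ Rel φ (⟨T, z ≫ a, τ⟩ : PS F' Ω₂) (p.pull ι)

include hφ in
theorem ψ_surjective_submersive (hd : HasSubmersiveData φ) {Ω : Type u} [Field Ω] [IsAlgClosed Ω]
    (ξ : Spec (CommRingCat.of Ω) ⟶ X') : Function.Surjective ((Scheme.pointSmallEtale ξ).sheafFiber.map (ψ φ)) := by
  intro b
  obtain ⟨U, z₀, σ₀, rfl⟩ := germ_surjective ξ F' b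
  let p : PS F' Ω := ⟨U, z₀.left, σ₀⟩
  have hpξ : p.ξ = ξ := Over.w z₀
  obtain ⟨V, v, hv, Z, h, hh, T, τ, a, hc, hpair, Ω₂, _, _, ι, z, hz, hrel⟩ := hd Ω p
  obtain ⟨s, hs⟩ := exists_spread_submersive hφ h hh T τ a hc hpair
  let vv : (Scheme.pointSmallEtale (ξ ≫ f)).fiber.obj V := ptMk v (hv.trans (congrArg (· ≫ f) hpξ))
  refine ⟨germ ξ ((EtDesc.pullSh f).obj (descSh φ)) _ ((fiberCompIso f ξ).inv.app V vv)
    (pullSect f (descSh φ) s), ?_⟩
  rw [ψ_germ]
  let y₁ := ((fiberCompIso f ξ).inv.app V vv).left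
  have hy₁ : y₁ ≫ pullback.fst V.hom f = v := fci_inv_fst f ξ vv
  have hξ : y₁ ≫ ((EtCoh.bc f).obj V).hom = ξ := Over.w ((fiberCompIso f ξ).inv.app V vv)
  have r := hs Ω₂ z (ι ≫ y₁) (hz.trans ((congrArg (ι ≫ ·) hy₁.symm).trans (Category.assoc _ _ _).symm))
  have he : Eqv (⟨(EtCoh.bc f).obj V, y₁, s.1⟩ : PS F' Ω) p := by
    refine (eqv_pull_iff ι (hξ.trans hpξ.symm)).1 (r.eqv_right hrel ?_)
    exact ((Category.assoc _ _ _).trans (congrArg (ι ≫ ·) (hξ.trans hpξ.symm))).trans (Category.assoc _ _ _).symm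
  exact he.germ_eq ξ hξ hpξ

include hφ in
/-- **Effective descent along universally open morphisms with local data.** -/
theorem isEffective_of_submersive (ho : EtDesc.IsUnivSubmersive f) (hd : HasSubmersiveData φ) : EtDesc.IsEffective f F' φ := by
  haveI : IsIso (ψ φ) := H18Et.isIso_of_stalkSh _ fun x' => by
    obtain ⟨Ω, _, _, ξ, hξ⟩ : ∃ (Ω : Type u) (_ : Field Ω) (_ : IsAlgClosed Ω)
        (ξ : Spec (CommRingCat.of Ω) ⟶ X'), ξ.base default = x' :=
      ⟨AlgebraicClosure (X'.residueField x'), inferInstance, inferInstance,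
        Spec.map (CommRingCat.ofHom (algebraMap (X'.residueField x') _)) ≫ X'.fromSpecResidueField x',
        (Scheme.Hom.comp_apply _ _ _).trans (X'.fromSpecResidueField_apply x' _)⟩
    exact ⟨Ω, inferInstance, inferInstance, ξ, hξ, ψ_injective_submersive φ ho ξ, ψ_surjective_submersive hφ hd ξ⟩
  refine ⟨descSh φ, asIso (ψ φ), Iso.ext ?_⟩
  show ((EtDesc.pullSh (pullback.fst f f)).mapIso (asIso (ψ φ))).inv ≫ (EtDesc.canIso f (descSh φ)).hom ≫
    (EtDesc.pullSh (pullback.snd f f)).map (ψ φ) = φ.hom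
  rw [Iso.inv_comp_eq]
  exact canIso_ψ φ

end Groth.Agent.H11SetBC.SubDesc
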